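import Groth.Agent.Lib.Contract29.AmpleContraction
import Groth.Agent.Lib.ArSurf29.GenusZeroComp
import Groth.Agent.Lib.ArSurf29.RelMinExists
import Groth.Agent.Lib.Ample.QuasiProj
import Groth.Agent.Lib.HilbDesc10.Stage

/-!
# Castelnuovo's contraction on arithmetic surfaces
-/

universe u

set_option linter.all false
set_option backward.isDefEq.respectTransparency false

open CategoryTheory CategoryTheory.Limits AlgebraicGeometry Opposite TopologicalSpace IsLocalRing

noncomputable section

namespace GrothLib.Contract29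

/-- A line with self-intersection minus the degree of its field of constants is exceptional. -/
theorem isExcCurve_of_projLine {R : Type u} [CommRing R] [IsDomain R] [IsDiscreteValuationRing R]
    {X : Over (Spec (CommRingCat.of R))} (hX : ArSurf.IsArithSurface R X) (E : ArSurf.VertComp R X)
    {k' : Type u} [Field k'] [Algebra (ResidueField R) k']
    (e : E.curve.left ≅ CohB1.ProjSpace 1 k')
    (he : e.hom ≫ (CohB1.ProjSpace 1 k' ↘ Spec (CommRingCat.of k')) ≫
      Spec.map (CommRingCat.ofHom (algebraMap (ResidueField R) k')) = E.curve.hom)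
    {L : X.left.Modules} (hL : ClSub.IsInverseOf L (ClSub.idealMod E.ι.ker))
    (hself : ArSurf.inter R X L E = -(Module.finrank (ResidueField R) k' : ℤ)) : Models.IsExcCurve E.ι := by
  haveI := ArSurf29.isProper_of_isArithSurface hX
  haveI := ArSurf29.isLocallyNoetherian_of_isArithSurface hX
  haveI := hX.2.1
  haveI : Flat X.hom := hX.2.2.2.1
  have hE := ArSurf29.isEffCartier_ker (ArSurf29.isMaxComp_of_isArithSurface hX E) hX.1
  let P := CohB1.ProjSpace 1 k'
  let φ := algebraMap (ResidueField R) k'
  let q' : P ⟶ Spec (CommRingCat.of k') := P ↘ Spec (CommRingCat.of k')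
  let q : P ⟶ Spec (CommRingCat.of (ResidueField R)) := q' ≫ Spec.map (CommRingCat.ofHom φ)
  have hφ : ∀ a, Coh.toGlobal q a = Coh.toGlobal q' (φ a) := fun a => by
    show q.appTop ((Scheme.ΓSpecIso (CommRingCat.of (ResidueField R))).inv a) =
      q'.appTop ((Scheme.ΓSpecIso (CommRingCat.of k')).inv (φ a))
    rw [Scheme.Hom.comp_appTop, CommRingCat.comp_apply]
    exact congrArg q'.appTop (congrArg (fun m => (ConcreteCategory.hom m) a)
      (Scheme.ΓSpecIso_inv_naturality (CommRingCat.ofHom φ))).symm
  letI : P.Over (Spec (CommRingCat.of (ResidueField R))) := ⟨q⟩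
  have hstr : ∀ i, Module.finrank (ResidueField R) (Coh.HH E.curve.left (Coh.structureModule E.curve.left) i) =
      Module.finrank (ResidueField R) k' * Module.finrank k' (Coh.HH P (Coh.structureModule P) i) := fun i => by
    obtain ⟨f⟩ := ArSurf29.nonempty_HH_structure_iso (ResidueField R) (Z := E.curve.left) (Y := P) e.hom he i
    rw [f.finrank_eq, ArSurf29.finrank_HH_mul (ResidueField R) q q' φ hφ]
    rw [show φ.toAlgebra = ‹Algebra (ResidueField R) k'› from Algebra.algebra_ext _ _ fun r => rfl]
  haveI : Subsingleton (Coh.HH P (Coh.structureModule P) 1) := ProjCohom.subsingleton_HH_structure one_pos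
  refine ArSurf29.isExcCurve_of_h1_inter E hE hL ?_ ?_
  · rw [Models.h1, hstr, Module.finrank_zero_of_subsingleton (M := Coh.HH P (Coh.structureModule P) 1), mul_zero]
  · rw [hself, Models.wdeg, hstr, ArSurf29.finrank_H0_P1, mul_one]

/-- A morphism which is an isomorphism over an open containing the generic fibre is an isomorphism of generic fibres. -/
theorem isIso_genericFibre_map {R : Type u} [CommRing R] [IsDedekindDomain R] {X Y : Over (Spec (CommRingCat.of R))}
    (g : X ⟶ Y) (U : Y.left.Opens) [IsIso (g.left ∣_ U)]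
    (h : ∀ y : Y.left, (Y.hom y).asIdeal = ⊥ → y ∈ U) : IsIso ((Neron.genericFibre R).map g) := by
  haveI : IsIso ((Neron.genericFibre R).map g).left := by
    let m := ((Neron.genericFibre R).map g).left
    have hm1 : m ≫ pullback.fst Y.hom (Neron.genPt R) = pullback.fst X.hom (Neron.genPt R) ≫ g.left :=
      ArSurf29.genericFibre_map_fst g
    have hgen : ∀ z, (Y.hom (pullback.fst Y.hom (Neron.genPt R) z)).asIdeal = ⊥ := fun z =>
      (ArSurf29.range_fst_genPt Y.hom).le ⟨z, rfl⟩
    have hsq : IsPullback (pullback.fst X.hom (Neron.genPt R)) m g.left (pullback.fst Y.hom (Neron.genPt R)) := by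
      refine IsPullback.of_bot ?_ hm1.symm (IsPullback.of_hasPullback Y.hom (Neron.genPt R))
      have := IsPullback.of_hasPullback X.hom (Neron.genPt R)
      convert this using 1
      · exact Over.w ((Neron.genericFibre R).map g)
      · exact Over.w g
    let l := IsOpenImmersion.lift U.ι (pullback.fst Y.hom (Neron.genPt R)) (by
      rw [Scheme.Opens.range_ι]
      rintro _ ⟨z, rfl⟩
      exact h _ (hgen z))
    have hl : l ≫ U.ι = pullback.fst Y.hom (Neron.genPt R) := IsOpenImmersion.lift_fac _ _ _
    let l' := (isPullback_morphismRestrict g.left U).flip.lift (pullback.fst X.hom (Neron.genPt R)) (m ≫ l)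
      (by rw [Category.assoc, hl, hm1])
    have h2 : IsPullback l' m (g.left ∣_ U) l := by
      refine IsPullback.of_right ?_ (IsPullback.lift_snd _ _ _ _) (isPullback_morphismRestrict g.left U).flip
      rwa [IsPullback.lift_fst, hl]
    exact MorphismProperty.of_isPullback (P := MorphismProperty.isomorphisms Scheme.{u}) h2
      (inferInstanceAs (IsIso (g.left ∣_ U)))
  haveI : IsIso ((Over.forget _).map ((Neron.genericFibre R).map g)) := ‹_›
  exact isIso_of_reflects_iso _ (Over.forget _)

/-- A proper scheme with an ample module is projective. -/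
theorem isProjectiveOver_of_isAmple {R : Type u} [CommRing R] (X : Over (Spec (CommRingCat.of R))) [IsProper X.hom]
    {L : X.left.Modules} (hL : CohB1.IsAmple L) : Neron.IsProjectiveOver R X := by
  obtain ⟨n, i, hi, hif⟩ := Ample.exists_immersion_of_isAmple X.hom hL
  haveI : IsProper (CohB1.ProjSpaceOver.toBase n (Spec (CommRingCat.of R))) := Chow.isProper_toBase n _
  haveI : IsProper (i ≫ CohB1.ProjSpaceOver.toBase n (Spec (CommRingCat.of R))) := hif ▸ inferInstance
  haveI : IsProper i := IsProper.of_comp i (CohB1.ProjSpaceOver.toBase n _)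
  haveI := hi
  exact ⟨n, i, Chow.isClosedImmersion_of_isImmersion_of_isProper i, hif⟩

/-- Castelnuovo: an exceptional curve in a closed fibre of an arithmetic surface contracts to an arithmetic surface. -/
theorem exists_arith_contraction_dedekind {R : Type u} [CommRing R] [IsDedekindDomain R]
    {X : Over (Spec (CommRingCat.of R))} (hX : ArSurf.IsArithSurface R X) {E : Scheme.{u}} (ι : E ⟶ X.left)
    [IsClosedImmersion ι] [Nonempty E] (hE : Models.IsExcCurve ι) {p : Spec (CommRingCat.of R)}
    (hp : p.asIdeal ≠ ⊥) (hι : ∀ a, X.hom (ι a) = p) :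
    ∃ (Y : Over (Spec (CommRingCat.of R))) (f : X ⟶ Y) (y : Y.left) (hy : IsClosed ({y} : Set Y.left)),
      ArSurf.IsArithSurface R Y ∧ Models.IsContractionOf ι f.left ∧ IsIso ((Neron.genericFibre R).map f) ∧
      Set.range (ι ≫ f.left) = {y} ∧ f.left ⁻¹' {y} = Set.range ι ∧
      IsIso (f.left ∣_ (⟨{y}ᶜ, hy.isOpen_compl⟩ : Y.left.Opens)) := by
  haveI := hX.2.1
  haveI : Flat X.hom := hX.2.2.2.1
  obtain ⟨hreg, -, hdim, -, n, i, hi, hw⟩ := id hX
  haveI := hi
  haveI := Chow.isProper_toBase n (Spec (CommRingCat.of R))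
  haveI : IsProper X.hom := hw ▸ inferInstance
  have hA := Ample.isAmple_pullback_of_isAffineHom i (HilbDesc10.isAmple_twistOver n (Spec (CommRingCat.of R)))
  obtain ⟨Y, b, g, hc, hbg, hg, happ, ⟨y, hy, hfib, hpunct⟩, _, L', hL', -⟩ :=
    exists_contraction_of_ample X.hom hA ι hE
  haveI := hg
  haveI := hpunct
  let f : X ⟶ Over.mk g := Over.homMk b hbg
  haveI : IsProper (Over.mk g).hom := hg
  have hry : Set.range (ι ≫ b) = {y} := by
    refine Set.eq_singleton_iff_nonempty_unique_mem.2 ⟨Set.range_nonempty _, ?_⟩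
    rintro _ ⟨a, rfl⟩
    exact hfib.le ⟨a, rfl⟩
  obtain ⟨a₀⟩ := ‹Nonempty E›
  have hby : b (ι a₀) = y := hfib.le ⟨_, rfl⟩
  have hys : g y = p := by
    rw [← hby, ← Scheme.Hom.comp_apply, hbg]
    exact hι a₀
  haveI : IsIso (f.left ∣_ (⟨{y}ᶜ, hy.isOpen_compl⟩ : Y.Opens)) := hpunct
  haveI : IsIso ((Neron.genericFibre R).map f) := isIso_genericFibre_map f ⟨{y}ᶜ, hy.isOpen_compl⟩ fun z hz hzy => by
    have hz' : (g z).asIdeal = ⊥ := hz
    rw [show z = y from hzy, hys] at hz'
    exact hp hz'
  have hregY : ∀ z : Y, IsRegularLocalRing (Y.presheaf.stalk z) := fun z => by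
    by_cases hzy : z = y
    · obtain ⟨-, -, y', hy', hr, hry', -⟩ := hc
      obtain rfl : y' = y := Set.singleton_eq_singleton_iff.1 (hr.symm.trans hry)
      exact hzy ▸ hry'
    · let U : Y.Opens := ⟨{y}ᶜ, hy.isOpen_compl⟩
      let j : (U : Scheme.{u}) ⟶ X.left := inv (b ∣_ U) ≫ (b ⁻¹ᵁ U).ι
      haveI := hreg (j ⟨z, hzy⟩)
      exact IsRegularLocalRing.of_ringEquiv
        ((asIso (j.stalkMap ⟨z, hzy⟩)).commRingCatIsoToRingEquiv.trans (U.stalkIso ⟨z, hzy⟩).commRingCatIsoToRingEquiv)
  haveI : Flat (Over.mk g).hom := by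
    show Flat g
    obtain ⟨_, hbη⟩ : ∃ _ : IsIntegral Y, g (genericPoint Y) = genericPoint (Spec (CommRingCat.of R)) := by
      haveI : IrreducibleSpace Y := by
        have hsurj : Function.Surjective b := fun z => by
          by_cases hzy : z = y
          · exact ⟨_, hby.trans hzy.symm⟩
          · obtain ⟨x, hx⟩ := (b ∣_ (⟨{y}ᶜ, hy.isOpen_compl⟩ : Y.Opens)).homeomorph.surjective ⟨z, hzy⟩
            exact ⟨x.1, (morphismRestrict_base_coe b _ x).symm.trans (congrArg Subtype.val hx)⟩
        refine { isPreirreducible_univ := ?_, toNonempty := ⟨y⟩ }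
        have := ((IrreducibleSpace.isIrreducible_univ X.left).image b b.continuous.continuousOn).2
        rwa [Set.image_univ, hsurj.range_eq] at this
      haveI : ∀ z : Y, _root_.IsReduced (Y.presheaf.stalk z) := fun z => by
        haveI := hregY z
        haveI := CMFree.isDomain_of_isRegularLocalRing (Y.presheaf.stalk z)
        infer_instance
      haveI : IsReduced Y := isReduced_of_isReduced_stalk _
      haveI : IsIntegral Y := isIntegral_of_irreducibleSpace_of_isReduced _
      refine ⟨inferInstance, ?_⟩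
      have h0 : X.hom (genericPoint X.left) = genericPoint (Spec (CommRingCat.of R)) := by
        refine (genericPoint_spec (Spec (CommRingCat.of R))).eq ?_ |>.symm
        rw [show X.hom (genericPoint X.left) = (⊥ : PrimeSpectrum R) from PrimeSpectrum.ext (ArSurf29.hom_genericPoint X.hom)]
        exact Set.eq_univ_of_forall fun q => specializes_iff_mem_closure.1 ((PrimeSpectrum.le_iff_specializes _ q).1 bot_le)
      exact ((genericPoint_specializes (g (genericPoint Y))).antisymm (by
        rw [← h0, ← hbg, Scheme.Hom.comp_apply]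
        exact (genericPoint_specializes (b (genericPoint X.left))).map g.continuous)).eq.symm
    refine CurvePoints.flat_of_dominant ?_ (fun q => ?_) g hbη
    · exact (PrimeSpectrum.topologicalKrullDim_eq_ringKrullDim R).le.trans
        (Ring.krullDimLE_iff.1 inferInstance)
    · exact IsIntegrallyClosed.of_equiv (StructureSheaf.stalkIso R q).toRingEquiv
  obtain ⟨hint, -, -⟩ := ArSurf29.target_integral f hregY
  have hdimY : topologicalKrullDim Y = 2 :=
    ArSurf29.target_dim f hregY hdim fun hF => hp (by letI := hF.toField; exact (Ideal.eq_bot_or_top _).resolve_right p.isPrime.ne_top)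
  exact ⟨Over.mk g, f, y, hy, ⟨hregY, hint, hdimY, ‹Flat (Over.mk g).hom›,
    isProjectiveOver_of_isAmple (Over.mk g) hL'⟩, hc, ‹_›, hry, hfib.symm, hpunct⟩

/-- Castelnuovo: an exceptional vertical curve of an arithmetic surface contracts to an arithmetic surface. -/
theorem exists_arith_contraction {R : Type u} [CommRing R] [IsDomain R] [IsDiscreteValuationRing R]
    {X : Over (Spec (CommRingCat.of R))} (hX : ArSurf.IsArithSurface R X) (E : ArSurf.VertComp R X)
    (hE : Models.IsExcCurve E.ι) :
    ∃ (Y : Over (Spec (CommRingCat.of R))) (f : X ⟶ Y) (y : Y.left) (hy : IsClosed ({y} : Set Y.left)),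
      ArSurf.IsArithSurface R Y ∧ Models.IsContractionOf E.ι f.left ∧ IsIso ((Neron.genericFibre R).map f) ∧
      Set.range (E.ι ≫ f.left) = {y} ∧ f.left ⁻¹' {y} = Set.range E.ι ∧
      IsIso (f.left ∣_ (⟨{y}ᶜ, hy.isOpen_compl⟩ : Y.left.Opens)) :=
  haveI := E.isClosedImmersion
  haveI := E.isIntegral
  exists_arith_contraction_dedekind hX E.ι hE (IsDiscreteValuationRing.not_a_field R)
    fun a => ArSurf29.range_subset_fibre E ⟨a, rfl⟩

/-- A relatively minimal arithmetic surface has no exceptional curve in its closed fibres. -/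
theorem not_isExcCurve_of_relMinimal {R : Type u} [CommRing R] [IsDedekindDomain R]
    {X : Over (Spec (CommRingCat.of R))} (hX : ArSurf.IsArithSurface R X)
    (m : Neron.IsRelMinimalRegularModel R X) {E : Scheme.{u}} (ι : E ⟶ X.left) [IsClosedImmersion ι]
    {p : Spec (CommRingCat.of R)} (hp : p.asIdeal ≠ ⊥) (hι : ∀ a, X.hom (ι a) = p) : ¬ Models.IsExcCurve ι := by
  intro hE
  obtain ⟨-, k, _, e, -⟩ := id hE
  haveI : IsIntegral (CohB1.ProjSpace 1 k) := ProjDim.isIntegral_proj _ 1
  haveI : Nonempty E := ⟨e.hom (genericPoint _)⟩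
  obtain ⟨Y, f, y, hy, hY, -, hgen, hr, -, -⟩ := exists_arith_contraction_dedekind hX ι hE hp hι
  haveI := m.2.2.2 Y hY.1 hY.2.2.2.2 hY.2.2.2.1 f hgen
  haveI : IsIso f.left := (Over.forget _).map_isIso f
  have hsub : ∀ a b : CohB1.ProjSpace 1 k, a = b := fun a b => e.hom.homeomorph.injective
    (ι.isClosedEmbedding.injective (f.left.homeomorph.injective
      ((show (ι ≫ f.left) (e.hom a) = y from hr.le ⟨_, rfl⟩).trans
        (show (ι ≫ f.left) (e.hom b) = y from hr.le ⟨_, rfl⟩).symm)))
  haveI : Subsingleton (CohB1.ProjSpace 1 k) := ⟨hsub⟩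
  have h0 := topologicalKrullDim_zero_of_discreteTopology (CohB1.ProjSpace 1 k)
  rw [Groth.Agent.S10829.result] at h0
  exact absurd h0 (by norm_num)

end GrothLib.Contract29
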