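import Groth.Agent.Lib.ArSurf29.Spread
import Mathlib.AlgebraicGeometry.SpreadingOut
import Mathlib.AlgebraicGeometry.RationalMap

/-!
# Gluing morphisms given on the local rings
-/

universe u

set_option linter.all false
set_option backward.isDefEq.respectTransparency false

open CategoryTheory CategoryTheory.Limits AlgebraicGeometry TopologicalSpace

noncomputable section

namespace GrothLib.Contract29

theorem exists_spread_of_local {X Y S : Scheme.{u}} [IsIntegral X] (p : X ⟶ S) (q : Y ⟶ S) [LocallyOfFiniteType q]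
    {T : Scheme.{u}} (t : T ⟶ X) (θ : T ⟶ Y) {Z : Scheme.{u}} (a : Z ⟶ X) [IsPreimmersion a] [Flat a] (z : Z)
    (h : Z ⟶ Y) (hh : h ≫ q = a ≫ p) (τ : T ⟶ Spec (Z.presheaf.stalk z))
    (hτ : τ ≫ Z.fromSpecStalk z ≫ a = t) (hτh : τ ≫ Z.fromSpecStalk z ≫ h = θ) :
    ∃ (U : X.Opens) (tU : T ⟶ (U : Scheme.{u})) (g : (U : Scheme.{u}) ⟶ Y), a z ∈ U ∧ tU ≫ U.ι = t ∧
      tU ≫ g = θ ∧ g ≫ q = U.ι ≫ p := by
  haveI := ArSurf29.isIso_stalkMap_of_flat_preimmersion a z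
  let σ := Spec.map (a.stalkMap z)
  have hσ : σ ≫ X.fromSpecStalk (a z) = Z.fromSpecStalk z ≫ a := Scheme.SpecMap_stalkMap_fromSpecStalk a
  obtain ⟨U, hxU, g, hg, hgq⟩ := spread_out_of_isGermInjective' (sX := p) (sY := q) (x := a z)
    (inv σ ≫ Z.fromSpecStalk z ≫ h) (by
      simp only [Category.assoc, hh]
      rw [← reassoc_of% hσ, IsIso.inv_hom_id_assoc])
  refine ⟨U, τ ≫ σ ≫ U.fromSpecStalkOfMem (a z) hxU, g, hxU, ?_, ?_, hgq⟩
  · simp only [Category.assoc, Scheme.Opens.fromSpecStalkOfMem_ι]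
    rw [hσ, hτ]
  · simp only [Category.assoc]
    rw [← hg, IsIso.hom_inv_id_assoc, hτh]

theorem exists_glue_opens {X Y : Scheme.{u}} (U : X → X.Opens) (hU : ∀ x, x ∈ U x)
    (g : ∀ x, (U x : Scheme.{u}) ⟶ Y)
    (h : ∀ x y, X.homOfLE (inf_le_left : U x ⊓ U y ≤ U x) ≫ g x = X.homOfLE (inf_le_right : U x ⊓ U y ≤ U y) ≫ g y) :
    ∃ G : X ⟶ Y, ∀ x, (U x).ι ≫ G = g x := by
  let 𝒰 : X.OpenCover := X.openCoverOfIsOpenCover U (IsOpenCover.mk (eq_top_iff.2 fun x _ =>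
    Opens.mem_iSup.2 ⟨x, hU x⟩))
  have hg : ∀ x y : X, pullback.fst (U x).ι (U y).ι ≫ g x = pullback.snd (U x).ι (U y).ι ≫ g y := fun x y => by
    have hpb := isPullback_opens_inf (U x) (U y)
    rw [← hpb.isoPullback_inv_fst, ← hpb.isoPullback_inv_snd, Category.assoc, Category.assoc, h]
  exact ⟨𝒰.glueMorphisms g hg, fun x => Scheme.Cover.ι_glueMorphisms 𝒰 g hg x⟩

theorem exists_hom_of_local {X Y S C : Scheme.{u}} [IsIntegral X] [IsIntegral C] (p : X ⟶ S) (q : Y ⟶ S)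
    [IsSeparated q] [LocallyOfFiniteType q] (j : C ⟶ X) (hj : j (genericPoint C) = genericPoint X) (ψ : C ⟶ Y)
    (H : ∀ x : X, ∃ (Z : Scheme.{u}) (a : Z ⟶ X) (z : Z) (k : C ⟶ Z) (h : Z ⟶ Y),
      IsPreimmersion a ∧ Flat a ∧ a z = x ∧ k ≫ a = j ∧ k ≫ h = ψ ∧ h ≫ q = a ≫ p) :
    ∃ g : X ⟶ Y, g ≫ q = p ∧ j ≫ g = ψ := by
  let c := genericPoint C
  let T := Spec (C.presheaf.stalk c)
  let t : T ⟶ C := C.fromSpecStalk c
  have hdom : ∀ {W : Scheme.{u}} [IrreducibleSpace W] (m : T ⟶ W) (w : W), w = genericPoint W → w ∈ Set.range m →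
      IsDominant m := fun {W} _ m w hw hv => (isDominant_iff m).2 (dense_iff_closure_eq.2
        (Set.eq_univ_of_forall fun y => closure_mono (Set.singleton_subset_iff.2 hv)
          (specializes_iff_mem_closure.1 (hw ▸ genericPoint_specializes y))))
  have hloc : ∀ x : X, ∃ (U : X.Opens) (tU : T ⟶ (U : Scheme.{u})) (g : (U : Scheme.{u}) ⟶ Y), x ∈ U ∧
      tU ≫ U.ι = t ≫ j ∧ tU ≫ g = t ≫ ψ ∧ g ≫ q = U.ι ≫ p := fun x => by
    obtain ⟨Z, a, z, k, h, ha, ha', rfl, hk, hkh, hh⟩ := H x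
    haveI := ha; haveI := ha'
    have hs : k c ⤳ z := by
      refine a.isEmbedding.isInducing.specializes_iff.1 ?_
      rw [← Scheme.Hom.comp_apply, hk, hj]
      exact genericPoint_specializes _
    refine exists_spread_of_local p q (t ≫ j) (t ≫ ψ) a z h hh
      (Spec.map (Z.presheaf.stalkSpecializes hs ≫ k.stalkMap c)) ?_ ?_
    · rw [Spec.map_comp, Category.assoc, Scheme.SpecMap_stalkSpecializes_fromSpecStalk_assoc,
        Scheme.SpecMap_stalkMap_fromSpecStalk_assoc, hk]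
    · rw [Spec.map_comp, Category.assoc, Scheme.SpecMap_stalkSpecializes_fromSpecStalk_assoc,
        Scheme.SpecMap_stalkMap_fromSpecStalk_assoc, hkh]
  choose U tU g hxU htU htg hgq using hloc
  have hagree : ∀ x y, X.homOfLE (inf_le_left : U x ⊓ U y ≤ U x) ≫ g x =
      X.homOfLE (inf_le_right : U x ⊓ U y ≤ U y) ≫ g y := fun x y => by
    have hr : ∀ z, Set.range (t ≫ j) ⊆ (U z : Set X) := fun z => by
      rw [← htU z]
      rintro _ ⟨v, rfl⟩
      exact (tU z v).2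
    let tW : T ⟶ ((U x ⊓ U y : X.Opens) : Scheme.{u}) := IsOpenImmersion.lift (U x ⊓ U y).ι (t ≫ j) (by
      rw [Scheme.Opens.range_ι]
      exact fun v hv => ⟨hr x hv, hr y hv⟩)
    have htW : tW ≫ (U x ⊓ U y).ι = t ≫ j := IsOpenImmersion.lift_fac _ _ _
    have hη : genericPoint X ∈ U x ⊓ U y := by
      have : genericPoint X ∈ Set.range (t ≫ j) := ⟨IsLocalRing.closedPoint (C.presheaf.stalk c), by
        rw [Scheme.Hom.comp_apply, Scheme.fromSpecStalk_closedPoint, hj]⟩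
      exact ⟨hr x this, hr y this⟩
    haveI : Nonempty (U x ⊓ U y : X.Opens) := ⟨⟨_, hη⟩⟩
    haveI : IsIntegral ((U x ⊓ U y : X.Opens) : Scheme.{u}) := isIntegral_of_isOpenImmersion (U x ⊓ U y).ι
    haveI : IsDominant tW := hdom tW ⟨_, hη⟩
      ((U x ⊓ U y).ι.isOpenEmbedding.injective (genericPoint_eq_of_isOpenImmersion (U x ⊓ U y).ι).symm)
      ⟨IsLocalRing.closedPoint (C.presheaf.stalk c), Subtype.ext (by
        show (tW ≫ (U x ⊓ U y).ι) (IsLocalRing.closedPoint _) = _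
        rw [htW, Scheme.Hom.comp_apply, Scheme.fromSpecStalk_closedPoint, hj])⟩
    refine ext_of_isDominant_of_isSeparated q (by simp [hgq]) tW ?_
    have e : ∀ (z : X) (hle : U x ⊓ U y ≤ U z), tW ≫ X.homOfLE hle = tU z := fun z hle => by
      rw [← cancel_mono (U z).ι, Category.assoc, Scheme.homOfLE_ι, htW, htU]
    rw [← Category.assoc, ← Category.assoc, e, e, htg, htg]
  obtain ⟨G, hG⟩ := exists_glue_opens U hxU g hagree
  have hGq : G ≫ q = p := Scheme.hom_ext_of_forall _ _ fun x => ⟨U x, hxU x, by rw [← Category.assoc, hG, hgq]⟩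
  haveI : IsDominant t := hdom t c rfl ⟨IsLocalRing.closedPoint _, Scheme.fromSpecStalk_closedPoint⟩
  obtain ⟨x⟩ : Nonempty X := inferInstance
  obtain ⟨Z, a, z, k, h, -, -, -, hk, hkh, hh⟩ := H x
  refine ⟨G, hGq, ext_of_isDominant_of_isSeparated q ?_ t ?_⟩
  · rw [Category.assoc, hGq, ← hkh, Category.assoc, hh, ← Category.assoc, hk]
  · rw [← Category.assoc, ← htU x, Category.assoc, hG, htg]

end GrothLib.Contract29
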