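import Groth.Agent.Lib.Contract29.RelMin
import Groth.Agent.Lib.Contract29.GlueHom

/-!
# Uniqueness of relatively minimal models over a Dedekind domain
-/

universe u

set_option linter.all false
set_option backward.isDefEq.respectTransparency false

open CategoryTheory CategoryTheory.Limits AlgebraicGeometry Opposite TopologicalSpace IsLocalRing

noncomputable section

namespace GrothLib.Contract29

section Curve

variable {R : Type u} [CommRing R] [IsDedekindDomain R] {X : Over (Spec (CommRingCat.of R))}

theorem isPreimmersion_genPt : IsPreimmersion (Neron.genPt R) := IsPreimmersion.of_isLocalization (nonZeroDivisors R)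

theorem flat_genPt : Flat (Neron.genPt R) := Flat.SpecMap_iff.2
  (RingHom.flat_algebraMap_iff.2 (IsLocalization.flat _ (nonZeroDivisors R)))

theorem isIntegral_pullback_preimmersion {T : Scheme.{u}} (m : T ⟶ Spec (CommRingCat.of R)) [IsPreimmersion m] [Flat m]
    [IsIntegral X.left] (h : X.hom (genericPoint X.left) ∈ Set.range m) :
    IsIntegral (pullback X.hom m) := by
  obtain ⟨c, hc⟩ : genericPoint X.left ∈ Set.range (pullback.fst X.hom m) := by
    rw [Scheme.Pullback.range_fst]; exact h
  haveI : IrreducibleSpace ↥(pullback X.hom m) := by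
    refine { isPreirreducible_univ := ?_, toNonempty := ⟨c⟩ }
    rw [← show closure {c} = Set.univ from Set.eq_univ_of_forall fun y => specializes_iff_mem_closure.1
      ((pullback.fst X.hom m).isEmbedding.isInducing.specializes_iff.1 (hc ▸ genericPoint_specializes _))]
    exact isIrreducible_singleton.closure.2
  haveI : ∀ z : ↥(pullback X.hom m), _root_.IsReduced ((pullback X.hom m).presheaf.stalk z) := fun z => by
    haveI := ArSurf29.isIso_stalkMap_of_flat_preimmersion (pullback.fst X.hom m) z
    exact isReduced_of_injective _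
      (ConcreteCategory.bijective_of_isIso (inv ((pullback.fst X.hom m).stalkMap z))).1
  haveI : IsReduced (pullback X.hom m) := isReduced_of_isReduced_stalk _
  exact isIntegral_of_irreducibleSpace_of_isReduced _

variable (hX : ArSurf.IsArithSurface R X)
include hX

theorem isProper_arith : IsProper X.hom := by
  obtain ⟨-, -, -, -, n, i, hi, hw⟩ := hX
  haveI := hi
  haveI := Chow.isProper_toBase n (Spec (CommRingCat.of R))
  exact hw ▸ inferInstance

theorem mem_range_genPt [IsIntegral X.left] : X.hom (genericPoint X.left) ∈ Set.range (Neron.genPt R) := by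
  haveI : Flat X.hom := hX.2.2.2.1
  obtain ⟨c, hc⟩ : genericPoint X.left ∈ Set.range (pullback.fst X.hom (Neron.genPt R)) :=
    (ArSurf29.range_fst_genPt X.hom).ge (ArSurf29.hom_genericPoint X.hom)
  refine ⟨pullback.snd X.hom (Neron.genPt R) c, ?_⟩
  rw [← hc, ← Scheme.Hom.comp_apply, ← pullback.condition]
  rfl

theorem isIntegral_genericFibre : IsIntegral (pullback X.hom (Neron.genPt R)) := by
  haveI := hX.2.1
  haveI := isPreimmersion_genPt (R := R); haveI := flat_genPt (R := R)
  exact isIntegral_pullback_preimmersion (Neron.genPt R) (mem_range_genPt hX)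

theorem dim_genericFibre (hR : ¬ IsField R) : topologicalKrullDim ↥(pullback X.hom (Neron.genPt R)) = 1 := by
  haveI := hX.2.1
  haveI : Flat X.hom := hX.2.2.2.1
  haveI := isProper_arith hX
  haveI := isPreimmersion_genPt (R := R); haveI := flat_genPt (R := R)
  haveI := isIntegral_genericFibre hX
  let C := pullback X.hom (Neron.genPt R)
  let j := pullback.fst X.hom (Neron.genPt R)
  have hjg : ∀ c, (X.hom (j c)).asIdeal = ⊥ := fun c => (ArSurf29.range_fst_genPt X.hom).le ⟨c, rfl⟩
  obtain ⟨c₀, hc₀⟩ : genericPoint X.left ∈ Set.range j :=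
    (ArSurf29.range_fst_genPt X.hom).ge (ArSurf29.hom_genericPoint X.hom)
  refine le_antisymm ?_ ?_
  · refine (IsHomeomorph.topologicalKrullDim_eq _ (Homeomorph.Set.univ C).isHomeomorph).ge.trans ?_
    refine Snapper.dim_le_of_dimLT isClosed_univ (d := 1) fun l _ => ?_
    by_contra hl
    push Not at hl
    let a := l ⟨l.length, by omega⟩
    let b := l ⟨l.length - 1, by omega⟩
    let d := l ⟨l.length - 2, by omega⟩
    have hba : b < a := l.strictMono (Fin.mk_lt_mk.2 (by omega))
    have hdb : d < b := l.strictMono (Fin.mk_lt_mk.2 (by omega))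
    obtain ⟨m, hm⟩ := Ideal.exists_maximal R
    obtain ⟨e, hde, he⟩ := X.hom.isClosedMap.specializingMap (a := j d)
      (show X.hom (j d) ⤳ (⟨m, hm.isPrime⟩ : PrimeSpectrum R) from (PrimeSpectrum.le_iff_specializes _ _).1 (by
        show (X.hom (j d)).asIdeal ≤ m
        rw [hjg]; exact bot_le))
    refine ArSurf29.no_chain_four hX.2.2.1.le (a := j a) (b := j b) (c := j d) (d := e)
      ((show a ⤳ b from hba.le).map j.continuous) ((show b ⤳ d from hdb.le).map j.continuous) hde
      (fun h => hba.ne' (j.isEmbedding.injective h)) (fun h => hdb.ne' (j.isEmbedding.injective h)) fun h => ?_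
    have h' : (X.hom (j d)).asIdeal = m := by rw [h]; exact congrArg PrimeSpectrum.asIdeal he
    exact Ring.ne_bot_of_isMaximal_of_not_isField hm hR (h'.symm.trans (hjg d))
  · obtain ⟨c, hc0, hcne⟩ : ∃ c, (X.hom c).asIdeal = ⊥ ∧ c ≠ genericPoint X.left := by
      by_contra h
      push Not at h
      obtain ⟨_, ⟨V, hV, rfl⟩, hV1, -⟩ := X.left.isBasis_affineOpens.exists_subset_of_mem_open
        (Set.mem_univ (genericPoint X.left)) isOpen_univ
      exact ArSurf29.not_isFinite_dedekind X.hom hX.2.2.1 (ArSurf29.isFinite_of_isolated_dedekind X.hom V hV _ hV1 _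
        rfl fun v _ hv => h v (by rw [hv]; exact ArSurf29.hom_genericPoint X.hom))
    obtain ⟨c₁, hc₁⟩ := (ArSurf29.range_fst_genPt X.hom).ge hc0
    have hs : c₀ ⤳ c₁ := j.isEmbedding.isInducing.specializes_iff.1 (by
      rw [hc₀]; exact genericPoint_specializes _)
    have hlt : c₁ < c₀ := lt_of_le_not_ge hs fun h => hcne (by
      rw [← hc₁, ← hc₀]; exact congrArg j (hs.antisymm h).eq.symm)
    let l : LTSeries C := (RelSeries.singleton _ c₁).snoc c₀ hlt
    refine le_trans ?_ ((Snapper.length_le_dim (Set.univ : Set C) l fun _ => trivial).trans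
      (IsHomeomorph.topologicalKrullDim_eq _ (Homeomorph.Set.univ C).isHomeomorph).le)
    simp [l]

theorem curveGenus_pos (hH0 : IsIso (pullback.snd X.hom (Neron.genPt R)).appTop)
    (hg : FGA.eulerCharLE (FractionRing R) ((Neron.genericFibre R).obj X).left (Coh.structureModule _) 1 ≤ 0) :
    0 < Models.hRank (FractionRing R) (pullback X.hom (Neron.genPt R)) (pullback.snd X.hom (Neron.genPt R))
      (Coh.structureModule _) 1 := by
  letI : (pullback X.hom (Neron.genPt R)).Over (Spec (CommRingCat.of (FractionRing R))) :=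
    ⟨pullback.snd X.hom (Neron.genPt R)⟩
  have h0 := ArSurf29.finrank_H0_eq_one hH0
  have h : ∑ i ∈ Finset.range (1 + 1), (-1 : ℤ) ^ i * (Module.finrank (FractionRing R)
      (Coh.HH (pullback X.hom (Neron.genPt R)) (Coh.structureModule _) i) : ℤ) ≤ 0 := hg
  simp [Finset.sum_range_succ, h0] at h
  show 0 < Module.finrank (FractionRing R) (Coh.HH (pullback X.hom (Neron.genPt R)) (Coh.structureModule _) 1)
  omega

end Curve

section Hom

variable {R : Type u} [CommRing R] [IsDedekindDomain R]

section Frac

variable (R) (A : Type u) [CommRing A] [IsDomain A] [Algebra R A] [Algebra A (FractionRing R)]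
  [IsScalarTower R A (FractionRing R)] [IsFractionRing A (FractionRing R)]

/-- The identification of the generic points of the base and of a localization. -/
def fracHom : FractionRing A →+* FractionRing R := (FractionRing.algEquiv A (FractionRing R)).toRingEquiv.toRingHom

omit [IsDedekindDomain R] [IsScalarTower R A (FractionRing R)] in
theorem bijective_fracHom : Function.Bijective (fracHom R A) :=
  (FractionRing.algEquiv A (FractionRing R)).bijective

/-- The identification of the generic points of the base and of a localization. -/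
abbrev fracMap : Spec (CommRingCat.of (FractionRing R)) ⟶ Spec (CommRingCat.of (FractionRing A)) :=
  Spec.map (CommRingCat.ofHom (fracHom R A))

/-- The generic point of a localization. -/
abbrev baseMap : Spec (CommRingCat.of (FractionRing A)) ⟶ Spec (CommRingCat.of A) :=
  Spec.map (CommRingCat.ofHom (algebraMap A (FractionRing A)))

theorem isIso_fracMap : IsIso (fracMap R A) := by
  haveI : IsIso (CommRingCat.ofHom (fracHom R A)) :=
    (ConcreteCategory.isIso_iff_bijective _).2 (bijective_fracHom R A)
  infer_instance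

theorem fracMap_base :
    fracMap R A ≫ baseMap A ≫ Spec.map (CommRingCat.ofHom (algebraMap R A)) = Neron.genPt R := by
  rw [← Spec.map_comp, ← Spec.map_comp]
  refine congrArg Spec.map (CommRingCat.hom_ext (RingHom.ext fun r => ?_))
  show (FractionRing.algEquiv A (FractionRing R)) (algebraMap A _ (algebraMap R A r)) = algebraMap R (FractionRing R) r
  rw [AlgEquiv.commutes, ← IsScalarTower.algebraMap_apply]

theorem curveGenus_fracMap {X : Over (Spec (CommRingCat.of R))}
    (h : 0 < Models.hRank (FractionRing R) (pullback X.hom (Neron.genPt R)) (pullback.snd X.hom (Neron.genPt R))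
      (Coh.structureModule _) 1) :
    0 < Models.curveGenus (FractionRing A) (pullback X.hom (Neron.genPt R))
      (pullback.snd X.hom (Neron.genPt R) ≫ fracMap R A) := by
  let q' := pullback.snd X.hom (Neron.genPt R)
  let q := q' ≫ fracMap R A
  have hσ : ∀ a, Coh.toGlobal q a = Coh.toGlobal q' (fracHom R A a) := fun a => by
    show q.appTop ((Scheme.ΓSpecIso (CommRingCat.of (FractionRing A))).inv a) =
      q'.appTop ((Scheme.ΓSpecIso (CommRingCat.of (FractionRing R))).inv (fracHom R A a))
    rw [Scheme.Hom.comp_appTop, CommRingCat.comp_apply]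
    exact congrArg q'.appTop (congrArg (fun m => (ConcreteCategory.hom m) a)
      (Scheme.ΓSpecIso_inv_naturality (CommRingCat.ofHom (fracHom R A)))).symm
  show 0 < Models.hRank (FractionRing A) _ q (Coh.structureModule _) 1
  rw [Models.hRank, ArSurf29.finrank_HH_mul (FractionRing A) q q' (fracHom R A) hσ]
  refine Nat.mul_pos ?_ h
  letI := (fracHom R A).toAlgebra
  rw [← (LinearEquiv.ofBijective (Algebra.linearMap (FractionRing A) (FractionRing R))
    (bijective_fracHom R A)).finrank_eq, Module.finrank_self]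
  exact Nat.one_pos

end Frac

theorem exists_mdata {X : Over (Spec (CommRingCat.of R))} (hX : ArSurf.IsArithSurface R X) (p : Ideal R) [p.IsPrime]
    [IsDiscreteValuationRing (Localization.AtPrime p)] {C : Scheme.{u}}
    (e : C ≅ pullback X.hom (Neron.genPt R)) :
    ∃ g : C ⟶ pullback X.hom (locMap p),
      ArSurf29.IsMData (e.hom ≫ pullback.snd X.hom (Neron.genPt R) ≫ fracMap R (Localization.AtPrime p)) (pullback X.hom (locMap p))
        (pullback.snd X.hom (locMap p)) g ∧
      g ≫ pullback.fst X.hom (locMap p) = e.hom ≫ pullback.fst X.hom (Neron.genPt R) := by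
  haveI := isProper_arith hX
  haveI : Flat X.hom := hX.2.2.2.1
  haveI := isIso_fracMap R (Localization.AtPrime p)
  let b' := baseMap (Localization.AtPrime p)
  let f := e.hom ≫ pullback.snd X.hom (Neron.genPt R) ≫ fracMap R (Localization.AtPrime p)
  have hb : fracMap R (Localization.AtPrime p) ≫ b' ≫ locMap p = Neron.genPt R := fracMap_base R (Localization.AtPrime p)
  have hw : (e.hom ≫ pullback.fst X.hom (Neron.genPt R)) ≫ X.hom = (f ≫ b') ≫ locMap p := by
    simp only [f, Category.assoc, hb, pullback.condition]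
  refine ⟨pullback.lift (e.hom ≫ pullback.fst X.hom (Neron.genPt R)) (f ≫ b') hw, ⟨inferInstance, inferInstance,
    fun z => ?_, ?_⟩, pullback.lift_fst _ _ _⟩
  · haveI := ArSurf29.isIso_stalkMap_of_flat_preimmersion (pullback.fst X.hom (locMap p)) z
    haveI := hX.1 (pullback.fst X.hom (locMap p) z)
    exact IsRegularLocalRing.of_ringEquiv
      (asIso ((pullback.fst X.hom (locMap p)).stalkMap z)).commRingCatIsoToRingEquiv
  · refine IsPullback.of_right ?_ (pullback.lift_snd _ _ _) (IsPullback.of_hasPullback X.hom (locMap p))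
    rw [pullback.lift_fst]
    refine IsPullback.of_iso (IsPullback.of_hasPullback X.hom (Neron.genPt R)) e.symm (Iso.refl _) (asIso (fracMap R (Localization.AtPrime p)))
      (Iso.refl _) ?_ ?_ ?_ ?_
    · simp
    · simp [f]
    · simp
    · simp only [Iso.refl_hom, Category.comp_id, asIso_hom]
      exact hb.symm

theorem exists_local_hom {X₁ X₂ : Over (Spec (CommRingCat.of R))}
    (h₁ : ArSurf.IsArithSurface R X₁) (h₂ : ArSurf.IsArithSurface R X₂) (m₂ : Neron.IsRelMinimalRegularModel R X₂)
    (hH0 : IsIso ((Neron.genericFibre R).obj X₁).hom.appTop)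
    (hg : FGA.eulerCharLE (FractionRing R) ((Neron.genericFibre R).obj X₁).left (Coh.structureModule _) 1 ≤ 0)
    (φ : (Neron.genericFibre R).obj X₁ ≅ (Neron.genericFibre R).obj X₂) (p : Ideal R) [p.IsPrime] (hp : p ≠ ⊥) :
    ∃ (k : pullback X₁.hom (Neron.genPt R) ⟶ pullback X₁.hom (locMap p)) (h : pullback X₁.hom (locMap p) ⟶ X₂.left),
      k ≫ pullback.fst X₁.hom (locMap p) = pullback.fst X₁.hom (Neron.genPt R) ∧
      k ≫ h = φ.hom.left ≫ pullback.fst X₂.hom (Neron.genPt R) ∧
      h ≫ X₂.hom = pullback.fst X₁.hom (locMap p) ≫ X₁.hom := by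
  haveI : IsDiscreteValuationRing (Localization.AtPrime p) :=
    IsLocalization.AtPrime.isDiscreteValuationRing_of_dedekind_domain R hp (Localization.AtPrime p)
  haveI := isProper_arith h₁
  haveI := isIntegral_genericFibre h₁
  haveI := isIso_fracMap R (Localization.AtPrime p)
  have hR : ¬ IsField R := fun hF => hp (by letI := hF.toField; exact (Ideal.eq_bot_or_top _).resolve_right ‹p.IsPrime›.ne_top)
  let φl : pullback X₁.hom (Neron.genPt R) ≅ pullback X₂.hom (Neron.genPt R) := (Over.forget _).mapIso φ
  have hφ : φl.hom ≫ pullback.snd X₂.hom (Neron.genPt R) = pullback.snd X₁.hom (Neron.genPt R) := Over.w φ.hom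
  obtain ⟨g₁, D₁, hg₁⟩ := exists_mdata h₁ p (Iso.refl _)
  obtain ⟨g₂, D₂, hg₂⟩ := exists_mdata h₂ p φl
  rw [Iso.refl_hom, Category.id_comp] at D₁ hg₁
  rw [reassoc_of% hφ] at D₂
  have hH0' : IsIso (pullback.snd X₁.hom (Neron.genPt R) ≫ fracMap R (Localization.AtPrime p)).appTop := by
    haveI : IsIso (pullback.snd X₁.hom (Neron.genPt R)).appTop := hH0
    rw [Scheme.Hom.comp_appTop]
    infer_instance
  haveI : IsIntegral (pullback X₂.hom (locMap p)) := D₂.isIntegral
  obtain ⟨b, hb, hgb⟩ := ArSurf29.exists_hom (dim_genericFibre h₁ hR) inferInstance hH0'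
    (curveGenus_fracMap R (Localization.AtPrime p) (curveGenus_pos h₁ hH0 hg)) D₂ (not_isExcCurve_localization p hp h₂ m₂) D₁
  refine ⟨g₁, b ≫ pullback.fst X₂.hom (locMap p), hg₁, ?_, ?_⟩
  · rw [← Category.assoc, hgb, hg₂]
    rfl
  · rw [Category.assoc, pullback.condition, reassoc_of% hb, ← pullback.condition]

/-- Morphisms which agree on the generic fibre are equal. -/
theorem eq_of_genericFibre {X Y : Over (Spec (CommRingCat.of R))} (hX : ArSurf.IsArithSurface R X) [IsSeparated Y.hom]
    {a b : X.left ⟶ Y.left} (ha : a ≫ Y.hom = X.hom) (hb : b ≫ Y.hom = X.hom)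
    (h : pullback.fst X.hom (Neron.genPt R) ≫ a = pullback.fst X.hom (Neron.genPt R) ≫ b) : a = b := by
  haveI := hX.2.1
  haveI : Flat X.hom := hX.2.2.2.1
  have hc : genericPoint X.left ∈ Set.range (pullback.fst X.hom (Neron.genPt R)) :=
    (ArSurf29.range_fst_genPt X.hom).ge (ArSurf29.hom_genericPoint X.hom)
  haveI : IsDominant (pullback.fst X.hom (Neron.genPt R)) := (isDominant_iff _).2 (dense_iff_closure_eq.2
    (Set.eq_univ_of_forall fun y => closure_mono (Set.singleton_subset_iff.2 hc)
      (specializes_iff_mem_closure.1 (genericPoint_specializes y))))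
  exact ext_of_isDominant_of_isSeparated Y.hom (by rw [ha, hb]) (pullback.fst X.hom (Neron.genPt R)) h

theorem exists_hom {X₁ X₂ : Over (Spec (CommRingCat.of R))}
    (h₁ : ArSurf.IsArithSurface R X₁) (h₂ : ArSurf.IsArithSurface R X₂) (m₂ : Neron.IsRelMinimalRegularModel R X₂)
    (hH0 : IsIso ((Neron.genericFibre R).obj X₁).hom.appTop)
    (hg : FGA.eulerCharLE (FractionRing R) ((Neron.genericFibre R).obj X₁).left (Coh.structureModule _) 1 ≤ 0)
    (φ : (Neron.genericFibre R).obj X₁ ≅ (Neron.genericFibre R).obj X₂) :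
    ∃ f : X₁ ⟶ X₂, (Neron.genericFibre R).map f = φ.hom := by
  haveI := h₁.2.1
  haveI := isProper_arith h₁
  haveI := isProper_arith h₂
  haveI : Flat X₁.hom := h₁.2.2.2.1
  haveI := isPreimmersion_genPt (R := R); haveI := flat_genPt (R := R)
  haveI := isIntegral_genericFibre h₁
  let j := pullback.fst X₁.hom (Neron.genPt R)
  have hj : j (genericPoint _) = genericPoint X₁.left := by
    obtain ⟨c, hc⟩ : genericPoint X₁.left ∈ Set.range j :=
      (ArSurf29.range_fst_genPt X₁.hom).ge (ArSurf29.hom_genericPoint X₁.hom)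
    exact (((genericPoint_specializes (j (genericPoint _))).antisymm
      (hc ▸ (genericPoint_specializes c).map j.continuous)).eq).symm
  obtain ⟨G, hG, hjG⟩ := exists_hom_of_local X₁.hom X₂.hom j hj
    (φ.hom.left ≫ pullback.fst X₂.hom (Neron.genPt R)) fun x => by
    by_cases hx : (X₁.hom x).asIdeal = ⊥
    · obtain ⟨z, hz⟩ := (ArSurf29.range_fst_genPt X₁.hom).ge hx
      refine ⟨_, j, z, 𝟙 _, φ.hom.left ≫ pullback.fst X₂.hom (Neron.genPt R), inferInstance, inferInstance, hz,
        Category.id_comp _, Category.id_comp _, ?_⟩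
      rw [Category.assoc, pullback.condition, ← Category.assoc]
      erw [Over.w φ.hom]
      exact pullback.condition.symm
    · obtain ⟨k, h, hk, hkh, hh⟩ := exists_local_hom h₁ h₂ m₂ hH0 hg φ (X₁.hom x).asIdeal hx
      obtain ⟨z, hz⟩ : x ∈ Set.range (pullback.fst X₁.hom (locMap (X₁.hom x).asIdeal)) := by
        rw [Scheme.Pullback.range_fst]
        refine ⟨closedPoint (Localization.AtPrime (X₁.hom x).asIdeal), PrimeSpectrum.ext ?_⟩
        exact IsLocalization.AtPrime.comap_maximalIdeal _ _
      exact ⟨_, pullback.fst X₁.hom (locMap (X₁.hom x).asIdeal), z, k, h, inferInstance, inferInstance, hz, hk, hkh, hh⟩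
  refine ⟨Over.homMk G hG, Over.OverMorphism.ext ?_⟩
  refine pullback.hom_ext ?_ ?_
  · rw [ArSurf29.genericFibre_map_fst]
    exact hjG
  · erw [Over.w φ.hom]
    exact Over.w ((Neron.genericFibre R).map (Over.homMk G hG : X₁ ⟶ X₂))

theorem hom_unique {X₁ X₂ : Over (Spec (CommRingCat.of R))} (h₁ : ArSurf.IsArithSurface R X₁)
    (h₂ : ArSurf.IsArithSurface R X₂) {a b : X₁ ⟶ X₂}
    (h : (Neron.genericFibre R).map a = (Neron.genericFibre R).map b) : a = b := by
  haveI := isProper_arith h₂
  refine Over.OverMorphism.ext (eq_of_genericFibre h₁ (Over.w a) (Over.w b) ?_)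
  rw [← ArSurf29.genericFibre_map_fst, ← ArSurf29.genericFibre_map_fst, h]

/-- Relatively minimal models of a curve of positive genus are unique. -/
theorem existsUnique_iso {X₁ X₂ : Over (Spec (CommRingCat.of R))}
    (h₁ : ArSurf.IsArithSurface R X₁) (h₂ : ArSurf.IsArithSurface R X₂)
    (m₁ : Neron.IsRelMinimalRegularModel R X₁) (m₂ : Neron.IsRelMinimalRegularModel R X₂)
    (hH0 : IsIso ((Neron.genericFibre R).obj X₁).hom.appTop)
    (hg : FGA.eulerCharLE (FractionRing R) ((Neron.genericFibre R).obj X₁).left (Coh.structureModule _) 1 ≤ 0)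
    (φ : (Neron.genericFibre R).obj X₁ ≅ (Neron.genericFibre R).obj X₂) :
    ∃! f : X₁ ⟶ X₂, IsIso f ∧ (Neron.genericFibre R).map f = φ.hom := by
  obtain ⟨f, hf⟩ := exists_hom h₁ h₂ m₂ hH0 hg φ
  haveI : IsIso f := m₁.2.2.2 X₂ m₂.1 m₂.2.1 m₂.2.2.1 f (by rw [hf]; infer_instance)
  exact ⟨f, ⟨inferInstance, hf⟩, fun f' hf' => hom_unique h₁ h₂ (hf'.2.trans hf.symm)⟩

end Hom

end GrothLib.Contract29

namespace GrothLib.Contract29

theorem euler_nonpos_of_nontrivial {R : Type u} [CommRing R] [IsDedekindDomain R]
    {X : Over (Spec (CommRingCat.of R))} (hX : ArSurf.IsArithSurface R X)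
    (hH0 : IsIso ((Neron.genericFibre R).obj X).hom.appTop)
    (hg : Nontrivial (Coh.HH ((Neron.genericFibre R).obj X).left (Coh.structureModule _) 1)) :
    FGA.eulerCharLE (FractionRing R) ((Neron.genericFibre R).obj X).left (Coh.structureModule _) 1 ≤ 0 := by
  haveI := isProper_arith hX
  let C := pullback X.hom (Neron.genPt R)
  letI : C.Over (Spec (CommRingCat.of (FractionRing R))) := ⟨pullback.snd X.hom (Neron.genPt R)⟩
  haveI : IsProper (C ↘ Spec (CommRingCat.of (FractionRing R))) :=
    inferInstanceAs (IsProper (pullback.snd X.hom (Neron.genPt R)))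
  haveI := Euler.isNoetherian_of_proper (X := C) (FractionRing R)
  haveI : Module.Finite (FractionRing R) (Coh.HH C (Coh.structureModule C) 1) :=
    Euler.finiteDimensional_HH _ (HomSh.isCoh_structureModule C) 1
  haveI : Nontrivial (Coh.HH C (Coh.structureModule C) 1) := hg
  have h0 : Module.finrank (FractionRing R) (Coh.HH C (Coh.structureModule C) 0) = 1 :=
    ArSurf29.finrank_H0_eq_one hH0
  have h1 : 0 < Module.finrank (FractionRing R) (Coh.HH C (Coh.structureModule C) 1) := Module.finrank_pos
  show ∑ i ∈ Finset.range (1 + 1), (-1 : ℤ) ^ i *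
    (Module.finrank (FractionRing R) (Coh.HH C (Coh.structureModule C) i) : ℤ) ≤ 0
  simp [Finset.sum_range_succ, h0]
  omega

end GrothLib.Contract29
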