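import Groth.Agent.Lib.Contract29.Sections
import Groth.Agent.Lib.Ample.ProjSections
import Groth.Agent.Lib.Ample.Criterion
import Groth.Agent.Lib.Ample.Calculus
import Groth.Agent.Lib.Cube.Pic

/-!
# Affine loci of sections of powers of an ample module
-/

universe u

set_option linter.all false
set_option backward.isDefEq.respectTransparency false

open CategoryTheory CategoryTheory.Limits AlgebraicGeometry Opposite TopologicalSpace
open GrothLib.InvExt (mres IsGen)
open GrothLib.Cube (clsMod)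
open GrothLib.Ample (Cocycle)

noncomputable section

namespace GrothLib.Contract29

variable {X : Scheme.{u}}

/-- Where a section generates, through a cocycle. -/
theorem gen_iff_le_locus (c : Cocycle X) {n : ℕ} {M : X.Modules} (e : M ≅ c.twist n) (x : Γ(M, ⊤)) (V : X.Opens) :
    IsGen M V (mres M le_top x) ↔ V ≤ c.locus (show c.sect n ⊤ from e.hom.app ⊤ x) := by
  let a : c.sect n ⊤ := e.hom.app ⊤ x
  have hb : ∀ (W : X.Opens) (φ : M ≅ c.twist n), Function.Bijective (φ.hom.app W) := fun W φ =>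
    ConcreteCategory.bijective_of_isIso ((Scheme.Modules.toPresheaf X).map φ.hom |>.app (op W))
  have hres : ∀ W : X.Opens, e.hom.app W (mres M (le_top : W ≤ ⊤) x) = c.sectRes (le_top : W ≤ ⊤) a := fun W => by
    rw [← InvExt.mres_app]; rfl
  constructor
  · intro h
    have h' := h.map e.hom fun W _ => hb W e
    rw [hres] at h'
    refine c.mem_locus_of_surjective a fun W hW y => ?_
    obtain ⟨r, hr⟩ := (h' W hW).2 y
    refine ⟨r, (c.hom_app_apply a W r).trans ?_⟩
    rw [← hr]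
    exact congrArg (r • ·) (c.sectRes_sectRes _ hW a).symm
  · intro h
    have h' := ((c.isGen_sectRes_locus a).restrict h).map e.inv fun W _ =>
      ConcreteCategory.bijective_of_isIso ((Scheme.Modules.toPresheaf X).map e.inv |>.app (op W))
    have e' : e.inv.app V (mres (c.twist n) h (c.sectRes (le_top : c.locus a ≤ ⊤) a)) =
        mres M (le_top : V ≤ ⊤) x := by
      rw [show mres (c.twist n) h (c.sectRes (le_top : c.locus a ≤ ⊤) a) = c.sectRes (le_top : V ≤ ⊤) a from
        c.sectRes_sectRes _ h a, ← hres]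
      exact congrArg (fun φ : M ⟶ M => φ.app V (mres M (le_top : V ≤ ⊤) x)) e.hom_inv_id
    rwa [e'] at h'

theorem exists_mod (P : Cube.Pic X) : ∃ (N : X.Modules) (hN : PicF.IsInvertible N), clsMod hN = P := by
  obtain ⟨c⟩ := P
  exact ⟨c.twist 1, c.isInvertible_twist 1, Cube.clsMod_eq _ (Iso.refl _)⟩

theorem exists_ample_cover {L : X.Modules} (hA : CohB1.IsAmple L) :
    ∃ K : ℕ, 0 < K ∧ ∀ q : ℕ, 0 < q → ∀ (M : X.Modules) (hM : PicF.IsInvertible M),
      clsMod hM = clsMod hA.1 ^ (K * q) →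
      ∃ (r : ℕ) (σ : Fin r → Γ(M, ⊤)) (W : Fin r → X.Opens), (∀ t, IsAffineOpen (W t)) ∧ (⨆ t, W t = ⊤) ∧
        ∀ t (V : X.Opens), IsGen M V (mres M le_top (σ t)) ↔ V ≤ W t := by
  classical
  obtain ⟨c, ⟨e⟩⟩ := Ample.exists_cocycle hA.1
  obtain ⟨hX, hc⟩ := (c.isAmple_iff e).1 hA
  haveI := hX
  choose n a hpa haff using hc
  obtain ⟨T, hT⟩ := isCompact_univ.elim_finite_subcover (fun p => (c.locus (a p) : Set X))
    (fun p => (c.locus (a p)).2) (fun p _ => Set.mem_iUnion.2 ⟨p, hpa p⟩)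
  let K := ∏ p ∈ T, (n p + 1)
  have hK : 0 < K := Finset.prod_pos fun p _ => Nat.succ_pos _
  refine ⟨K, hK, fun q hq M hM hcl => ?_⟩
  obtain ⟨d⟩ := c.nonempty_tensorPow_iso e (K * q)
  obtain ⟨u⟩ := (Cube.clsMod_eq_iff hM (Ample.isInvertible_tensorPow hA.1 (K * q))).1
    (by rw [Cube.clsMod_tensorPow hA.1, hcl])
  let i : M ≅ c.twist (K * q) := u ≪≫ d
  let pt : Fin T.card → X := fun t => (T.equivFin.symm t).1
  have hdvd : ∀ t, ∃ l, 0 < l ∧ (n (pt t) + 1) * l = K * q := fun t => by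
    obtain ⟨l, hl⟩ := Finset.dvd_prod_of_mem (fun p => n p + 1) (T.equivFin.symm t).2
    refine ⟨l * q, Nat.mul_pos (Nat.pos_of_ne_zero fun h => ?_) hq, by rw [← mul_assoc, ← hl]⟩
    rw [h, mul_zero] at hl
    exact hK.ne' hl
  choose l hl0 hl using hdvd
  let b : ∀ t, c.sect (K * q) ⊤ := fun t => c.sectCast (hl t) (c.sectPow (a (pt t)) (l t))
  have hb : ∀ t, c.locus (b t) = c.locus (a (pt t)) := fun t => by
    rw [c.locus_sectCast, c.locus_sectPow _ (hl0 t)]
  refine ⟨T.card, fun t => i.inv.app ⊤ (b t), fun t => c.locus (a (pt t)), fun t => haff _, ?_, fun t V => ?_⟩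
  · refine eq_top_iff.2 fun x _ => ?_
    obtain ⟨p, hp, hx⟩ := Set.mem_iUnion₂.1 (hT (Set.mem_univ x))
    exact Opens.mem_iSup.2 ⟨T.equivFin ⟨p, hp⟩, by
      show x ∈ c.locus (a (T.equivFin.symm (T.equivFin ⟨p, hp⟩)).1)
      rw [Equiv.symm_apply_apply]; exact hx⟩
  · have ee : i.hom.app ⊤ (i.inv.app ⊤ (b t)) = b t :=
      congrArg (fun φ : c.twist (K * q) ⟶ c.twist (K * q) => φ.app ⊤ (b t)) i.inv_hom_id
    exact (gen_iff_le_locus c i _ V).trans (Iff.of_eq (congrArg (fun O => V ≤ O)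
      ((congrArg (c.locus (n := K * q)) ee).trans (hb t))))

end GrothLib.Contract29
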