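import Groth.Agent.Lib.Contract29.Twist
import Groth.Agent.Lib.Ample.ProjSections
import Groth.Agent.Lib.Ample.Criterion

/-!
# Sections of the twisted bundle near and away from the line
-/

universe u

set_option linter.all false
set_option backward.isDefEq.respectTransparency false

open CategoryTheory CategoryTheory.Limits AlgebraicGeometry Opposite TopologicalSpace
open GrothLib.InvExt (mres IsGen)
open GrothLib.Cube (clsMod)

noncomputable section

namespace GrothLib.Contract29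

variable {X : Scheme.{u}}

theorem bijective_app_of_disjoint {E : Scheme.{u}} (j : E ⟶ X) {S : ShortComplex X.Modules} (hS : S.ShortExact)
    {G : E.Modules} (hG : S.X₃ = (Scheme.Modules.pushforward j).obj G) {V : X.Opens}
    (hV : Disjoint (V : Set X) (Set.range j)) : Function.Bijective (S.f.app V) := by
  haveI : Subsingleton Γ(S.X₃, V) := by
    rw [hG]
    exact InvExt.subsingleton_sections_of_eq_bot G (le_bot_iff.1 fun p hp =>
      (Set.disjoint_left.1 hV (show j p ∈ V from hp) ⟨p, rfl⟩).elim)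
  haveI := hS.mono_f
  let κ := IsLimit.conePointUniqueUpToIso hS.fIsKernel (kernelIsKernel S.g)
  have hκ : κ.hom ≫ kernel.ι S.g = S.f :=
    IsLimit.conePointUniqueUpToIso_hom_comp hS.fIsKernel (kernelIsKernel S.g) WalkingParallelPair.zero
  rw [← hκ]
  show Function.Bijective ((kernel.ι S.g).app V ∘ κ.hom.app V)
  refine Function.Bijective.comp ⟨(IdealModSec.app_kernel S.g V).1, fun m => ?_⟩
    (ConcreteCategory.bijective_of_isIso ((Scheme.Modules.toPresheaf X).map κ.hom |>.app (op V)))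
  exact (IdealModSec.app_kernel S.g V).2 m (Subsingleton.elim _ _)

/-- A section inducing a generator on the divisor generates nearby. -/
theorem exists_gen_nhd_of_image {E : Scheme.{u}} (j : E ⟶ X) [IsClosedImmersion j] {M : X.Modules} {G : E.Modules}
    (hM : PicF.IsInvertible M) (θ : M ⟶ (Scheme.Modules.pushforward j).obj G) (x : Γ(M, ⊤))
    (hS : IsGen G (j ⁻¹ᵁ ⊤) (down j (θ.app ⊤ x))) (p : E) :
    ∃ V : X.Opens, j p ∈ V ∧ IsGen M V (mres M le_top x) := by
  obtain ⟨U, γ, hU, hγ⟩ := InvExt.exists_gen_nhd hM (j p)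
  obtain ⟨c, hc, hu, -⟩ := compare j θ hγ x (le_rfl : j ⁻¹ᵁ U ≤ j ⁻¹ᵁ U) (hS.restrict le_top)
  have hpc : j p ∈ X.basicOpen c := by
    have h2 := Scheme.basicOpen_of_isUnit _ hu
    rw [Scheme.basicOpen_appLE] at h2
    exact (h2.ge (show p ∈ j ⁻¹ᵁ U from hU)).2
  refine ⟨X.basicOpen c, hpc, ?_⟩
  have e : mres M (le_top : X.basicOpen c ≤ ⊤) x =
      (X.presheaf.map (homOfLE (X.basicOpen_le c)).op).hom c • mres M (X.basicOpen_le c) γ := by
    rw [← InvExt.mres_mres M (le_top : U ≤ ⊤) (X.basicOpen_le c), hc, InvExt.mres_smul]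
  rw [e]
  exact (hγ.restrict _).smul_unit (RingedSpace.isUnit_res_basicOpen X.toRingedSpace c)

/-- A section vanishing on the divisor generates at none of its points. -/
theorem not_gen_of_image_zero {E : Scheme.{u}} (j : E ⟶ X) [IsClosedImmersion j] {M : X.Modules} {G : E.Modules}
    (hM : PicF.IsInvertible M) (θ : M ⟶ (Scheme.Modules.pushforward j).obj G) (y : Γ(M, ⊤))
    (hS : IsGen G (j ⁻¹ᵁ ⊤) (down j (θ.app ⊤ y))) (x : Γ(M, ⊤)) (hx : θ.app ⊤ x = 0) (p : E) {V : X.Opens}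
    (hp : j p ∈ V) (hgen : IsGen M V (mres M le_top x)) : False := by
  obtain ⟨c, hc⟩ := hgen.exists_smul_eq le_rfl (mres M (le_top : V ≤ ⊤) y)
  rw [InvExt.mres_self] at hc
  have h0 : θ.app V (mres M (le_top : V ≤ ⊤) x) = 0 := by
    rw [← InvExt.mres_app, hx]; exact map_zero _
  have h1 : θ.app V (mres M (le_top : V ≤ ⊤) y) = 0 := by
    rw [hc, Scheme.Modules.Hom.app_smul, h0, smul_zero]
  have h2 := hS.restrict (le_top : j ⁻¹ᵁ V ≤ j ⁻¹ᵁ ⊤)
  have h3 : mres G (le_top : j ⁻¹ᵁ V ≤ j ⁻¹ᵁ ⊤) (down j (θ.app ⊤ y)) = 0 := by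
    rw [← InvExt.mres_app] at h1
    exact h1
  replace h2 : IsGen G (j ⁻¹ᵁ V) 0 := h3 ▸ h2
  haveI : Nonempty (j ⁻¹ᵁ V : E.Opens) := ⟨⟨p, hp⟩⟩
  exact one_ne_zero (h2.smul_left_injective le_rfl (c := (1 : Γ(E, j ⁻¹ᵁ V))) (d := 0)
    (by rw [InvExt.mres_self, smul_zero, smul_zero]))

variable {k : Type u} [Field k] (j : CohB1.ProjSpace 1 k ⟶ X) [IsClosedImmersion j]
  (hj : _root_.BlowUp.IsEffCartierIdeal j.ker)
include hj

/-- Multiplication by the equation of the line, off the line. -/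
theorem exists_map_twist (L : X.Modules) (hL : PicF.IsInvertible L) :
    ∀ (i : ℕ) (N : X.Modules) (hN : PicF.IsInvertible N),
      clsMod hN = clsMod hL * (clsMod (IdealModSec.isInvertible_of_isEffCartier hj))⁻¹ ^ i →
      ∃ f : L ⟶ N, ∀ V : X.Opens, Disjoint (V : Set X) (Set.range j) → Function.Bijective (f.app V) := by
  intro i
  induction i with
  | zero =>
    intro N hN h
    rw [pow_zero, mul_one] at h
    obtain ⟨e⟩ := (Cube.clsMod_eq_iff hL hN).1 h.symm
    exact ⟨e.hom, fun V _ => ConcreteCategory.bijective_of_isIso ((Scheme.Modules.toPresheaf X).map e.hom |>.app (op V))⟩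
  | succ i ih =>
    intro N hN h
    have hI := IdealModSec.isInvertible_of_isEffCartier hj
    have hN' := Ample.isInvertible_tensorMod hN hI
    obtain ⟨f, hf⟩ := ih _ hN' (by rw [Cube.clsMod_tensorMod hN hI, h, pow_succ]; simp [mul_assoc])
    obtain ⟨g, θ, w, hS⟩ := exists_seq_twist j hj hN hN' (Cube.clsMod_tensorMod hN hI)
    exact ⟨f ≫ g, fun V hV => (bijective_app_of_disjoint j hS rfl hV).comp (hf V hV)⟩

variable {A : Type u} [CommRing A] [IsNoetherianRing A] [X.Over (Spec (CommRingCat.of A))]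
  [IsProper (X ↘ Spec (CommRingCat.of A))]
  (ht : Cube.pull j (clsMod (IdealModSec.isInvertible_of_isEffCartier hj)) =
    clsMod (CMReg.isInvertible_twist (n := 1) (k := k) 1))
include ht

include A in
/-- The twisted bundle of degree zero on the line: a section generating along it, and sections from the original
bundle generating exactly off it. -/
theorem exists_twisted_sections (L : X.Modules) (hL : PicF.IsInvertible L) (d : ℕ) (hd1 : 1 ≤ d)
    (hd : Cube.pull j (clsMod hL) = clsMod (CMReg.isInvertible_twist (n := 1) (k := k) 1) ^ (d : ℤ))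
    (h1 : Subsingleton (Coh.HH X L 1)) (N : X.Modules) (hN : PicF.IsInvertible N)
    (hNc : clsMod hN = clsMod hL * (clsMod (IdealModSec.isInvertible_of_isEffCartier hj))⁻¹ ^ d) :
    ∃ (x₀ : Γ(N, ⊤)) (f : L ⟶ N),
      (∀ p, ∃ V : X.Opens, j p ∈ V ∧ IsGen N V (mres N le_top x₀)) ∧
      (∀ V : X.Opens, Disjoint (V : Set X) (Set.range j) → Function.Bijective (f.app V)) ∧
      ∀ (σ : Γ(L, ⊤)) (V : X.Opens), IsGen N V (mres N le_top (f.app ⊤ σ)) → Disjoint (V : Set X) (Set.range j) := by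
  obtain ⟨i, rfl⟩ : ∃ i, d = i + 1 := ⟨d - 1, by omega⟩
  have hI := IdealModSec.isInvertible_of_isEffCartier hj
  have hN' := Ample.isInvertible_tensorMod hN hI
  have hcl : clsMod hN' = clsMod hL * (clsMod hI)⁻¹ ^ i := by
    rw [Cube.clsMod_tensorMod hN hI, hNc, pow_succ]; simp [mul_assoc]
  haveI := subsingleton_H1_twists (A := A) j hj ht L hL _ hd h1 i (by omega) _ hN' hcl
  obtain ⟨g, θ, w, hS⟩ := exists_seq_twist j hj hN hN' (Cube.clsMod_tensorMod hN hI)
  obtain ⟨e⟩ := (Cube.clsMod_eq_one_iff (Ample.isInvertible_pullback j hN)).1 (by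
    rw [Cube.clsMod_pullback j hN, hNc, pull_mul_inv_pow j hj ht _ hd, sub_self, zpow_zero])
  have hgen : IsGen ((Scheme.Modules.pullback j).obj N) (j ⁻¹ᵁ ⊤) (e.inv.app ⊤ (1 : Γ(CohB1.ProjSpace 1 k, ⊤))) :=
    (InvExt.isGen_one ⊤).map e.inv fun W _ =>
      ConcreteCategory.bijective_of_isIso ((Scheme.Modules.toPresheaf _).map e.inv |>.app (op W))
  obtain ⟨x₀, hx₀⟩ := surjective_of_subsingleton (A := A) hS (e.inv.app ⊤ (1 : Γ(CohB1.ProjSpace 1 k, ⊤)))
  have hx₀' : IsGen ((Scheme.Modules.pullback j).obj N) (j ⁻¹ᵁ ⊤) (down j (θ.app ⊤ x₀)) := by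
    rw [show down j (θ.app ⊤ x₀) = e.inv.app ⊤ (1 : Γ(CohB1.ProjSpace 1 k, ⊤)) from hx₀]; exact hgen
  obtain ⟨f', hf'⟩ := exists_map_twist j hj L hL i _ hN' hcl
  refine ⟨x₀, f' ≫ g, exists_gen_nhd_of_image j hN θ x₀ hx₀',
    fun V hV => (bijective_app_of_disjoint j hS rfl hV).comp (hf' V hV), fun σ V hV => ?_⟩
  rw [Set.disjoint_left]
  rintro _ hz ⟨p, rfl⟩
  refine not_gen_of_image_zero j hN θ x₀ hx₀' _ ?_ p hz hV
  show (g ≫ θ).app ⊤ (f'.app ⊤ σ) = 0
  rw [w]
  rfl

end GrothLib.Contract29
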