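import Groth.Agent.Lib.Contract29.Twist
import Groth.Agent.Lib.ProjPic26.Main
import Groth.Agent.Lib.SerreVanish.Ample
import Groth.Agent.Lib.Ample.RelAmple
import Groth.Agent.Lib.Chow.Prod

/-!
# The degree of an ample bundle on a line
-/

universe u

set_option linter.all false
set_option backward.isDefEq.respectTransparency false

open CategoryTheory CategoryTheory.Limits AlgebraicGeometry Opposite TopologicalSpace
open GrothLib.Cube (clsMod)

noncomputable section

namespace GrothLib.Contract29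

variable (k : Type u) [Field k]

theorem exists_cls_eq_zpow {M : (CohB1.ProjSpace 1 k).Modules} (hM : PicF.IsInvertible M) :
    ∃ m : ℤ, clsMod hM = clsMod (CMReg.isInvertible_twist (n := 1) (k := k) 1) ^ m := by
  obtain ⟨m, ⟨e⟩⟩ := ProjPic26.exists_iso_twist (R := k) (n := 1) hM
  refine ⟨m, ?_⟩
  rw [← cls_twist_zpow k m]
  exact (Cube.clsMod_eq_iff _ _).2 ⟨e⟩

theorem not_subsingleton_H1 {M : (CohB1.ProjSpace 1 k).Modules} (hM : PicF.IsInvertible M) (m : ℤ) (hm : m ≤ -2)
    (h : clsMod hM = clsMod (CMReg.isInvertible_twist (n := 1) (k := k) 1) ^ m) :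
    ¬ Subsingleton (Coh.HH (CohB1.ProjSpace 1 k) M 1) := by
  intro hs
  obtain ⟨q, rfl⟩ : ∃ q : ℕ, m = -((1 : ℕ) + 1 + q : ℤ) := ⟨(-2 - m).toNat, by omega⟩
  rw [← cls_twist_zpow k _] at h
  obtain ⟨e⟩ := (Cube.clsMod_eq_iff hM _).1 h
  haveI := CMReg.subsingleton_of_iso e hs
  obtain ⟨w⟩ := ProjCohom.nonempty_HH_top (n := 1) (R := k) q
  haveI := w.symm.toEquiv.subsingleton
  have h0 : (⟨MvPolynomial.X 0 ^ q, by simpa using (MvPolynomial.isHomogeneous_X k (0 : Fin (1 + 1))).pow q⟩ :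
      MvPolynomial.homogeneousSubmodule (Fin (1 + 1)) k q) = 0 := Subsingleton.elim _ _
  exact pow_ne_zero q (MvPolynomial.X_ne_zero (0 : Fin (1 + 1))) (congrArg Subtype.val h0)

variable {X : Scheme.{u}} {k} (j : CohB1.ProjSpace 1 k ⟶ X) [IsClosedImmersion j]

/-- An ample module has positive degree on a line. -/
theorem exists_degree_pos {L : X.Modules} (hA : CohB1.IsAmple L) :
    ∃ d : ℕ, 1 ≤ d ∧
      Cube.pull j (clsMod hA.1) = clsMod (CMReg.isInvertible_twist (n := 1) (k := k) 1) ^ (d : ℤ) := by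
  have hA' := Ample.isAmple_pullback_of_isAffineHom j hA
  obtain ⟨m, hm⟩ := exists_cls_eq_zpow k hA'.1
  have hm1 : 1 ≤ m := by
    by_contra hlt
    push Not at hlt
    haveI := Chow.isProper_toSpec 1 k
    haveI : IsProper (CohB1.ProjSpace 1 k ↘ Spec (CommRingCat.of k)) := Chow.isProper_toSpec 1 k
    have hT := CMReg.isInvertible_twist (n := 1) (k := k) (-2)
    obtain ⟨n₀, hn₀⟩ := SerreVanish.exists_forall_subsingleton k hA' (Euler.isCoh_of_isInvertible hT)
    have hP := Ample.isInvertible_tensorPow hA'.1 n₀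
    refine not_subsingleton_H1 k (Ample.isInvertible_tensorMod hT hP) (-2 + m * n₀) ?_ ?_ (hn₀ n₀ le_rfl 1 le_rfl)
    · have : m * (n₀ : ℤ) ≤ 0 := mul_nonpos_of_nonpos_of_nonneg (by omega) (Int.natCast_nonneg _)
      omega
    · rw [Cube.clsMod_tensorMod hT hP, Cube.clsMod_tensorPow hA'.1, hm, cls_twist_zpow, ← zpow_natCast (_ ^ m) n₀,
        ← zpow_mul, ← zpow_add]
  refine ⟨m.toNat, by omega, ?_⟩
  rw [← Cube.clsMod_pullback j hA.1, Int.toNat_of_nonneg (by omega)]
  exact hm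

end GrothLib.Contract29
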