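import Groth.Agent.Lib.Contract29.Bundle
import Groth.Agent.Lib.Contract29.Degree
import Groth.Agent.Lib.Contract29.AmpleCover
import Groth.Agent.Lib.ProjDim.Const
import Groth.Agent.Lib.Ample.ProjAmple
import Mathlib.AlgebraicGeometry.Morphisms.Proper
import Mathlib.AlgebraicGeometry.ZariskisMainTheorem

/-!
# A map to projective space collapsing exactly an exceptional line
-/

universe u

set_option linter.all false
set_option backward.isDefEq.respectTransparency false

open CategoryTheory CategoryTheory.Limits AlgebraicGeometry Opposite TopologicalSpace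
open GrothLib.InvExt (mres IsGen)
open GrothLib.Cube (clsMod)

noncomputable section

namespace GrothLib.Contract29

/-- A proper map whose source is an open piece of an affine scheme and whose target is affine is finite. -/
theorem isFinite_of_le_affine {A : CommRingCat.{u}} {X P : Scheme.{u}} (p : X ⟶ Spec A) (r : P ⟶ Spec A)
    (φ : X ⟶ P) (hφ : φ ≫ r = p) [IsProper φ] (D : P.Opens) (hD : IsAffineOpen D) (W : X.Opens)
    (hW : IsAffineOpen W) (hle : φ ⁻¹ᵁ D ≤ W) : IsFinite (φ ∣_ D) := by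
  haveI : IsProper (φ ∣_ D) := IsZariskiLocalAtTarget.restrict ‹IsProper φ› D
  haveI : IsAffine W.toScheme := hW
  haveI : IsAffine D.toScheme := hD
  let a := X.homOfLE hle
  have hcomm : a ≫ W.ι ≫ p = (φ ∣_ D) ≫ D.ι ≫ r := by
    rw [← Category.assoc, Scheme.homOfLE_ι, ← Category.assoc, morphismRestrict_ι, Category.assoc, hφ]
  let m : (φ ⁻¹ᵁ D).toScheme ⟶ pullback (W.ι ≫ p) (D.ι ≫ r) := pullback.lift a (φ ∣_ D) hcomm
  haveI : IsProper (m ≫ pullback.snd _ _) := by rw [pullback.lift_snd]; infer_instance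
  haveI : IsProper m := IsProper.of_comp m (pullback.snd _ _)
  haveI : Mono a := inferInstance
  haveI : Mono (m ≫ pullback.fst _ _) := by rw [pullback.lift_fst]; infer_instance
  haveI : Mono m := mono_of_mono m (pullback.fst _ _)
  haveI : IsClosedImmersion m := (IsClosedImmersion.iff_isProper_and_mono m).2 ⟨inferInstance, inferInstance⟩
  haveI : IsAffine (φ ⁻¹ᵁ D).toScheme := isAffine_of_isAffineHom m
  exact IsFinite.iff_isProper_and_isAffineHom.2 ⟨inferInstance, inferInstance⟩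

theorem subsingleton_range_of_subset_affine {k : Type u} [Field k] {P : Scheme.{u}} (g : CohB1.ProjSpace 1 k ⟶ P)
    (D : P.Opens) (hD : IsAffineOpen D) (hg : ∀ p, g p ∈ D) : ∀ p q, g p = g q := by
  haveI : IsAffine D.toScheme := hD
  let g' : CohB1.ProjSpace 1 k ⟶ D.toScheme := IsOpenImmersion.lift D.ι g (by
    rintro _ ⟨p, rfl⟩
    rw [Scheme.Opens.range_ι]
    exact hg p)
  have e : g' ≫ D.ι = g := IsOpenImmersion.lift_fac _ _ _
  intro p q
  have hs : (CohB1.ProjSpace 1 k).toSpecΓ p = (CohB1.ProjSpace 1 k).toSpecΓ q := by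
    haveI : IsIntegral (CohB1.ProjSpace 1 k) := ProjDim.isIntegral_proj _ 1
    haveI := Chow.isProper_toSpec 1 k
    letI := (isField_of_universallyClosed k (CohB1.ProjSpace.toSpec 1 k)).toField
    exact Subsingleton.elim (α := PrimeSpectrum Γ(CohB1.ProjSpace 1 k, ⊤)) _ _
  have h := Scheme.toSpecΓ_naturality g'
  have h' : g' = (CohB1.ProjSpace 1 k).toSpecΓ ≫ Spec.map g'.appTop ≫ inv D.toScheme.toSpecΓ := by
    rw [← reassoc_of% h, IsIso.hom_inv_id, Category.comp_id]
  rw [← e, h']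
  simp only [Scheme.Hom.comp_apply]
  rw [hs]

variable {X : Scheme.{u}} {A : Type u} [CommRing A] [IsNoetherianRing A] [X.Over (Spec (CommRingCat.of A))]
  [IsProper (X ↘ Spec (CommRingCat.of A))] {k : Type u} [Field k] (j : CohB1.ProjSpace 1 k ⟶ X)
  [IsClosedImmersion j] (hj : _root_.BlowUp.IsEffCartierIdeal j.ker)
  (ht : Cube.pull j (clsMod (IdealModSec.isInvertible_of_isEffCartier hj)) =
    clsMod (CMReg.isInvertible_twist (n := 1) (k := k) 1))
include ht

/-- A map to a projective space over the base collapsing exactly the line, with the bundles it pulls back. -/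
theorem exists_collapse_map {L : X.Modules} (hA : CohB1.IsAmple L) :
    ∃ (d m n : ℕ) (φ : X ⟶ CohB1.ProjSpace n A), 1 ≤ m ∧
      φ ≫ CohB1.ProjSpace.toSpec n A = X ↘ Spec (CommRingCat.of A) ∧
      Cube.pull j (clsMod hA.1) = clsMod (CMReg.isInvertible_twist (n := 1) (k := k) 1) ^ (d : ℤ) ∧
      Cube.pull φ (clsMod (Ample.isAmple_twistProjSpace_one n A).1) =
        (clsMod hA.1 * (clsMod (IdealModSec.isInvertible_of_isEffCartier hj))⁻¹ ^ d) ^ m ∧
      (∀ p q, φ (j p) = φ (j q)) ∧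
      (∀ U : X.Opens, Disjoint (U : Set X) (Set.range j) → LocallyQuasiFinite (U.ι ≫ φ)) ∧
      ∀ (N : X.Modules) (hN : PicF.IsInvertible N),
        clsMod hN = (clsMod hA.1 * (clsMod (IdealModSec.isInvertible_of_isEffCartier hj))⁻¹ ^ d) ^ (m + 1) →
        ∃ x₀ : Γ(N, ⊤), ∀ p, ∃ V : X.Opens, j p ∈ V ∧ IsGen N V (mres N le_top x₀) := by
  classical
  haveI := LocallyOfFiniteType.isLocallyNoetherian (X ↘ Spec (CommRingCat.of A))
  haveI := hA.2.1
  haveI : IsNoetherian X := ⟨⟩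
  obtain ⟨d, hd1, hd⟩ := exists_degree_pos j hA
  set I := clsMod (IdealModSec.isInvertible_of_isEffCartier hj) with hIdef
  set u := clsMod (CMReg.isInvertible_twist (n := 1) (k := k) 1) with hudef
  obtain ⟨K, hK, hcover⟩ := exists_ample_cover hA
  obtain ⟨n₀, hn₀⟩ := SerreVanish.exists_forall_subsingleton A hA
    (Euler.isCoh_of_isInvertible (Euler.isInvertible_structure (X := X)))
  have hvan : ∀ m, n₀ ≤ m → ∀ (M : X.Modules) (hM : PicF.IsInvertible M), clsMod hM = clsMod hA.1 ^ m →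
      Subsingleton (Coh.HH X M 1) := fun m hm M hM h => by
    have hT := Euler.isInvertible_structure (X := X)
    have hP := Ample.isInvertible_tensorPow hA.1 m
    obtain ⟨e⟩ := (Cube.clsMod_eq_iff (Ample.isInvertible_tensorMod hT hP) hM).1 (by
      rw [Cube.clsMod_tensorMod hT hP, Cube.clsMod_tensorPow hA.1, h,
        (Cube.clsMod_eq_one_iff hT).2 ⟨Iso.refl _⟩, one_mul])
    exact CMReg.subsingleton_of_iso e (hn₀ m hm 1 le_rfl)
  have htw : ∀ m, 1 ≤ m → n₀ ≤ m → ∀ (M : X.Modules) (hM : PicF.IsInvertible M) (N : X.Modules)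
      (hN : PicF.IsInvertible N), clsMod hM = clsMod hA.1 ^ m → clsMod hN = (clsMod hA.1 * I⁻¹ ^ d) ^ m →
      ∃ (x₀ : Γ(N, ⊤)) (f : M ⟶ N),
        (∀ p, ∃ V : X.Opens, j p ∈ V ∧ IsGen N V (mres N le_top x₀)) ∧
        (∀ V : X.Opens, Disjoint (V : Set X) (Set.range j) → Function.Bijective (f.app V)) ∧
        ∀ (σ : Γ(M, ⊤)) (V : X.Opens), IsGen N V (mres N le_top (f.app ⊤ σ)) →
          Disjoint (V : Set X) (Set.range j) := fun m h1 hm M hM N hN hMc hNc => by
    refine exists_twisted_sections (A := A) j hj ht M hM (d * m) (Nat.mul_pos hd1 h1) ?_ (hvan m hm M hM hMc) N hN ?_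
    · rw [hMc, map_pow, hd, ← hudef, ← zpow_natCast (u ^ (d : ℤ)) m, ← zpow_mul, Nat.cast_mul]
    · rw [hNc, mul_pow, ← pow_mul, hMc]
  let q := n₀ + 1
  let m := K * q
  have hm1 : 1 ≤ m := Nat.mul_pos hK (Nat.succ_pos _)
  have hm0 : n₀ ≤ m := (Nat.le_succ n₀).trans (Nat.le_mul_of_pos_left _ hK)
  obtain ⟨M, hM, hMc⟩ := exists_mod (clsMod hA.1 ^ m)
  obtain ⟨N, hN, hNc⟩ := exists_mod ((clsMod hA.1 * I⁻¹ ^ d) ^ m)
  obtain ⟨r, σ, W, hWaff, hWcov, hσ⟩ := hcover q (Nat.succ_pos _) M hM hMc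
  obtain ⟨x₀, f, hx₀, hf, hfd⟩ := htw m hm1 hm0 M hM N hN hMc hNc
  obtain ⟨c, ⟨e⟩⟩ := Ample.exists_cocycle hN
  let s : Fin (r + 1) → Γ(N, ⊤) := Fin.cons x₀ fun t => f.app ⊤ (σ t)
  have hoff : ∀ (x : X), x ∉ Set.range j → ∃ t, x ∈ c.locus (Ample.ProjMap.sec c e s (Fin.succ t)) := fun x hx => by
    obtain ⟨t, ht'⟩ := Opens.mem_iSup.1 (hWcov.ge (Opens.mem_top x))
    let V : X.Opens := W t ⊓ ⟨(Set.range j)ᶜ, j.isClosedEmbedding.isClosed_range.isOpen_compl⟩
    have hV : Disjoint (V : Set X) (Set.range j) := Set.disjoint_left.2 fun z hz => hz.2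
    have hg := ((hσ t V).2 inf_le_left).map f fun O hO => hf O (hV.mono_left hO)
    rw [← InvExt.mres_app] at hg
    refine ⟨t, (gen_iff_le_locus c e (s t.succ) V).1 ?_ ⟨ht', hx⟩⟩
    exact hg
  have hcov : ⨆ i, c.locus (Ample.ProjMap.sec c e s i) = ⊤ := by
    refine eq_top_iff.2 fun x _ => ?_
    by_cases hx : x ∈ Set.range j
    · obtain ⟨p, rfl⟩ := hx
      obtain ⟨V, hpV, hV⟩ := hx₀ p
      exact Opens.mem_iSup.2 ⟨0, (gen_iff_le_locus c e x₀ V).1 hV hpV⟩
    · obtain ⟨t, ht'⟩ := hoff x hx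
      exact Opens.mem_iSup.2 ⟨t.succ, ht'⟩
  let D := Ample.ProjMap.dataOfSections c e s hcov (X ↘ Spec (CommRingCat.of A))
  let φ := D.map
  have hpre : ∀ i, φ ⁻¹ᵁ Proj.basicOpen (CohB1.polyGrading r A) (MvPolynomial.X i) =
      c.locus (Ample.ProjMap.sec c e s i) := fun i => D.map_preimage i
  have hDaff : ∀ i, IsAffineOpen (Proj.basicOpen (CohB1.polyGrading r A) (MvPolynomial.X i)) := fun i =>
    Proj.isAffineOpen_basicOpen _ _ (Ample.ProjMap.X_mem i) one_pos
  haveI := Chow.isProper_toSpec r A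
  haveI : IsProper (φ ≫ CohB1.ProjSpace.toSpec r A) := by rw [D.map_toSpec]; infer_instance
  haveI : IsProper φ := IsProper.of_comp φ (CohB1.ProjSpace.toSpec r A)
  have hin : ∀ t, φ ⁻¹ᵁ Proj.basicOpen (CohB1.polyGrading r A) (MvPolynomial.X (Fin.succ t)) ≤ W t := fun t => by
    rw [hpre]
    intro x hx
    let V := c.locus (Ample.ProjMap.sec c e s (Fin.succ t))
    have hg : IsGen N V (mres N le_top (f.app ⊤ (σ t))) := (gen_iff_le_locus c e (f.app ⊤ (σ t)) V).2 le_rfl
    have hV := hfd (σ t) V hg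
    have hbij : ∀ O, O ≤ V → Function.Bijective (f.app O) := fun O hO => hf O (hV.mono_left hO)
    refine (hσ t V).1 (fun O hO => ⟨fun a a' h => ?_, fun z => ?_⟩) hx
    · refine (hg O hO).1 ?_
      have := congrArg (f.app O) h
      rw [Scheme.Modules.Hom.app_smul, Scheme.Modules.Hom.app_smul, InvExt.mres_mres, ← InvExt.mres_app] at this
      show a • mres N hO (mres N le_top _) = a' • mres N hO (mres N le_top _)
      rw [InvExt.mres_mres]
      exact this
    · obtain ⟨a, ha⟩ := (hg O hO).2 (f.app O z)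
      refine ⟨a, (hbij O hO).1 ?_⟩
      rw [Scheme.Modules.Hom.app_smul, InvExt.mres_mres, ← InvExt.mres_app, ← ha]
      show _ = a • mres N hO (mres N le_top _)
      rw [InvExt.mres_mres]
  refine ⟨d, m, r, φ, hm1, D.map_toSpec, hd, ?_, ?_, fun U hU => ?_, fun N' hN' h' => ?_⟩
  · obtain ⟨τ, -⟩ := Ample.ProjMap.exists_iso_pullback_map c e s hcov (X ↘ Spec (CommRingCat.of A))
    rw [← Cube.clsMod_pullback φ, ← hNc]
    exact (Cube.clsMod_eq_iff _ hN).2 ⟨τ⟩
  · have h0 : ∀ p, φ (j p) ∈ Proj.basicOpen (CohB1.polyGrading r A) (MvPolynomial.X 0) := fun p => by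
      show j p ∈ φ ⁻¹ᵁ Proj.basicOpen (CohB1.polyGrading r A) (MvPolynomial.X 0)
      rw [hpre]
      obtain ⟨V, hpV, hV⟩ := hx₀ p
      exact (gen_iff_le_locus c e x₀ V).1 hV hpV
    intro p q
    exact subsingleton_range_of_subset_affine (j ≫ φ) _ (hDaff 0) h0 p q
  · haveI : CompactSpace U.toScheme := isCompact_iff_compactSpace.1 (NoetherianSpace.isCompact (U : Set X))
    refine LocallyQuasiFinite.of_finite_preimage_singleton _ fun z => ?_
    by_cases hz : ∃ t, z ∈ Proj.basicOpen (CohB1.polyGrading r A) (MvPolynomial.X (Fin.succ t))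
    · obtain ⟨t, ht'⟩ := hz
      let D' := Proj.basicOpen (CohB1.polyGrading r A) (MvPolynomial.X (Fin.succ t))
      haveI := isFinite_of_le_affine (X ↘ Spec (CommRingCat.of A)) (CohB1.ProjSpace.toSpec r A) φ D.map_toSpec D'
        (hDaff _) (W t) (hWaff t) (hin t)
      refine (((φ ∣_ D').finite_preimage_singleton ⟨z, ht'⟩).image Subtype.val |>.preimage
        U.ι.isOpenEmbedding.injective.injOn).subset fun x hx => ?_
      have hxD : φ (U.ι x) ∈ D' := by rw [show φ (U.ι x) = z from hx]; exact ht'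
      refine ⟨⟨U.ι x, hxD⟩, Subtype.ext ?_, rfl⟩
      rw [morphismRestrict_base_coe]
      exact hx
    · refine Set.Finite.subset Set.finite_empty fun x hx => hz ?_
      obtain ⟨t, ht'⟩ := hoff (U.ι x) (Set.disjoint_left.1 hU x.2)
      rw [← hpre] at ht'
      exact ⟨t, (show φ (U.ι x) = z from hx) ▸ ht'⟩
  · obtain ⟨M', hM', hMc'⟩ := exists_mod (clsMod hA.1 ^ (m + 1))
    obtain ⟨x, -, hx, -, -⟩ := htw (m + 1) (by omega) (by omega) M' hM' N' hN' hMc' h'
    exact ⟨x, hx⟩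

end GrothLib.Contract29
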