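import Groth.Agent.Lib.Contract29.Seq
import Groth.Agent.Lib.RatSing29.PowIdeal
import Groth.Agent.Lib.FormalFn.Main
import Groth.Agent.Lib.Euler.Coh
import Groth.Agent.S0002
import Groth.Agent.S0057

/-!
# Sections of the powers of the ideal of a contracted divisor
-/

universe u

set_option linter.all false
set_option backward.isDefEq.respectTransparency false

open CategoryTheory CategoryTheory.Limits AlgebraicGeometry Opposite TopologicalSpace
open GrothLib.IdealModSec (val val_injective val_smul exists_val_eq val_mem val_zero)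
open GrothLib.RatSing29 (gOn)

noncomputable section

namespace GrothLib.Contract29

variable {X : Scheme.{u}}

theorem idealIncl_trans {I J K : X.IdealSheafData} (h : I ≤ J) (h' : J ≤ K) :
    HodgeIndex.idealIncl h ≫ HodgeIndex.idealIncl h' = HodgeIndex.idealIncl (h.trans h') := by
  haveI : Mono (ClSub.idealModι K) := inferInstanceAs (Mono (kernel.ι (ClSub.toSubscheme K)))
  rw [← cancel_mono (ClSub.idealModι K), Category.assoc]
  simp only [HodgeIndex.idealIncl, kernel.lift_ι, ClSub.idealModι]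

theorem val_idealIncl {I J : X.IdealSheafData} (h : I ≤ J) (U : X.Opens) (k : Γ(ClSub.idealMod I, U)) :
    val J U ((HodgeIndex.idealIncl h).app U k) = val I U k :=
  congrArg (fun φ : ClSub.idealMod I ⟶ Coh.structureModule X => φ.app U k)
    (kernel.lift_ι (ClSub.toSubscheme J) (ClSub.idealModι I) (HodgeIndex.comp_toSubscheme_zero h))

variable {A : Type u} [CommRing A] [X.Over (Spec (CommRingCat.of A))] {E : Scheme.{u}} (j : E ⟶ X)
  [IsClosedImmersion j]

/-- Deep powers of the ideal vanish modulo a power of `J`. -/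
theorem idealIncl_modPowπ_eq_zero [IsLocallyNoetherian X] (hj : _root_.BlowUp.IsEffCartierIdeal j.ker) (J : Ideal A)
    {N : ℕ} (hN : ∀ U : X.affineOpens, j.ker.ideal U ^ N ≤ Ideal.span ((fun r => gOn X r U.1) '' (J : Set A))) (n q : ℕ)
    (h : j.ker ^ (n + N * q) ≤ j.ker ^ n) :
    HodgeIndex.idealIncl h ≫ Formal.modPowπ J q (ClSub.idealMod (j.ker ^ n)) = 0 := by
  have hM := Euler.isCoh_of_isInvertible (isInvertible_pow j hj n)
  haveI := hM.1
  haveI := (Euler.isCoh_of_isInvertible (isInvertible_pow j hj (n + N * q))).1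
  haveI : (Formal.modPow J q (ClSub.idealMod (j.ker ^ n))).IsQuasicoherent :=
    (FormalFun.isCoh_modPow J q hM).1
  refine FunMor20.hom_ext_affine_cover (fun U : X.affineOpens => U.1) (fun U => U.2)
    (fun x => by
      obtain ⟨U, hx, -⟩ := GrothLib.BlowUp.exists_affine_mem_le (W := (⊤ : X.Opens)) (x := x) trivial
      exact ⟨U, hx⟩) fun U k => ?_
  let π := Formal.modPowπ J q (ClSub.idealMod (j.ker ^ n))
  let Q : Γ(X, U.1) → Prop := fun z => ∃ m, val (j.ker ^ n) U.1 m = z ∧ π.app U.1 m = 0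
  have h0 : Q 0 := ⟨0, val_zero _ _, map_zero _⟩
  have hadd : ∀ z z', Q z → Q z' → Q (z + z') := by
    rintro _ _ ⟨m, rfl, hm⟩ ⟨m', rfl, hm'⟩
    exact ⟨m + m', map_add ((ClSub.idealModι _).app U.1).hom m m',
      (map_add (π.app U.1).hom m m').trans (by rw [show (π.app U.1).hom m = 0 from hm, show (π.app U.1).hom m' = 0 from hm', add_zero])⟩
  have hmul : ∀ x ∈ j.ker.ideal U ^ n, ∀ y ∈ Ideal.span ((fun r => gOn X r U.1) '' (J : Set A)) ^ q, Q (x * y) := by
    intro x hx y hy
    have hy' : y ∈ Ideal.span ((fun r => gOn X r U.1) '' ((J ^ q : Ideal A) : Set A)) := by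
      let φ : A →+* Γ(X, U.1) := (X.presheaf.map (homOfLE (le_top : U.1 ≤ ⊤)).op).hom.comp
        (Coh.toGlobal (X ↘ Spec (CommRingCat.of A)))
      have e : (J.map φ) ^ q = (J ^ q).map φ := (Ideal.map_pow φ J q).symm
      exact e.le hy
    revert x
    refine Submodule.span_induction (p := fun y _ => ∀ x ∈ j.ker.ideal U ^ n, Q (x * y)) ?_ ?_ ?_ ?_ hy'
    · rintro _ ⟨r, hr, rfl⟩ x hx
      obtain ⟨m, hm⟩ := exists_val_eq (j.ker ^ n) U (a := x) (by rw [RatSing29.ideal_pow_eq]; exact hx)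
      refine ⟨(Formal.smulMod A _ r).app U.1 m, ?_, ?_⟩
      · rw [RatSing29.smulMod_app, val_smul, hm, mul_comm]
      · show (Formal.smulMod A _ r ≫ π).app U.1 m = 0
        have e : Formal.smulMod A (ClSub.idealMod (j.ker ^ n)) r ≫ π = 0 := by
          have e' : Sigma.ι (fun _ : ↥(J ^ q) => ClSub.idealMod (j.ker ^ n)) ⟨r, hr⟩ ≫
              Formal.smulFamily (J ^ q) (ClSub.idealMod (j.ker ^ n)) = Formal.smulMod A _ r := by
            simp [Formal.smulFamily]
          rw [← e', Category.assoc, show Formal.smulFamily (J ^ q) (ClSub.idealMod (j.ker ^ n)) ≫ π = 0 from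
            cokernel.condition _, comp_zero]
        rw [e]
        rfl
    · intro x hx
      rwa [mul_zero]
    · intro a b _ _ ha hb x hx
      rw [mul_add]
      exact hadd _ _ (ha x hx) (hb x hx)
    · intro c a _ ha x hx
      rw [smul_eq_mul, ← mul_assoc]
      exact ha _ (Ideal.mul_mem_right c _ hx)
  have hk : Q (val (j.ker ^ (n + N * q)) U.1 k) := by
    have h1 := val_mem (j.ker ^ (n + N * q)) U k
    rw [RatSing29.ideal_pow_eq, pow_add, pow_mul] at h1
    have h2 := Ideal.mul_mono le_rfl (Ideal.pow_right_mono (hN U) q) h1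
    exact Submodule.mul_induction_on h2 hmul fun a b ha hb => hadd a b ha hb
  obtain ⟨m, hm, hm'⟩ := hk
  have e : (HodgeIndex.idealIncl h).app U.1 k = m := val_injective _ _ ((val_idealIncl h U.1 k).trans hm.symm)
  show π.app U.1 ((HodgeIndex.idealIncl h).app U.1 k) = 0
  rw [e, hm']

variable [IsNoetherianRing A] [IsProper (X ↘ Spec (CommRingCat.of A))] (hj : _root_.BlowUp.IsEffCartierIdeal j.ker)
  (J : Ideal A) {N : ℕ} (hN : ∀ U : X.affineOpens, j.ker.ideal U ^ N ≤ Ideal.span ((fun r => gOn X r U.1) '' (J : Set A)))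
  (hH : ∀ m, Subsingleton (Coh.HH E (Gr j m) 1))
include hj hH

theorem surjective_H1 (n : ℕ) : ∀ (M : ℕ) (h : j.ker ^ (n + M) ≤ j.ker ^ n),
    Function.Surjective (Cohom.hhMap A (HodgeIndex.idealIncl h) 1)
  | 0, h, x => by
    have e : HodgeIndex.idealIncl h = 𝟙 _ := by
      haveI : Mono (ClSub.idealModι (j.ker ^ n)) := inferInstanceAs (Mono (kernel.ι (ClSub.toSubscheme (j.ker ^ n))))
      rw [← cancel_mono (ClSub.idealModι (j.ker ^ n)), Category.id_comp]
      exact kernel.lift_ι _ _ _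
    refine ⟨x, ?_⟩
    rw [e, Cohom.hhMap_apply, CategoryTheory.Functor.map_id]
    exact Sheaf.H.map_id_apply x
  | M + 1, h, x => by
    have h' : j.ker ^ (n + M) ≤ j.ker ^ n :=
      (pow_add j.ker n M).le.trans (ArSurf29.mul_le_left' _ _)
    obtain ⟨y, rfl⟩ := surjective_H1 n M h' x
    obtain ⟨θ, w, hS⟩ := exists_seq j hj (n + M)
    haveI := hH (n + M)
    haveI : (Gr j (n + M)).IsQuasicoherent :=
      Euler.isQuasicoherent_of_isFinLocFree
        (Euler.isFinLocFree_of_isInvertible (Ample.isInvertible_pullback j (isInvertible_pow j hj (n + M))))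
    obtain ⟨q⟩ := Cohom.nonempty_HH_equiv_pushforward j (Gr j (n + M)) 1
    haveI := q.symm.toEquiv.subsingleton
    obtain ⟨z, hz⟩ := (Cohom.exact₂ (A := A) hS 1 y).1 (Subsingleton.elim _ _)
    refine ⟨z, ?_⟩
    rw [← hz]
    simp only [Cohom.hhMap_apply]
    rw [← Sheaf.H.map_comp_apply, ← Functor.map_comp, idealIncl_trans]
    rfl

include hN in
/-- The first cohomology of a power of the ideal is killed near `J`. -/
theorem exists_annihilator (n : ℕ) :
    ∃ a : A, a - 1 ∈ J ∧ ∀ x : Coh.HH X (ClSub.idealMod (j.ker ^ n)) 1, a • x = 0 := by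
  haveI := LocallyOfFiniteType.isLocallyNoetherian (X ↘ Spec (CommRingCat.of A))
  have hM := Euler.isCoh_of_isInvertible (isInvertible_pow j hj n)
  haveI := Groth.Agent.S0002.result A X _ hM 1
  obtain ⟨c, hc⟩ := Groth.Agent.S0057.result A J X _ hM 1
  have hle : (⊤ : Submodule A (Coh.HH X (ClSub.idealMod (j.ker ^ n)) 1)) ≤ J • ⊤ := by
    intro x _
    have h' : j.ker ^ (n + N * (c + 1 + 1)) ≤ j.ker ^ n :=
      (pow_add j.ker n _).le.trans (ArSurf29.mul_le_left' _ _)
    obtain ⟨y, rfl⟩ := surjective_H1 (A := A) j hj hH n (N * (c + 1 + 1)) h' x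
    have h1 : Formal.toHHmodPow J (ClSub.idealMod (j.ker ^ n)) 1 (c + 1)
        (Cohom.hhMap A (HodgeIndex.idealIncl h') 1 y) = 0 := by
      refine (FormalFn.hmap_factor (idealIncl_modPowπ_eq_zero j hj J hN n (c + 1 + 1) h') 1 y).trans ?_
      rw [CategoryTheory.Functor.map_zero, Cohom.H_map_eq_comp, Abelian.Ext.mk₀_zero, Abelian.Ext.comp_zero]
    have h2 := hc (c + 1) (Nat.le_succ c) h1
    rw [show c + 1 - c = 1 by omega, pow_one] at h2
    exact h2
  obtain ⟨a, ha, ha'⟩ := Submodule.exists_sub_one_mem_and_smul_eq_zero_of_fg_of_le_smul J ⊤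
    Module.Finite.fg_top hle
  exact ⟨a, ha, fun x => ha' x trivial⟩

variable (hJ : ∀ r ∈ J, j.app ⊤ (gOn X r ⊤) = 0)
include hN hJ

omit hj hH hN hJ [IsNoetherianRing A] [IsProper (X ↘ Spec (CommRingCat.of A))] in
/-- Global sections lift along an exact sequence when an element acting as one kills the obstruction. -/
theorem surjective_of_killed {S : ShortComplex X.Modules} (hS : S.ShortExact) (a : A)
    (hk : ∀ x : Coh.HH X S.X₁ 1, a • x = 0) (hz : ∀ z : Γ(S.X₃, ⊤), gOn X a ⊤ • z = z) :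
    Function.Surjective (S.g.app ⊤) := by
  intro z
  let z' : Coh.HH X S.X₃ 0 := (ProjCoh.H0top _).symm z
  have haz : a • z' = z' := by
    apply (ProjCoh.H0top _).injective
    rw [ProjCoh.H0top_smul, AddEquiv.apply_symm_apply]
    have e : (show Γ(X, ⊤) from Coh.toGlobal (X ↘ Spec (CommRingCat.of A)) a) = gOn X a ⊤ := by
      show _ = X.presheaf.map (𝟙 (op ⊤)) _
      rw [CategoryTheory.Functor.map_id]
      rfl
    rw [e, hz]
  obtain ⟨y, hy⟩ := (Cohom.exact₃ (A := A) hS 0 z').1 (by rw [← haz, map_smul]; exact hk _)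
  refine ⟨ProjCoh.H0top _ y, ?_⟩
  rw [← show ProjCoh.H0top _ z' = z from AddEquiv.apply_symm_apply _ _, ← hy, Cohom.hhMap_apply]
  exact (ProjCoh.H0top_map ((QCoh.toAbFun X).map S.g) y).symm

theorem app_eq_one {a : A} (ha : a - 1 ∈ J) : j.app ⊤ (gOn X a ⊤) = 1 := by
  have h2 := hJ (a - 1) ha
  have e : gOn X (a - 1) ⊤ = gOn X a ⊤ - 1 := by
    simp only [gOn, map_sub, map_one]
  rw [e, map_sub, map_one, sub_eq_zero] at h2
  exact h2

/-- Sections of a graded piece lift. -/
theorem surjective_gr (n : ℕ)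
    {θ : ClSub.idealMod (j.ker ^ n) ⟶ (Scheme.Modules.pushforward j).obj (Gr j n)}
    {w : HodgeIndex.idealIncl (pow_succ_le j.ker n) ≫ θ = 0}
    (hS : (ShortComplex.mk (HodgeIndex.idealIncl (pow_succ_le j.ker n)) θ w).ShortExact) :
    Function.Surjective (θ.app ⊤) := by
  obtain ⟨a, ha, hkill⟩ := exists_annihilator j hj J hN hH (n + 1)
  refine surjective_of_killed hS a hkill fun z => ?_
  show j.app ⊤ (gOn X a ⊤) • (show Γ(Gr j n, j ⁻¹ᵁ ⊤) from z) = _
  rw [app_eq_one j hj J hN hH hJ ha]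
  exact one_smul _ _

omit hj hH hN hJ [IsNoetherianRing A] [IsProper (X ↘ Spec (CommRingCat.of A))] in
theorem app_eq_zero_iff (z : Γ(X, ⊤)) : j.ker.subschemeι.app ⊤ z = 0 ↔ j.app ⊤ z = 0 := by
  have e : j.app ⊤ = j.imageι.app ⊤ ≫ j.toImage.app (j.imageι ⁻¹ᵁ ⊤) := by
    rw [← Scheme.Hom.comp_app]
    exact Scheme.Hom.congr_app j.toImage_imageι.symm ⊤ |>.trans (by simp)
  rw [e, CommRingCat.comp_apply]
  exact ⟨fun h => by erw [h]; exact map_zero _,
    fun h => (map_eq_zero_iff _ (ConcreteCategory.bijective_of_isIso (j.toImage.app (j.imageι ⁻¹ᵁ ⊤))).1).1 h⟩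

/-- Functions on the divisor lift. -/
theorem surjective_app : Function.Surjective (j.app ⊤) := by
  obtain ⟨a, ha, hkill⟩ := exists_annihilator j hj J hN hH 1
  rw [pow_one] at hkill
  have h := surjective_of_killed (ArSurf29.shortExact_ideal j.ker) a hkill fun z => by
    have h1 : j.ker.subschemeι.app ⊤ (gOn X a ⊤ - 1) = 0 := by
      rw [app_eq_zero_iff, map_sub, app_eq_one j hj J hN hH hJ ha, map_one, sub_self]
    rw [map_sub, map_one, sub_eq_zero] at h1
    show j.ker.subschemeι.app ⊤ (gOn X a ⊤) * (show Γ(j.ker.subscheme, j.ker.subschemeι ⁻¹ᵁ ⊤) from z) = _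
    rw [h1]
    exact one_mul _
  intro c
  obtain ⟨c', hc'⟩ := (ConcreteCategory.bijective_of_isIso (j.toImage.app (j.imageι ⁻¹ᵁ ⊤))).2 c
  obtain ⟨z, hz⟩ := h c'
  refine ⟨z, ?_⟩
  have e : j.app ⊤ = j.imageι.app ⊤ ≫ j.toImage.app (j.imageι ⁻¹ᵁ ⊤) := by
    rw [← Scheme.Hom.comp_app]
    exact Scheme.Hom.congr_app j.toImage_imageι.symm ⊤ |>.trans (by simp)
  rw [e, CommRingCat.comp_apply]
  exact (congrArg (j.toImage.app (j.imageι ⁻¹ᵁ ⊤)) hz).trans hc'

end GrothLib.Contract29
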