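import Groth.Agent.Lib.Contract29.Line
import Groth.Agent.Lib.Contract29.Formal
import Groth.Agent.Lib.InvExt.Transfer
import Groth.Agent.Lib.Ample.CocPullback

/-!
# Two sections generating the ideal of an exceptional line
-/

universe u

set_option linter.all false
set_option backward.isDefEq.respectTransparency false

open CategoryTheory CategoryTheory.Limits AlgebraicGeometry Opposite TopologicalSpace
open GrothLib.InvExt (mres fres IsGen)
open GrothLib.IdealModSec (val val_injective val_smul val_mres exists_val_eq)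
open GrothLib.RatSing29 (gOn)

noncomputable section

namespace GrothLib.Contract29

variable {X : Scheme.{u}} {E : Scheme.{u}} (j : E ⟶ X) [IsClosedImmersion j]

/-- Sections of a direct image, read on the source. -/
abbrev down {G : E.Modules} {V : X.Opens} (m : Γ((Scheme.Modules.pushforward j).obj G, V)) : Γ(G, j ⁻¹ᵁ V) := m

theorem app_mres_smul {M : X.Modules} {G : E.Modules} (θ : M ⟶ (Scheme.Modules.pushforward j).obj G) {U : X.Opens}
    (c : Γ(X, U)) (γ : Γ(M, U)) {W : E.Opens} (hW : W ≤ j ⁻¹ᵁ U) :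
    mres G hW (down j (θ.app U (c • γ))) = (j.appLE U W hW).hom c • mres G hW (down j (θ.app U γ)) := by
  rw [Scheme.Modules.Hom.app_smul]
  show mres G hW (j.app U c • down j (θ.app U γ)) = _
  rw [InvExt.mres_smul]
  rfl

theorem mres_down {M : X.Modules} {G : E.Modules} (θ : M ⟶ (Scheme.Modules.pushforward j).obj G) {V U : X.Opens}
    (h : U ≤ V) (x : Γ(M, V)) {W : E.Opens} (hW : W ≤ j ⁻¹ᵁ U) :
    mres G hW (down j (θ.app U (mres M h x))) = mres G (hW.trans (j.preimage_mono h)) (down j (θ.app V x)) := by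
  rw [← InvExt.mres_app]
  exact InvExt.mres_mres G (j.preimage_mono h) hW _

/-- Compare a global section inducing a generator with a local generator. -/
theorem compare {M : X.Modules} {G : E.Modules} (θ : M ⟶ (Scheme.Modules.pushforward j).obj G) {U : X.Opens}
    {γ : Γ(M, U)} (hγ : IsGen M U γ) (x : Γ(M, ⊤)) {W : E.Opens} (hW : W ≤ j ⁻¹ᵁ U)
    (hS : IsGen G W (mres G (le_top : W ≤ j ⁻¹ᵁ ⊤) (down j (θ.app ⊤ x)))) :
    ∃ c : Γ(X, U), mres M le_top x = c • γ ∧ IsUnit ((j.appLE U W hW).hom c) ∧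
      IsGen G W (mres G hW (down j (θ.app U γ))) := by
  obtain ⟨c, hc⟩ := hγ.exists_smul_eq le_rfl (mres M (le_top : U ≤ ⊤) x)
  rw [InvExt.mres_self] at hc
  obtain ⟨d, hd⟩ := hS.exists_smul_eq le_rfl (mres G hW (down j (θ.app U γ)))
  rw [InvExt.mres_self] at hd
  have e : mres G (le_top : W ≤ j ⁻¹ᵁ ⊤) (down j (θ.app ⊤ x)) =
      ((j.appLE U W hW).hom c * d) • mres G (le_top : W ≤ j ⁻¹ᵁ ⊤) (down j (θ.app ⊤ x)) := by
    rw [mul_smul, ← hd, ← app_mres_smul, ← hc]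
    exact (mres_down j θ le_top x hW).symm
  have h1 : (j.appLE U W hW).hom c * d = 1 := (hS.smul_left_injective le_rfl (by
    rw [one_smul, InvExt.mres_self]; exact e)).symm
  refine ⟨c, hc, IsUnit.of_mul_eq_one d h1, ?_⟩
  rw [hd]
  exact hS.smul_unit (IsUnit.of_mul_eq_one _ (by rwa [mul_comm]))

variable {A : Type u} [CommRing A] [X.Over (Spec (CommRingCat.of A))]

theorem fres_gOn (r : A) {V W : X.Opens} (h : W ≤ V) : fres X h (gOn X r V) = gOn X r W :=
  InvExt.fres_fres (le_top : V ≤ ⊤) h _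

theorem val_top_restrict {I : X.IdealSheafData} {r : A} {x : Γ(ClSub.idealMod I, ⊤)}
    (hx : val I ⊤ x = gOn X r ⊤) (U : X.Opens) :
    val I U (mres (ClSub.idealMod I) le_top x) = gOn X r U := by
  rw [val_mres, hx, fres_gOn]

/-- An element generates the ideal near a point of the divisor. -/
def GenAt (r : A) (p : E) : Prop :=
  ∃ U : X.affineOpens, j p ∈ U.1 ∧ j.ker.ideal U = Ideal.span {gOn X r U.1}

variable (hj : _root_.BlowUp.IsEffCartierIdeal j.ker) {G : E.Modules}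
  (θ : ClSub.idealMod (j.ker ^ 1) ⟶ (Scheme.Modules.pushforward j).obj G)
include hj

theorem genAt_of_isGen (r : A) (x : Γ(ClSub.idealMod (j.ker ^ 1), ⊤)) (hx : val (j.ker ^ 1) ⊤ x = gOn X r ⊤)
    (p : E) {W : E.Opens} (hp : p ∈ W) (hS : IsGen G W (mres G (le_top : W ≤ j ⁻¹ᵁ ⊤) (down j (θ.app ⊤ x)))) :
    GenAt j r p := by
  obtain ⟨U, hpU, f, hf, hU⟩ := hj (j p)
  have h1 : (j.ker ^ 1).ideal U = Ideal.span {f} := by rw [pow_one, hU]
  obtain ⟨γ, rfl⟩ := exists_val_eq (j.ker ^ 1) U (h1 ▸ Ideal.mem_span_singleton_self f)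
  obtain ⟨c, hc, hu, -⟩ := compare j θ (IdealModSec.isGen_of_cartierOn hf h1) x
    (inf_le_right : W ⊓ j ⁻¹ᵁ U.1 ≤ j ⁻¹ᵁ U.1) (by
      have := hS.restrict (inf_le_left : W ⊓ j ⁻¹ᵁ U.1 ≤ W)
      rwa [InvExt.mres_mres] at this)
  have hpc : j p ∈ X.basicOpen c := by
    have h2 := Scheme.basicOpen_of_isUnit _ hu
    rw [Scheme.basicOpen_appLE] at h2
    exact (h2.ge (show p ∈ W ⊓ j ⁻¹ᵁ U.1 from ⟨hp, hpU⟩)).2
  obtain ⟨V, hpV, hVc⟩ := GrothLib.BlowUp.exists_affine_mem_le hpc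
  have hVU : V.1 ≤ U.1 := hVc.trans (X.basicOpen_le c)
  refine ⟨V, hpV, ?_⟩
  have e : gOn X r V.1 = fres X hVU c * fres X hVU (val (j.ker ^ 1) U.1 γ) := by
    rw [← fres_gOn r hVU, ← val_top_restrict hx U.1, hc, val_smul]
    exact map_mul _ _ _
  have hcu : IsUnit (fres X hVU c) := by
    refine X.toRingedSpace.isUnit_of_isUnit_germ V.1 _ fun y hy => ?_
    show IsUnit (X.presheaf.germ V.1 y hy (X.presheaf.map (homOfLE hVU).op c))
    rw [TopCat.Presheaf.germ_res_apply]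
    exact (Scheme.mem_basicOpen _ _ y _).1 (hVc hy)
  rw [e, Ideal.span_singleton_mul_left_unit hcu, ← j.ker.map_ideal (U := V) (V := U) hVU, hU, Ideal.map_span,
    Set.image_singleton]
  rfl

theorem isGen_of_genAt (r : A) (x : Γ(ClSub.idealMod (j.ker ^ 1), ⊤)) (hx : val (j.ker ^ 1) ⊤ x = gOn X r ⊤)
    (hcov : ∀ p : E, ∃ (y : Γ(ClSub.idealMod (j.ker ^ 1), ⊤)) (W : E.Opens), p ∈ W ∧
      IsGen G W (mres G (le_top : W ≤ j ⁻¹ᵁ ⊤) (down j (θ.app ⊤ y))))
    (hr : ∀ p, GenAt j r p) : IsGen G (j ⁻¹ᵁ ⊤) (down j (θ.app ⊤ x)) := by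
  have key : ∀ p, ∃ W : E.Opens, p ∈ W ∧ IsGen G W (mres G (le_top : W ≤ j ⁻¹ᵁ ⊤) (down j (θ.app ⊤ x))) := by
    intro p
    obtain ⟨U, hpU, hU⟩ := hr p
    obtain ⟨V, hpV, hVU, g, hg, hV⟩ := GrothLib.BlowUp.exists_cartierOn_le hj (W := U.1) hpU
    have h2 : j.ker.ideal V = Ideal.span {gOn X r V.1} := by
      rw [← j.ker.map_ideal (U := V) (V := U) hVU, hU, Ideal.map_span, Set.image_singleton, ← fres_gOn r hVU]
      rfl
    have hnz : gOn X r V.1 ∈ nonZeroDivisors Γ(X, V.1) := by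
      obtain ⟨v, hv⟩ := Ideal.mem_span_singleton'.1 ((h2.symm.trans hV).ge (Ideal.mem_span_singleton_self g))
      exact (mul_mem_nonZeroDivisors.1 (hv ▸ hg)).2
    have hγ : IsGen (ClSub.idealMod (j.ker ^ 1)) V.1 (mres _ le_top x) :=
      IdealModSec.isGen_of_cartierOn (by rw [val_top_restrict hx]; exact hnz)
        (by rw [val_top_restrict hx, pow_one, h2])
    obtain ⟨y, W, hpW, hy⟩ := hcov p
    obtain ⟨c, -, -, h3⟩ := compare j θ hγ y (inf_le_right : W ⊓ j ⁻¹ᵁ V.1 ≤ j ⁻¹ᵁ V.1) (by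
      have := hy.restrict (inf_le_left : W ⊓ j ⁻¹ᵁ V.1 ≤ W)
      rwa [InvExt.mres_mres] at this)
    rw [mres_down] at h3
    exact ⟨W ⊓ j ⁻¹ᵁ V.1, ⟨hpW, hpV⟩, h3⟩
  choose W hpW hW using key
  exact InvExt.isGen_of_cover W (fun p => le_top) (fun p _ => Opens.mem_iSup.2 ⟨p, hpW p⟩) hW

end GrothLib.Contract29
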