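import Groth.Agent.Lib.Contract29.Seq
import Groth.Agent.Lib.Contract29.Sections

/-!
# Twisting by an exceptional line
-/

universe u

set_option linter.all false
set_option backward.isDefEq.respectTransparency false

open CategoryTheory CategoryTheory.Limits AlgebraicGeometry Opposite TopologicalSpace
open GrothLib.InvExt (mres IsGen)
open GrothLib.Cube (clsMod)

noncomputable section

namespace GrothLib.Contract29

variable {X : Scheme.{u}}

/-- The restriction sequence of an invertible module along an effective Cartier divisor. -/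
theorem exists_seq_twist {E : Scheme.{u}} (j : E ⟶ X) [IsClosedImmersion j]
    (hj : _root_.BlowUp.IsEffCartierIdeal j.ker) {D D' : X.Modules} (hD : PicF.IsInvertible D)
    (hD' : PicF.IsInvertible D')
    (h : clsMod hD' = clsMod hD * clsMod (IdealModSec.isInvertible_of_isEffCartier hj)) :
    ∃ (f : D' ⟶ D) (θ : D ⟶ (Scheme.Modules.pushforward j).obj ((Scheme.Modules.pullback j).obj D))
      (w : f ≫ θ = 0), (ShortComplex.mk f θ w).ShortExact := by
  let F := (DCoh.tensorBi (X := X)).obj D
  let Φ := (DCoh.tensorBi (X := X)).flip.obj D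
  have hfl := Euler.isFinLocFree_of_isInvertible hD
  let ν : Φ ≅ F := (OX.tensorBraiding (X := X)).app D
  haveI : Φ.PreservesZeroMorphisms := inferInstance
  haveI : F.PreservesZeroMorphisms := inferInstance
  let SK := ShortComplex.mk (ClSub.idealModι j.ker) (ClSub.toSubscheme j.ker) (kernel.condition _)
  have hT : (SK.map F).ShortExact :=
    ShortComplex.shortExact_of_iso (SK.mapNatIso ν)
      (OX.tensor_map_shortExact (OX.flat_of_isFinLocFree hfl) (ArSurf29.shortExact_ideal j.ker))
  have hI := IdealModSec.isInvertible_of_isEffCartier hj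
  obtain ⟨e⟩ := (Cube.clsMod_eq_iff (Ample.isInvertible_tensorMod hD hI) hD').1 (by rw [Cube.clsMod_tensorMod, h])
  let e₂ : F.obj (Coh.structureModule X) ≅ D := Euler.tFUnitIso D
  obtain ⟨q⟩ := CMReg.nonempty_tensorMod_push j D hfl
  let e₃ : F.obj (ClSub.quotMod j.ker) ≅
      (Scheme.Modules.pushforward j).obj ((Scheme.Modules.pullback j).obj D) :=
    F.mapIso (ArSurf29.pushUnitIsoQuot j).symm ≪≫ GrTilde.tensorModComm _ _ ≪≫ q
  let e₁ : F.obj (ClSub.idealMod j.ker) ≅ D' := e
  let f := e₁.inv ≫ F.map (ClSub.idealModι j.ker) ≫ e₂.hom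
  let θ := e₂.inv ≫ F.map (ClSub.toSubscheme j.ker) ≫ e₃.hom
  have w : f ≫ θ = 0 := by
    simp only [f, θ, Category.assoc, Iso.hom_inv_id_assoc]
    rw [← F.map_comp_assoc, show ClSub.idealModι j.ker ≫ ClSub.toSubscheme j.ker = 0 from kernel.condition _]
    simp
  refine ⟨f, θ, w, ShortComplex.shortExact_of_iso (ShortComplex.isoMk e₁ e₂ e₃ ?_ ?_) hT⟩
  · simp [f, SK]
  · simp [θ, SK]

section Line

variable (k : Type u) [Field k]

theorem cls_twist_zpow (m : ℤ) : clsMod (CMReg.isInvertible_twist (n := 1) (k := k) m) =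
    clsMod (CMReg.isInvertible_twist (n := 1) (k := k) 1) ^ m := by
  have hadd : ∀ a b : ℤ, clsMod (CMReg.isInvertible_twist (n := 1) (k := k) a) *
      clsMod (CMReg.isInvertible_twist (n := 1) (k := k) b) =
      clsMod (CMReg.isInvertible_twist (n := 1) (k := k) (a + b)) := fun a b => by
    rw [← Cube.clsMod_tensorMod]
    exact (Cube.clsMod_eq_iff _ _).2 (CMReg.nonempty_twist_add (n := 1) (k := k) rfl)
  obtain ⟨n, rfl | rfl⟩ := m.eq_nat_or_neg
  · rw [zpow_natCast]; exact cls_twist_pow k n
  · rw [zpow_neg, zpow_natCast, ← cls_twist_pow k n]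
    refine eq_inv_of_mul_eq_one_left ?_
    rw [hadd, neg_add_cancel]
    exact (Cube.clsMod_eq_one_iff _).2 (CMReg.nonempty_twist_zero (n := 1) (k := k))

theorem subsingleton_H1_of_cls_zpow {L : (CohB1.ProjSpace 1 k).Modules} (hL : PicF.IsInvertible L) (m : ℤ)
    (hm : -1 ≤ m) (h : clsMod hL = clsMod (CMReg.isInvertible_twist (n := 1) (k := k) 1) ^ m) :
    Subsingleton (Coh.HH (CohB1.ProjSpace 1 k) L 1) := by
  rw [← cls_twist_zpow k m] at h
  obtain ⟨e⟩ := (Cube.clsMod_eq_iff hL _).1 h
  exact CMReg.subsingleton_of_iso e.symm (ProjCohom.subsingleton_HH (by omega) (by omega))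

end Line

variable {A : Type u} [CommRing A] [IsNoetherianRing A] [X.Over (Spec (CommRingCat.of A))]
  [IsProper (X ↘ Spec (CommRingCat.of A))] {k : Type u} [Field k]
  (j : CohB1.ProjSpace 1 k ⟶ X) [IsClosedImmersion j] (hj : _root_.BlowUp.IsEffCartierIdeal j.ker)
  (ht : Cube.pull j (clsMod (IdealModSec.isInvertible_of_isEffCartier hj)) =
    clsMod (CMReg.isInvertible_twist (n := 1) (k := k) 1))
include ht

omit [IsProper (X ↘ Spec (CommRingCat.of A))] [IsNoetherianRing A] in
theorem pull_mul_inv_pow {P : Cube.Pic X} (d : ℤ)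
    (hP : Cube.pull j P = clsMod (CMReg.isInvertible_twist (n := 1) (k := k) 1) ^ d) (i : ℕ) :
    Cube.pull j (P * (clsMod (IdealModSec.isInvertible_of_isEffCartier hj))⁻¹ ^ i) =
      clsMod (CMReg.isInvertible_twist (n := 1) (k := k) 1) ^ (d - i) := by
  rw [map_mul, map_pow, map_inv, hP, ht, inv_pow, ← zpow_natCast (clsMod _) i, ← zpow_sub]

omit [IsProper (X ↘ Spec (CommRingCat.of A))] [IsNoetherianRing A] in
include A in
/-- Twisting by the line keeps the first cohomology zero in the range of the degree. -/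
theorem subsingleton_H1_twists (L : X.Modules) (hL : PicF.IsInvertible L) (d : ℤ)
    (hd : Cube.pull j (clsMod hL) = clsMod (CMReg.isInvertible_twist (n := 1) (k := k) 1) ^ d)
    (h1 : Subsingleton (Coh.HH X L 1)) :
    ∀ (i : ℕ), (i : ℤ) ≤ d + 1 → ∀ (N : X.Modules) (hN : PicF.IsInvertible N),
      clsMod hN = clsMod hL * (clsMod (IdealModSec.isInvertible_of_isEffCartier hj))⁻¹ ^ i →
      Subsingleton (Coh.HH X N 1) := by
  intro i
  induction i with
  | zero =>
    intro _ N hN h
    rw [pow_zero, mul_one] at h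
    obtain ⟨e⟩ := (Cube.clsMod_eq_iff hN hL).1 h
    exact CMReg.subsingleton_of_iso e.symm h1
  | succ i ih =>
    intro hi N hN h
    have hI := IdealModSec.isInvertible_of_isEffCartier hj
    have hN' := Ample.isInvertible_tensorMod hN hI
    have hcl : clsMod hN' = clsMod hL * (clsMod hI)⁻¹ ^ i := by
      rw [Cube.clsMod_tensorMod hN hI, h, pow_succ]
      simp [mul_assoc]
    haveI := ih (by omega) _ hN' hcl
    obtain ⟨f, θ, w, hS⟩ := exists_seq_twist j hj hN hN' (Cube.clsMod_tensorMod hN hI)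
    have hG := Ample.isInvertible_pullback j hN
    haveI : Subsingleton (Coh.HH (CohB1.ProjSpace 1 k) ((Scheme.Modules.pullback j).obj N) 1) :=
      subsingleton_H1_of_cls_zpow k hG (d - (i + 1 : ℕ)) (by omega)
        (by rw [Cube.clsMod_pullback j hN, h, pull_mul_inv_pow j hj ht d hd])
    haveI : ((Scheme.Modules.pullback j).obj N).IsQuasicoherent :=
      Euler.isQuasicoherent_of_isFinLocFree (Euler.isFinLocFree_of_isInvertible hG)
    obtain ⟨q⟩ := Cohom.nonempty_HH_equiv_pushforward j ((Scheme.Modules.pullback j).obj N) 1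
    haveI := q.symm.toEquiv.subsingleton
    refine ⟨fun x y => ?_⟩
    have key : ∀ z : Coh.HH X N 1, z = 0 := fun z => by
      obtain ⟨v, hv⟩ := (Cohom.exact₂ (A := A) hS 1 z).1 (Subsingleton.elim _ _)
      rw [← hv, Subsingleton.elim v 0, map_zero]
    rw [key x, key y]

omit ht in
include A in
/-- Sections lift along the restriction when the obstruction vanishes. -/
theorem surjective_of_subsingleton {S : ShortComplex X.Modules} (hS : S.ShortExact)
    [Subsingleton (Coh.HH X S.X₁ 1)] : Function.Surjective (S.g.app ⊤) := by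
  intro z
  obtain ⟨y, hy⟩ := (Cohom.exact₃ (A := A) hS 0 ((ProjCoh.H0top _).symm z)).1 (Subsingleton.elim _ _)
  refine ⟨ProjCoh.H0top _ y, ?_⟩
  rw [← show ProjCoh.H0top _ ((ProjCoh.H0top S.X₃).symm z) = z from AddEquiv.apply_symm_apply _ _, ← hy,
    Cohom.hhMap_apply]
  exact (ProjCoh.H0top_map ((QCoh.toAbFun X).map S.g) y).symm

end GrothLib.Contract29
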