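import Groth.Agent.Lib.Contract29.Contraction
import Groth.Agent.Lib.Stein.General
import Groth.Agent.Lib.Stein.Finite
import Groth.Agent.Lib.Stein.GeomFibre
import Groth.Agent.Lib.LefAmp7.Open

/-!
# Contractions from Stein factorisations
-/

universe u

set_option linter.all false
set_option backward.isDefEq.respectTransparency false

open CategoryTheory CategoryTheory.Limits AlgebraicGeometry Opposite TopologicalSpace

noncomputable section

namespace GrothLib.Contract29

theorem isIso_of_affineHom_of_app {X Y : Scheme.{u}} (f : X ⟶ Y) [IsAffineHom f] (h : ∀ V, IsIso (f.app V)) :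
    IsIso f := by
  show MorphismProperty.isomorphisms Scheme f
  rw [HasAffineProperty.eq_targetAffineLocally (P := MorphismProperty.isomorphisms Scheme)]
  intro U
  haveI : IsAffine U.1.toScheme := U.2
  refine ⟨U.2.preimage f, ?_⟩
  haveI := h (U.1.ι ''ᵁ ⊤)
  show IsIso (f ∣_ U.1).appTop
  rw [morphismRestrict_appTop]
  infer_instance

/-- A connected fibre of a proper map has no finite open piece besides itself. -/
theorem eq_empty_of_finite_open {X Y : Scheme.{u}} (b : X ⟶ Y) [LocallyOfFiniteType b] (z : Y)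
    [ConnectedSpace ↥(b.fiber z)] {U : X.Opens} (hfin : ((U : Set X) ∩ b ⁻¹' {z}).Finite)
    (hne : ∃ x, b x = z ∧ x ∉ U) : (U : Set X) ∩ b ⁻¹' {z} = ∅ := by
  haveI : LocallyOfFiniteType (b.fiberToSpecResidueField z) := inferInstanceAs (LocallyOfFiniteType (pullback.snd _ _))
  haveI : JacobsonSpace ↥(b.fiber z) := LocallyOfFiniteType.jacobsonSpace (b.fiberToSpecResidueField z)
  let S : Set ↥(b.fiber z) := b.fiberι z ⁻¹' (U : Set X)
  have hSo : IsOpen S := U.2.preimage (b.fiberι z).continuous
  have hSf : S.Finite := by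
    refine (hfin.preimage (b.fiberι z).isEmbedding.injective.injOn).subset fun p hp => ⟨hp, ?_⟩
    exact (b.range_fiberι z).le ⟨p, rfl⟩
  have hC : IsClosed (S ∩ closedPoints _) := by
    have : S ∩ closedPoints _ = ⋃ p ∈ S ∩ closedPoints ↥(b.fiber z), {p} := (Set.biUnion_of_singleton _).symm
    rw [this]
    exact (hSf.subset Set.inter_subset_left).isClosed_biUnion fun p hp => hp.2
  have hScl : IsClosed S := by
    suffices h : S ∩ closedPoints _ = S by rwa [h] at hC
    refine Set.inter_eq_left.2 fun p hp => ?_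
    by_contra hpc
    obtain ⟨q, ⟨hqS, hqn⟩, hq⟩ := nonempty_inter_closedPoints (X := ↥(b.fiber z))
      (Z := S \ (S ∩ closedPoints _)) ⟨p, hp, fun h => hpc h.2⟩ (hSo.sdiff hC).isLocallyClosed
    exact hqn ⟨hqS, hq⟩
  rcases isClopen_iff.1 (⟨hScl, hSo⟩ : IsClopen S) with h | h
  · refine Set.eq_empty_of_forall_notMem fun x hx => ?_
    obtain ⟨p, rfl⟩ := (b.range_fiberι z).ge hx.2
    exact (h.le (show p ∈ S from hx.1) :)
  · obtain ⟨x, hx, hxU⟩ := hne
    obtain ⟨p, rfl⟩ := (b.range_fiberι z).ge (show x ∈ b ⁻¹' {z} from hx)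
    exact absurd (h.ge (Set.mem_univ p)) hxU

/-- The first factor of the Stein factorisation of a map collapsing an exceptional line and finite-to-one
elsewhere contracts it. -/
theorem contraction_of_stein {E X Y : Scheme.{u}} [IsNoetherian X] [IsNoetherian Y]
    (ι : E ⟶ X) [IsClosedImmersion ι] (hE : Models.IsExcCurve ι) (f : X ⟶ Y) [IsProper f]
    (y : Y) (hy : Set.range ((ι ≫ f).base : E → Y) = {y})
    (hqf : LocallyQuasiFinite (Scheme.Opens.ι (X := X) ι.ker.support.compl ≫ f)) :
    Models.IsContractionOf ι f.toNormalization ∧ IsFinite f.fromNormalization ∧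
      (∀ V, IsIso (f.toNormalization.app V)) ∧
      ∃ (x' : f.normalization) (hx' : IsClosed ({x'} : Set f.normalization)),
        Set.range ι = f.toNormalization ⁻¹' {x'} ∧
        IsIso (f.toNormalization ∣_ (⟨{x'}ᶜ, hx'.isOpen_compl⟩ : f.normalization.Opens)) := by
  let b := f.toNormalization
  let g := f.fromNormalization
  have hbg : b ≫ g = f := f.toNormalization_fromNormalization
  haveI : IsFinite g := Stein.isFinite_fromNormalization f
  haveI : IsProper (b ≫ g) := hbg.symm ▸ ‹IsProper f›
  haveI : IsProper b := IsProper.of_comp b g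
  haveI : IsLocallyNoetherian f.normalization := LocallyOfFiniteType.isLocallyNoetherian g
  haveI : CompactSpace f.normalization := QuasiCompact.compactSpace_of_compactSpace g
  haveI : IsNoetherian f.normalization := ⟨⟩
  have happ : ∀ V, IsIso (b.app V) := fun V =>
    (ConcreteCategory.isIso_iff_bijective _).2 (Stein.bijective_toNormalization_app f V)
  let U : X.Opens := ι.ker.support.compl
  have hU : ∀ x, x ∈ U ↔ x ∉ Set.range ι := fun x => by
    show x ∉ (ι.ker.support : Set X) ↔ _
    rw [Scheme.Hom.support_ker]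
    show x ∉ closure (Set.range ι) ↔ _
    rw [ι.isClosedEmbedding.isClosed_range.closure_eq]
  have hfinU : ∀ z : f.normalization, ((U : Set X) ∩ b ⁻¹' {z}).Finite := fun z => by
    haveI := hqf
    haveI : CompactSpace U.toScheme := isCompact_iff_compactSpace.1 (NoetherianSpace.isCompact (U : Set X))
    haveI : QuasiCompact (U.ι ≫ f) := inferInstance
    refine (((U.ι ≫ f).finite_preimage_singleton (g z)).image U.ι).subset ?_
    rintro x ⟨hxU, hxz⟩
    refine ⟨⟨x, hxU⟩, ?_, rfl⟩
    show f x = g z
    rw [← show (b ≫ g) x = f x from congrArg (fun φ => φ x) hbg, Scheme.Hom.comp_apply, show b x = z from hxz]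
  haveI : ∀ z : f.normalization, ConnectedSpace ↥(b.fiber z) := fun z =>
    Stein.connectedSpace_fiber' b z fun V _ _ => happ V
  -- the image of the curve is one closed point
  obtain ⟨hc, k, _, e, ht⟩ := id hE
  haveI : IsIntegral (CohB1.ProjSpace 1 k) := ProjDim.isIntegral_proj _ 1
  let p₀ : E := e.hom (genericPoint (CohB1.ProjSpace 1 k))
  haveI : PreconnectedSpace E := ⟨by
    rw [← e.hom.surjective.range_eq]; exact isPreconnected_range e.hom.continuous⟩
  have himage : ∀ p, g (b (ι p)) = y := fun p => by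
    have h : (ι ≫ f) p ∈ ({y} : Set Y) := hy.le ⟨p, rfl⟩
    rw [← hbg] at h
    exact h
  let Im := Set.range fun p => b (ι p)
  have hImc : IsClosed Im := by
    show IsClosed (Set.range (b ∘ ι))
    rw [Set.range_comp]
    exact b.isClosedMap _ ι.isClosedEmbedding.isClosed_range
  have hImfin : Im.Finite := (g.finite_preimage_singleton y).subset (by
    rintro _ ⟨p, rfl⟩
    exact himage p)
  have hyc : IsClosed ({y} : Set Y) := by
    rw [← hy]
    show IsClosed (Set.range (f ∘ ι))
    rw [Set.range_comp]
    exact f.isClosedMap _ ι.isClosedEmbedding.isClosed_range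
  let x' := b (ι p₀)
  have hIm : Im = {x'} := by
    have hdisc : _root_.IsDiscrete (g ⁻¹' {y}) := g.isDiscrete_preimage_singleton y
    have hsub : Im ⊆ g ⁻¹' {y} := by rintro _ ⟨p, rfl⟩; exact himage p
    have hconn : _root_.IsPreconnected Im := isPreconnected_range (b.continuous.comp ι.continuous)
    haveI := (hdisc.mono hsub).to_subtype
    haveI : PreconnectedSpace Im := Subtype.preconnectedSpace hconn
    haveI : Subsingleton Im := PreconnectedSpace.trivial_of_discrete
    exact (Set.subsingleton_coe _).1 inferInstance |>.eq_singleton_of_mem ⟨p₀, rfl⟩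
  have hx' : IsClosed ({x'} : Set f.normalization) := hIm ▸ hImc
  have hfib : Set.range ι = b ⁻¹' {x'} := by
    refine Set.Subset.antisymm ?_ fun x hx => ?_
    · rintro _ ⟨p, rfl⟩
      exact hIm.le ⟨p, rfl⟩
    · by_contra hxE
      exact (eq_empty_of_finite_open b x' (hfinU x') ⟨ι p₀, rfl, fun h => (hU _).1 h ⟨p₀, rfl⟩⟩).le
        ⟨(hU x).2 hxE, hx⟩
  let P : f.normalization.Opens := ⟨{x'}ᶜ, hx'.isOpen_compl⟩
  have hpunct : IsIso (b ∣_ P) := by
    haveI : IsProper (b ∣_ P) := IsZariskiLocalAtTarget.restrict ‹IsProper b› P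
    haveI : LocallyQuasiFinite (b ∣_ P) := by
      refine LocallyQuasiFinite.of_finite_preimage_singleton _ fun z => ?_
      refine ((hfinU z.1).preimage Subtype.val_injective.injOn).subset fun w hw => ⟨(hU _).2 fun h => ?_, ?_⟩
      · exact w.2 (hfib.le h)
      · show b w.1 = z.1
        rw [← show (b ∣_ P) w = z from hw]
        exact (morphismRestrict_base_coe b P w).symm
    haveI : IsFinite (b ∣_ P) := IsFinite.of_isProper_of_locallyQuasiFinite _
    refine isIso_of_affineHom_of_app _ fun V => ?_
    rw [morphismRestrict_app]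
    haveI := happ (P.ι ''ᵁ V)
    infer_instance
  exact ⟨isContractionOf_of_collapse ι hE b happ x' hx' hfib hpunct, ‹IsFinite g›, happ, x', hx', hfib, hpunct⟩

end GrothLib.Contract29
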