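import Groth.Agent.Lib.Contract29.GGMap
import Groth.Agent.Lib.Contract29.Stein
import Groth.Agent.Lib.Contract29.ArSurf
import Groth.Agent.Lib.ArSurf29.DegZero
import Groth.Agent.Lib.ArSurf29.FibreComponents
import Groth.Agent.Lib.CurveModel.Pencil
import Groth.Agent.Lib.RatSing29.FiniteModel
import Groth.Agent.Lib.Stein.Main
import Groth.Agent.Lib.AlgSp.Dim

/-!
# Contraction through the Stein factorisation of a map to projective space
-/

universe u

set_option autoImplicit false
set_option linter.all false
set_option backward.isDefEq.respectTransparency false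

open CategoryTheory CategoryTheory.Limits AlgebraicGeometry TopologicalSpace IsLocalRing

noncomputable section

namespace GrothLib.Contract29

variable {R : Type u} [CommRing R] [IsDomain R] [IsDiscreteValuationRing R]

theorem point_cases (s : Spec (CommRingCat.of R)) : s.asIdeal = ⊥ ∨ s = closedPoint R := by
  by_cases h : s.asIdeal = ⊥
  · exact Or.inl h
  · exact Or.inr (PrimeSpectrum.ext (IsLocalRing.eq_maximalIdeal (Ring.DimensionLEOne.maximalOfPrime h s.isPrime)))

theorem bot_ne_closedPoint {s : Spec (CommRingCat.of R)} (h : s.asIdeal = ⊥) : s ≠ closedPoint R := fun e => by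
  subst e
  exact IsDiscreteValuationRing.not_a_field R h

variable {X : Over (Spec (CommRingCat.of R))} [IsProper X.hom] [Flat X.hom] [IsIntegral X.left]

/-- A point of the generic fibre other than the generic point has no specialisation in the generic fibre. -/
theorem eq_of_specializes_generic (hdim : topologicalKrullDim X.left = 2) {z z' : X.left} (h : z ⤳ z')
    (hne : z ≠ genericPoint X.left) (hz' : (X.hom z').asIdeal = ⊥) : z = z' := by
  by_contra hzz
  obtain ⟨e, hze, he⟩ := X.hom.isClosedMap.specializingMap (IsLocalRing.specializes_closedPoint (X.hom z'))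
  have he' : X.hom e = closedPoint R := he
  have hez : z' ≠ e := fun hh => bot_ne_closedPoint hz' (hh ▸ he')
  let cl : X.left → IrreducibleCloseds X.left := fun a => ⟨closure {a}, isIrreducible_singleton.closure, isClosed_closure⟩
  have hlt : ∀ a a' : X.left, a ⤳ a' → a ≠ a' → cl a' < cl a := fun a a' haa hn =>
    CurvePoints.closure_lt_closure isClosed_closure isIrreducible_singleton.closure isClosed_closure
      isIrreducible_singleton.closure (closure_minimal (Set.singleton_subset_iff.2 (specializes_iff_mem_closure.1 haa))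
        isClosed_closure) fun heq => hn ((inseparable_iff_closure_eq.2 heq).eq).symm
  let l : LTSeries (IrreducibleCloseds X.left) := ⟨3, ![cl e, cl z', cl z, cl (genericPoint X.left)], fun i => by
    fin_cases i
    exacts [hlt _ _ hze hez, hlt _ _ h hzz, hlt _ _ (genericPoint_specializes z) (Ne.symm hne)]⟩
  have h3 : ((3 : ℕ) : WithBot ℕ∞) ≤ topologicalKrullDim X.left := Order.le_krullDim_iff.2 ⟨l, rfl⟩
  rw [hdim] at h3
  exact absurd h3 (by norm_num)

variable {P : Scheme.{u}} (t : P ⟶ Spec (CommRingCat.of R)) (φ : X.left ⟶ P) [IsProper φ]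

/-- Two related points with the same image lie on contracted curves. -/
theorem mem_of_fibre_pair (hdim : topologicalKrullDim X.left = 2) (hφ : φ ≫ t = X.hom)
    (hgen : ∀ x : P, ∃ z, (X.hom z).asIdeal = ⊥ ∧ φ z ≠ x) {z z' : X.left} (h : z ⤳ z') (hne : z ≠ z')
    (he : φ z = φ z') :
    ∃ E : ArSurf.VertComp R X, z ∈ Set.range E.ι ∧ ∃ x : P, Set.range (E.ι ≫ φ) = {x} := by
  have hX : ∀ a, X.hom a = t (φ a) := fun a => by rw [← Scheme.Hom.comp_apply, hφ]
  haveI : IsLocallyNoetherian X.left := LocallyOfFiniteType.isLocallyNoetherian X.hom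
  rcases point_cases (X.hom z') with hz' | hz'
  · exfalso
    obtain rfl : z = genericPoint X.left := by
      by_contra hne'
      exact hne (eq_of_specializes_generic hdim h hne' hz')
    obtain ⟨w, hw, hwx⟩ := hgen (φ z')
    refine hwx ?_
    have hv : φ z' ⤳ φ w := he ▸ (genericPoint_specializes w).map φ.continuous
    obtain ⟨u, hu, huw⟩ := φ.isClosedMap.specializingMap hv
    obtain rfl : z' = u := eq_of_specializes_generic hdim hu hne.symm (by rw [hX, huw, ← hX]; exact hw)
    exact huw.symm
  · have hz : z ∈ Models.specialFibreSet R X := by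
      show X.hom z = closedPoint R
      rw [hX, he, ← hX, hz']
    obtain ⟨E, η, -, -, hzE, hr⟩ := ArSurf29.exists_vertComp_through (ArSurf29.dim_component hdim) hz
    haveI := E.isClosedImmersion
    haveI := E.isIntegral
    obtain ⟨w, hw⟩ := hzE
    have hzr : z ∈ Set.range E.ι := ⟨w, hw⟩
    obtain ⟨w', hw'⟩ : z' ∈ Set.range E.ι :=
      h.mem_closed E.ι.isClosedEmbedding.isClosed_range hzr
    have hwη : w = genericPoint E.curve.left := by
      by_contra hn
      have hzc : IsClosed ({z} : Set X.left) := by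
        rw [← hw, ← Set.image_singleton]
        exact E.ι.isClosedMap _ (CurvePoints.isClosed_singleton E.dim_eq.le hn)
      exact hne (h.mem_closed hzc rfl : z' = z).symm
    have hw'η : w' ≠ genericPoint E.curve.left := fun hh => hne (by rw [← hw, ← hw', hwη, hh])
    have hxc : IsClosed ({φ z'} : Set P) := by
      rw [← hw', ← Scheme.Hom.comp_apply, ← Set.image_singleton]
      exact (E.ι ≫ φ).isClosedMap _ (CurvePoints.isClosed_singleton E.dim_eq.le hw'η)
    refine ⟨E, ⟨w, hw⟩, φ z', Set.Subset.antisymm ?_ (Set.singleton_subset_iff.2 ⟨w', by rw [← hw']; rfl⟩)⟩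
    rintro _ ⟨a, rfl⟩
    have ha : φ z' ⤳ (E.ι ≫ φ) a := by
      rw [← he, ← hw, hwη]
      exact (genericPoint_specializes a).map (E.ι ≫ φ).continuous
    exact ha.mem_closed hxc rfl

/-- The Stein factor contracts exactly the given curves. -/
theorem exists_contraction_of_map {n : ℕ} (φ : X.left ⟶ CohB1.ProjSpace n R)
    (hφ : φ ≫ CohB1.ProjSpace.toSpec n R = X.hom)
    (hnor : ∀ x : X.left, IsIntegrallyClosed (X.left.presheaf.stalk x)) (hdim : topologicalKrullDim X.left = 2)
    (hgen : ∀ x, ∃ z, (X.hom z).asIdeal = ⊥ ∧ φ z ≠ x)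
    {r : ℕ} (Γ : Fin r → ArSurf.VertComp R X)
    (hcon : ∀ E : ArSurf.VertComp R X, (∃ x, Set.range (E.ι ≫ φ) = {x}) ↔
      ∃ i, Set.range E.ι = Set.range (Γ i).ι) :
    ∃ (Y : Over (Spec (CommRingCat.of R))) (f : X ⟶ Y),
      IsIntegral Y.left ∧ (∀ q : Y.left, IsIntegrallyClosed (Y.left.presheaf.stalk q)) ∧
      topologicalKrullDim Y.left = 2 ∧ Flat Y.hom ∧ Neron.IsProjectiveOver R Y ∧
      (∀ i, ∃ y : Y.left, Set.range ((Γ i).ι ≫ f.left) = {y}) ∧
      f.left ⁻¹' (f.left '' ⋃ i, Set.range (Γ i).ι) = ⋃ i, Set.range (Γ i).ι ∧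
      ∀ V : Y.left.Opens, (V : Set Y.left) ∩ f.left '' (⋃ i, Set.range (Γ i).ι) = ∅ →
        IsIso (f.left ∣_ V) := by
  classical
  haveI : IsLocallyNoetherian X.left := LocallyOfFiniteType.isLocallyNoetherian X.hom
  haveI : CompactSpace X.left := QuasiCompact.compactSpace_of_compactSpace X.hom
  haveI : IsNoetherian X.left := {}
  haveI := Chow.isProper_toSpec n R
  haveI : IsLocallyNoetherian (CohB1.ProjSpace n R) :=
    LocallyOfFiniteType.isLocallyNoetherian (CohB1.ProjSpace.toSpec n R)
  haveI : IsProper (φ ≫ CohB1.ProjSpace.toSpec n R) := by rw [hφ]; infer_instance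
  haveI : IsProper φ := IsProper.of_comp φ (CohB1.ProjSpace.toSpec n R)
  let b := φ.toNormalization
  let g := φ.fromNormalization
  have hbg : b ≫ g = φ := φ.toNormalization_fromNormalization
  have hbg' : ∀ a, g (b a) = φ a := fun a => by rw [← Scheme.Hom.comp_apply, hbg]
  haveI : IsFinite g := Stein.isFinite_fromNormalization φ
  haveI : IsProper (b ≫ g) := hbg.symm ▸ ‹IsProper φ›
  haveI : IsProper b := IsProper.of_comp b g
  haveI : IsLocallyNoetherian φ.normalization := LocallyOfFiniteType.isLocallyNoetherian g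
  have hbij : ∀ V, Function.Bijective (b.app V) := fun V => Stein.bijective_toNormalization_app φ V
  have happ : ∀ V, IsIso (b.app V) := fun V => (ConcreteCategory.isIso_iff_bijective _).2 (hbij V)
  have hsurj : Function.Surjective b := Stein.surjective_toNormalization φ
  haveI : IrreducibleSpace φ.normalization := (irreducibleSpace_def _).2 (by
    show IsIrreducible (Set.univ : Set φ.normalization)
    rw [← hsurj.range_eq, ← Set.image_univ]
    exact (IrreducibleSpace.isIrreducible_univ X.left).image _ b.continuous.continuousOn)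
  haveI : IsIntegral φ.normalization := isIntegral_of_irreducibleSpace_of_isReduced _
  let Y : Over (Spec (CommRingCat.of R)) := Over.mk (g ≫ CohB1.ProjSpace.toSpec n R)
  let f : X ⟶ Y := Over.homMk b (by show b ≫ g ≫ _ = _; rw [← Category.assoc, hbg, hφ])
  have hNY : Pi1.IsNormalScheme φ.normalization :=
    RatSing29.isNormalScheme_of_bijective_app (fun x => ⟨inferInstance, hnor x⟩) b hbij
  let T : Set X.left := ⋃ i, Set.range (Γ i).ι
  have hTc : IsClosed T := isClosed_iUnion_of_finite fun i => by
    haveI := (Γ i).isClosedImmersion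
    exact (Γ i).ι.isClosedEmbedding.isClosed_range
  have hpair : ∀ z z' : X.left, z ⤳ z' → z ≠ z' → b z = b z' → z ∈ T := fun z z' h hne he => by
    obtain ⟨E, hzE, hE⟩ := mem_of_fibre_pair (CohB1.ProjSpace.toSpec n R) φ hdim hφ hgen h hne
      (by rw [← hbg', ← hbg', he])
    obtain ⟨i, hi⟩ := (hcon E).1 hE
    exact Set.mem_iUnion.2 ⟨i, hi ▸ hzE⟩
  have hsingle : ∀ i, ∃ y : φ.normalization, Set.range ((Γ i).ι ≫ b) = {y} ∧ IsClosed ({y} : Set φ.normalization) := by
    intro i
    haveI := (Γ i).isClosedImmersion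
    haveI := (Γ i).isIntegral
    obtain ⟨x, hx⟩ := (hcon (Γ i)).2 ⟨i, rfl⟩
    let Im := Set.range ((Γ i).ι ≫ b)
    have hsub : Im ⊆ g ⁻¹' {x} := by
      rintro _ ⟨a, rfl⟩
      show g (b ((Γ i).ι a)) = x
      rw [hbg']
      exact hx.le ⟨a, rfl⟩
    have hconn : _root_.IsPreconnected Im := isPreconnected_range ((Γ i).ι ≫ b).continuous
    haveI := ((g.isDiscrete_preimage_singleton x).mono hsub).to_subtype
    haveI : PreconnectedSpace Im := Subtype.preconnectedSpace hconn
    haveI : Subsingleton Im := PreconnectedSpace.trivial_of_discrete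
    have hIm := ((Set.subsingleton_coe _).1 inferInstance).eq_singleton_of_mem
      (show ((Γ i).ι ≫ b) (genericPoint (Γ i).curve.left) ∈ Im from ⟨_, rfl⟩)
    refine ⟨_, hIm, ?_⟩
    rw [← hIm]
    exact ((Γ i).ι ≫ b).isClosedMap.isClosed_range
  -- the fibres over the images
  have hfib : b ⁻¹' (b '' T) = T := by
    refine Set.Subset.antisymm (fun w ⟨a, ha, haw⟩ => ?_) (Set.subset_preimage_image _ _)
    obtain ⟨i, c, hc⟩ := Set.mem_iUnion.1 ha
    obtain ⟨y, hy, hyc⟩ := hsingle i
    have hay : b a = y := hy.le ⟨c, (congrArg b hc : _)⟩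
    let Z : Set X.left := b ⁻¹' {y}
    have hZc : IsClosed Z := hyc.preimage b.continuous
    have hZp : _root_.IsPreconnected Z := by
      haveI := Stein.connectedSpace_fiber b y happ
      have h : Set.range (b.fiberι y) = Z := b.range_fiberι y
      exact h ▸ isPreconnected_range (b.fiberι y).continuous
    have hcl : ∀ v ∈ Z, v ∉ T → IsClosed ({v} : Set X.left) := fun v hv hvT => by
      refine isClosed_of_closure_subset fun v' hv' => ?_
      by_contra hne
      have hs : v ⤳ v' := specializes_iff_mem_closure.2 hv'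
      exact hvT (hpair v v' hs (Ne.symm hne) (hv.trans (hs.mem_closed hZc hv : b v' = y).symm))
    obtain ⟨S, hSf, hSirr, hScl, hcov⟩ := NoetherianSpace.exists_finite_set_isClosed_irreducible hZc
    have hfinite : (Z \ T).Finite := by
      refine ((hSf.sep fun C => ¬ C ⊆ T).biUnion (t := fun C => C \ T) fun C hC => ?_).subset fun v hv => ?_
      · obtain ⟨γ, hγ⟩ := QuasiSober.sober (hScl C hC.1) (hSirr C hC.1)
        have hγT : γ ∉ T := fun hh => hC.2 (hγ.def.symm.trans_le (closure_minimal (Set.singleton_subset_iff.2 hh) hTc))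
        have hγZ : γ ∈ Z := hcov.ge (Set.mem_sUnion_of_mem hγ.mem hC.1)
        rw [← hγ.def, (hcl γ hγZ hγT).closure_eq]
        exact (Set.finite_singleton γ).subset Set.diff_subset
      · obtain ⟨C, hC, hvC⟩ := (hcov ▸ hv.1 : v ∈ ⋃₀ S)
        exact Set.mem_biUnion (⟨hC, fun hsub => hv.2 (hsub hvC)⟩ : C ∈ {C | C ∈ S ∧ ¬ C ⊆ T}) ⟨hvC, hv.2⟩
    have hdc : IsClosed (Z \ T) := by
      rw [← Set.biUnion_of_singleton (Z \ T)]
      exact hfinite.isClosed_biUnion fun v hv => hcl v hv.1 hv.2
    rcases isPreconnected_iff_subset_of_disjoint_closed.1 hZp (Z \ T) T hdc hTc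
      (fun v hv => by by_cases hh : v ∈ T; exacts [Or.inr hh, Or.inl ⟨hv, hh⟩])
      (Set.eq_empty_iff_forall_notMem.2 fun v hv => hv.2.1.2 hv.2.2) with h | h
    · exact absurd ha (h hay).2
    · exact h (show b w = y from haw.symm.trans hay)
  refine ⟨Y, f, ‹IsIntegral φ.normalization›, fun q => (hNY q).2, ?_, ?_, ?_,
    fun i => ⟨_, (hsingle i).choose_spec.1⟩, hfib, fun V hV => ?_⟩
  · -- dimension
    refine le_antisymm ((AlgSp.topologicalKrullDim_le_of_specializingMap b.continuous
      b.isClosedMap.specializingMap hsurj).trans hdim.le) ?_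
    obtain ⟨c, hc0, hcne⟩ := hgen (φ (genericPoint X.left))
    have hY : ∀ a, Y.hom (b a) = X.hom a := fun a => by
      show (g ≫ CohB1.ProjSpace.toSpec n R) (b a) = _
      rw [Scheme.Hom.comp_apply, hbg', ← Scheme.Hom.comp_apply, hφ]
    haveI : IsProper Y.hom := inferInstanceAs (IsProper (g ≫ CohB1.ProjSpace.toSpec n R))
    obtain ⟨e, hce, he⟩ := Y.hom.isClosedMap.specializingMap (IsLocalRing.specializes_closedPoint (Y.hom (b c)))
    refine ArSurf29.two_le_dim ((genericPoint_specializes c).map b.continuous) hce ?_ ?_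
    · intro hh
      exact hcne (by rw [← hbg', ← hh, hbg'])
    · intro hh
      have he' : Y.hom e = closedPoint R := he
      rw [← hh, hY] at he'
      exact bot_ne_closedPoint hc0 he'
  · -- flatness
    haveI : IsProper (g ≫ CohB1.ProjSpace.toSpec n R) := inferInstance
    show Flat (g ≫ CohB1.ProjSpace.toSpec n R)
    refine CurvePoints.flat_of_dominant ?_ (fun q => ?_) _ ?_
    · exact (PrimeSpectrum.topologicalKrullDim_eq_ringKrullDim R).le.trans (Ring.krullDimLE_iff.1 inferInstance)
    · exact IsIntegrallyClosed.of_equiv (StructureSheaf.stalkIso R q).toRingEquiv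
    have h0 : X.hom (genericPoint X.left) = genericPoint (Spec (CommRingCat.of R)) := by
      refine (genericPoint_spec (Spec (CommRingCat.of R))).eq ?_ |>.symm
      rw [show X.hom (genericPoint X.left) = (⊥ : PrimeSpectrum R) from PrimeSpectrum.ext (ArSurf29.hom_genericPoint X.hom)]
      exact Set.eq_univ_of_forall fun q => specializes_iff_mem_closure.1 ((PrimeSpectrum.le_iff_specializes _ q).1 bot_le)
    exact ((genericPoint_specializes ((g ≫ CohB1.ProjSpace.toSpec n R) (genericPoint φ.normalization))).antisymm (by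
      rw [← h0, show X.hom (genericPoint X.left) = (g ≫ CohB1.ProjSpace.toSpec n R) (b (genericPoint X.left)) by
        rw [← Scheme.Hom.comp_apply, ← Category.assoc, hbg, hφ]]
      exact (genericPoint_specializes (b (genericPoint X.left))).map (g ≫ CohB1.ProjSpace.toSpec n R).continuous)).eq.symm
  · haveI : IsProper Y.hom := inferInstanceAs (IsProper (g ≫ CohB1.ProjSpace.toSpec n R))
    exact isProjectiveOver_of_isAmple Y (Ample.isAmple_pullback_of_isAffineHom g (Ample.isAmple_twistProjSpace_one n R))
  · show IsIso (b ∣_ V)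
    haveI : IsProper (b ∣_ V) := IsZariskiLocalAtTarget.restrict ‹IsProper b› V
    haveI : LocallyQuasiFinite (b ∣_ V) := by
      refine LocallyQuasiFinite.of_finite_preimage_singleton _ fun v => ?_
      have hfin : (b ⁻¹' {v.1}).Finite := by
        haveI := Stein.noetherianSpace_fiber' b v.1
        rw [← b.range_fiberι v.1, ← Set.image_univ]
        refine (CurveModel.finite_of_forall_isClosed isClosed_univ fun p _ => isClosed_of_closure_subset fun q hq => ?_).image _
        by_contra hne
        have hp : ∀ p, b (b.fiberι v.1 p) = v.1 := fun p => (b.range_fiberι v.1).le ⟨p, rfl⟩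
        have hT := hpair _ _ ((specializes_iff_mem_closure.2 hq).map (b.fiberι v.1).continuous)
          (fun hh => hne ((b.fiberι v.1).isEmbedding.injective hh).symm) ((hp p).trans (hp q).symm)
        exact hV.le ⟨v.2, _, hT, hp p⟩
      refine (hfin.preimage Subtype.val_injective.injOn).subset fun w hw => ?_
      show b w.1 = v.1
      rw [← show (b ∣_ V) w = v from hw]
      exact (morphismRestrict_base_coe b V w).symm
    haveI : IsFinite (b ∣_ V) := IsFinite.of_isProper_of_locallyQuasiFinite _
    refine isIso_of_affineHom_of_app _ fun W => ?_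
    rw [morphismRestrict_app]
    haveI := happ (V.ι ''ᵁ W)
    infer_instance

end GrothLib.Contract29
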