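import Groth.Agent.Lib.Contract29.BirEuler
import Groth.Agent.Lib.ArSurf29.MinimalEngine
import Groth.Agent.Lib.ArSurf29.Inter
import Groth.Agent.Lib.ArSurf29.Contracted
import Groth.Agent.Lib.ArSurf29.Restrict
import Groth.Agent.Lib.RatSing29.StalkRational
import Groth.Agent.Lib.Euler.TensorSupport

/-!
# Components, multiplicities and intersection numbers under a contraction
-/

universe u

set_option autoImplicit false
set_option linter.all false
set_option backward.isDefEq.respectTransparency false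

open CategoryTheory CategoryTheory.Limits AlgebraicGeometry TopologicalSpace IsLocalRing
open GrothLib.Cube (Pic clsMod)
open GrothLib.HodgeIndex (rep isInv_rep cls_rep)
open GrothLib.CartierDescent (stalkIdeal stalkIdeal_eq_top_iff stalkIdeal_comap)

noncomputable section

namespace GrothLib.Contract29

open GrothLib.ArSurf29

/-- The degree of an invertible module is unchanged by a finite birational map of curves. -/
theorem deg_pullback_of_birational (k : Type u) [Field k] {A Z : Scheme.{u}} [A.Over (Spec (CommRingCat.of k))]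
    [Z.Over (Spec (CommRingCat.of k))] [IsProper (Z ↘ Spec (CommRingCat.of k))] [IsIntegral Z]
    (hd : topologicalKrullDim Z ≤ 1) (φ : A ⟶ Z) [IsFinite φ]
    (hφ : φ ≫ Z ↘ Spec (CommRingCat.of k) = A ↘ Spec (CommRingCat.of k))
    (U : Z.Opens) (hU : (U : Set Z).Nonempty) [IsIso (φ ∣_ U)] {M : Z.Modules} (hM : PicF.IsInvertible M) :
    Curv2.deg k A ((Scheme.Modules.pullback φ).obj M) 1 = Curv2.deg k Z M 1 := by
  haveI := Euler.isNoetherian_of_proper (X := Z) k
  haveI : IsProper (A ↘ Spec (CommRingCat.of k)) := hφ ▸ inferInstance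
  haveI := Euler.isNoetherian_of_proper (X := A) k
  haveI := isDominant_of_iso_over φ U hU
  haveI : Mono (ClSub.unitToPush φ) := Kodaira.mono_unitToPush φ
  have hη : genericPoint Z ∈ U := ((genericPoint_spec Z).mem_open_set_iff U.2).2 (by simpa using hU)
  have hOA : Coh.IsCoh (Coh.structureModule A) := Euler.isCoh_of_isInvertible Euler.isInvertible_structure
  have hOZ : Coh.IsCoh (Coh.structureModule Z) := Euler.isCoh_of_isInvertible Euler.isInvertible_structure
  have hP := FinGen9.isCoh_push φ hOA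
  let S := ShortComplex.mk (ClSub.unitToPush φ) (cokernel.π _) (cokernel.condition _)
  have hS : S.ShortExact := ShortComplex.ShortExact.mk' (ShortComplex.exact_cokernel _) inferInstance inferInstance
  have hQ : Coh.IsCoh (cokernel (ClSub.unitToPush φ)) := QCoh.isCoh_cokernel _ hOZ hP
  obtain ⟨hfin, hcl⟩ := Euler.finite_support_of_notMem_genericPoint k hd hQ
    (QCoh.notMem_support_cokernel_of_surjective _
      (CurveMult.GenusFinite.stalkLin_surjective_of_app _ hη fun T hT _ => (bijective_app_of_le φ U hT).2))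
  have hL1 := Euler.isFinLocFreeOfRank_one' hM
  have hlf := FinCov.isFinLocFree_of_rank hL1
  have hT := OX.tensor_map_shortExact (OX.flat_of_isFinLocFree hlf) hS
  have hadd := Euler.euler_additive k hT (Euler.isCoh_tF hOZ hlf) (Euler.isCoh_tF hP hlf) (Euler.isCoh_tF hQ hlf)
  have hadd0 := Euler.euler_additive k hS hOZ hP hQ
  simp only [ShortComplex.map_X₁, ShortComplex.map_X₂, ShortComplex.map_X₃, S] at hadd hadd0
  have e3 := Euler.euler_tF_of_finite_support k hL1 hQ hfin hcl
  rw [Nat.cast_one, one_mul] at e3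
  haveI := Cohom.isQuasicoherent_structureModule A
  haveI := ProjFormula.isIso_projHom φ (Euler.isFinLocFree_of_isInvertible hM) (Coh.structureModule A)
  let e₁ : (Euler.tF M).obj ((Coh.push φ).obj (Coh.structureModule A)) ≅
      (Coh.push φ).obj ((Scheme.Modules.pullback φ).obj M) :=
    ((OX.tensorBraiding (X := Z)).app M).app _ ≪≫ asIso (ProjFormula.projHom φ M (Coh.structureModule A)) ≪≫
      (Scheme.Modules.pushforward φ).mapIso (Euler.tFUnitIso _)
  have hMA := Kleiman.isInv_pullback φ hM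
  haveI : ((Scheme.Modules.pullback φ).obj M).IsQuasicoherent := (Euler.isCoh_of_isInvertible hMA).1
  have e2 := (Euler.euler_of_iso k e₁).trans (Snapper.euler_pushforward φ hφ ((Scheme.Modules.pullback φ).obj M))
  have e1 := Euler.euler_of_iso k (OX.tensorUnitLeftIso M : (Euler.tF M).obj (Coh.structureModule Z) ≅ M)
  have e0 := Snapper.euler_pushforward φ hφ (Coh.structureModule A)
  change Curv2.euler k A ((Scheme.Modules.pullback φ).obj M) - ((1 : ℕ) : ℤ) * Curv2.euler k A (Coh.structureModule A) =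
    Curv2.euler k Z M - ((1 : ℕ) : ℤ) * Curv2.euler k Z (Coh.structureModule Z)
  rw [Nat.cast_one, one_mul, one_mul]
  change Curv2.euler k Z ((Euler.tF M).obj ((Coh.push φ).obj (Coh.structureModule A))) =
    Curv2.euler k Z ((Euler.tF M).obj (Coh.structureModule Z)) + Curv2.euler k Z ((Euler.tF M).obj (cokernel (ClSub.unitToPush φ))) at hadd
  change Curv2.euler k Z ((Euler.tF M).obj (Coh.structureModule Z)) = Curv2.euler k Z M at e1
  change Curv2.euler k Z ((Coh.push φ).obj (Coh.structureModule A)) = _ at hadd0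
  change Curv2.euler k Z ((Coh.push φ).obj (Coh.structureModule A)) = _ at e0
  linarith

variable {R : Type u} [CommRing R] [IsDomain R] [IsDiscreteValuationRing R]

/-- A nonclosed point of the closed fibre is the generic point of a component. -/
theorem exists_genPt_of_not_isClosed {X : Over (Spec (CommRingCat.of R))} [IsProper X.hom] [IsLocallyNoetherian X.left]
    {n : ℕ} {Γ : Fin n → ArSurf.VertComp R X} (hΓ : Models.IsComponentList R X Γ) {z : X.left}
    (hz : z ∈ Models.specialFibreSet R X) (hzc : ¬ IsClosed ({z} : Set X.left)) :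
    ∃ i, Models.genPtOf R X (Γ i) = z := by
  obtain ⟨i, w, hw⟩ := exists_mem_range hΓ hz
  haveI := (Γ i).isClosedImmersion
  haveI := (Γ i).isIntegral
  refine ⟨i, ?_⟩
  suffices h : w = genericPoint (Γ i).curve.left by subst h; exact hw
  by_contra hne
  have h' := (Γ i).ι.isClosedEmbedding.isClosedMap _ (CurvePoints.isClosed_singleton (Γ i).dim_eq.le hne)
  rw [Set.image_singleton] at h'
  exact hzc (hw ▸ h')

/-- The generic point of a component is not closed. -/
theorem genPt_not_isClosed {X : Over (Spec (CommRingCat.of R))} (Γ : ArSurf.VertComp R X) :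
    ¬ IsClosed ({Models.genPtOf R X Γ} : Set X.left) := fun h => by
  haveI := Γ.isClosedImmersion
  haveI := Γ.isIntegral
  refine CurvePoints.genericPoint_not_isClosed (X := Γ.curve.left) Γ.dim_eq ?_
  rw [Γ.ι.isClosedEmbedding.isClosed_iff_image_isClosed, Set.image_singleton]
  exact h

section Contracted

variable {X X' : Over (Spec (CommRingCat.of R))} [IsProper X.hom] [IsProper X'.hom] [IsLocallyNoetherian X.left]
  [IsLocallyNoetherian X'.left] (b : X.left ⟶ X'.left) [IsProper b] (hb : b ≫ X'.hom = X.hom)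
  {n : ℕ} {Γ : Fin (n + 1) → ArSurf.VertComp R X} (hΓ : Models.IsComponentList R X Γ)
  {y : X'.left} (hy : IsClosed ({y} : Set X'.left))
  (hfib : b ⁻¹' {y} = Set.range (Γ (Fin.last n)).ι)
  [IsIso (b ∣_ (⟨{y}ᶜ, hy.isOpen_compl⟩ : X'.left.Opens))]

include hy in
omit [IsProper X.hom] [IsProper X'.hom] [IsLocallyNoetherian X.left] [IsLocallyNoetherian X'.left] [IsProper b] in
theorem eq_of_map_eq {a a' : X.left} (h : b a = b a') (ha : b a ≠ y) : a = a' := by
  let V : X'.left.Opens := ⟨{y}ᶜ, hy.isOpen_compl⟩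
  have h' := (b ∣_ V).homeomorph.injective (a₁ := ⟨a, ha⟩) (a₂ := ⟨a', show b a' ≠ y from h ▸ ha⟩)
    (Subtype.ext ((morphismRestrict_base_coe b V (⟨a, ha⟩ : ↥(b ⁻¹ᵁ V))).trans
      (h.trans (morphismRestrict_base_coe b V (⟨a', show b a' ≠ y from h ▸ ha⟩ : ↥(b ⁻¹ᵁ V))).symm)))
  exact congrArg Subtype.val h'

include hΓ hfib in
omit [IsProper X.hom] [IsProper X'.hom] [IsLocallyNoetherian X.left] [IsLocallyNoetherian X'.left] [IsProper b]
  [IsIso (b ∣_ (⟨{y}ᶜ, hy.isOpen_compl⟩ : X'.left.Opens))] in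
theorem image_genPt_ne (l : Fin n) : b (Models.genPtOf R X (Γ l.castSucc)) ≠ y := fun h => by
  exact notMem_range_of_ne hΓ (Fin.castSucc_lt_last l).ne' (hfib.le h)

include hΓ hy hfib in
omit [IsProper X.hom] [IsProper X'.hom] [IsLocallyNoetherian X.left] [IsLocallyNoetherian X'.left] [IsProper b] in
theorem image_genPt_not_isClosed (l : Fin n) :
    ¬ IsClosed ({b (Models.genPtOf R X (Γ l.castSucc))} : Set X'.left) := fun h => by
  refine genPt_not_isClosed (Γ l.castSucc) ?_
  rw [show ({Models.genPtOf R X (Γ l.castSucc)} : Set X.left) = b ⁻¹' {b (Models.genPtOf R X (Γ l.castSucc))} from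
    Set.ext fun a => ⟨by rintro rfl; rfl, fun ha => (eq_of_map_eq b hy ha.symm (image_genPt_ne b hΓ hfib l)).symm⟩]
  exact h.preimage b.continuous

include hb in
omit [IsProper X.hom] [IsProper X'.hom] [IsLocallyNoetherian X.left] [IsLocallyNoetherian X'.left] [IsProper b]
  [IsIso (b ∣_ (⟨{y}ᶜ, hy.isOpen_compl⟩ : X'.left.Opens))] in
theorem image_mem_fibre (z : X.left) :
    b z ∈ Models.specialFibreSet R X' ↔ z ∈ Models.specialFibreSet R X := by
  show X'.hom (b z) = closedPoint R ↔ X.hom z = closedPoint R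
  rw [← Scheme.Hom.comp_apply, hb]

omit [IsProper X.hom] [IsProper X'.hom] [IsLocallyNoetherian X.left] [IsLocallyNoetherian X'.left]
  [IsIso (b ∣_ (⟨{y}ᶜ, hy.isOpen_compl⟩ : X'.left.Opens))] in
theorem image_range_eq_closure (D : ArSurf.VertComp R X) :
    b '' Set.range D.ι = closure {b (Models.genPtOf R X D)} := by
  rw [range_eq_closure D, ← b.isClosedMap.closure_image_eq_of_continuous b.continuous, Set.image_singleton]

omit [IsProper X.hom] [IsProper X'.hom] [IsLocallyNoetherian X.left] [IsLocallyNoetherian X'.left]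
  [IsIso (b ∣_ (⟨{y}ᶜ, hy.isOpen_compl⟩ : X'.left.Opens))] in
theorem genPt_image {D : ArSurf.VertComp R X} {D' : ArSurf.VertComp R X'}
    (h : Set.range D'.ι = b '' Set.range D.ι) : Models.genPtOf R X' D' = b (Models.genPtOf R X D) := by
  rw [image_range_eq_closure, range_eq_closure D'] at h
  exact (inseparable_iff_closure_eq.2 h).eq

include hb hΓ hy hfib in
omit [IsLocallyNoetherian X'.left] in
theorem fibreComponents_eq [IsLocallyNoetherian X'.left] {m : ℕ} {Γ'' : Fin m → ArSurf.VertComp R X'}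
    (hΓ'' : Models.IsComponentList R X' Γ'') :
    Models.fibreComponents R X' = Set.range fun l : Fin n => b '' Set.range (Γ l.castSucc).ι := by
  rw [← hΓ''.2]
  refine Set.ext fun S => ⟨?_, ?_⟩
  · rintro ⟨i, rfl⟩
    let z' := Models.genPtOf R X' (Γ'' i)
    have hz' : z' ≠ y := fun h => genPt_not_isClosed (Γ'' i) (show IsClosed ({z'} : Set X'.left) from h ▸ hy)
    obtain ⟨w, hw⟩ := (b ∣_ (⟨{y}ᶜ, hy.isOpen_compl⟩ : X'.left.Opens)).homeomorph.surjective ⟨z', hz'⟩
    have hbw : b w.1 = z' := (morphismRestrict_base_coe b _ w).symm.trans (congrArg Subtype.val hw)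
    have hwF : w.1 ∈ Models.specialFibreSet R X :=
      (image_mem_fibre b hb w.1).1 (hbw.symm ▸ genPt_mem_fibre (Γ'' i))
    have hwc : ¬ IsClosed ({w.1} : Set X.left) := fun h => genPt_not_isClosed (Γ'' i) (by
      show IsClosed ({z'} : Set X'.left)
      rw [← hbw, ← Set.image_singleton]
      exact b.isClosedMap _ h)
    obtain ⟨l, hl⟩ := exists_genPt_of_not_isClosed hΓ hwF hwc
    obtain ⟨l, rfl⟩ | rfl := l.eq_castSucc_or_eq_last
    · refine ⟨l, ?_⟩
      show b '' _ = Set.range _
      rw [image_range_eq_closure b, hl, hbw]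
      exact (range_eq_closure (Γ'' i)).symm
    · exact absurd (hbw.symm.trans (hfib.ge (by
        rw [← hl]; exact ⟨genericPoint _, rfl⟩))) hz'
  · rintro ⟨l, rfl⟩
    obtain ⟨i, hi⟩ := exists_genPt_of_not_isClosed hΓ''
      ((image_mem_fibre b hb _).2 (genPt_mem_fibre (Γ l.castSucc)))
      (image_genPt_not_isClosed b hΓ hy hfib l)
    refine ⟨i, ?_⟩
    show Set.range _ = b '' _
    rw [image_range_eq_closure b, ← hi]
    exact range_eq_closure (Γ'' i)

include hΓ hy hfib in
omit [IsProper X.hom] [IsProper X'.hom] [IsLocallyNoetherian X.left] [IsLocallyNoetherian X'.left] in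
theorem isComponentList_image {Γ' : Fin n → ArSurf.VertComp R X'}
    (h : ∀ l, Set.range (Γ' l).ι = b '' Set.range (Γ l.castSucc).ι)
    (hc : Models.fibreComponents R X' = Set.range fun l : Fin n => b '' Set.range (Γ l.castSucc).ι) :
    Models.IsComponentList R X' Γ' := by
  have hrw : (fun l => Set.range ((Γ' l).ι.base : (Γ' l).curve.left → X'.left)) =
      fun l : Fin n => b '' Set.range (Γ l.castSucc).ι := funext h
  refine ⟨fun l l' hll => ?_, by rw [hrw, hc]⟩
  have hll' : b '' Set.range (Γ l.castSucc).ι = b '' Set.range (Γ l'.castSucc).ι :=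
    (h l).symm.trans (hll.trans (h l'))
  rw [image_range_eq_closure b, image_range_eq_closure b] at hll'
  exact Fin.castSucc_injective n (genPt_injective hΓ
    (eq_of_map_eq b hy (inseparable_iff_closure_eq.2 hll').eq (image_genPt_ne b hΓ hfib l)))

include hy in
omit [IsProper X.hom] [IsProper X'.hom] [IsLocallyNoetherian X.left] [IsLocallyNoetherian X'.left] [IsProper b] in
theorem isIso_stalkMap_of_ne {z : X.left} (hz : b z ≠ y) : IsIso (b.stalkMap z) :=
  ((MorphismProperty.isomorphisms CommRingCat).arrow_mk_iso_iff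
    (morphismRestrictStalkMap b (⟨{y}ᶜ, hy.isOpen_compl⟩ : X'.left.Opens) ⟨z, hz⟩)).1
      (show IsIso ((b ∣_ (⟨{y}ᶜ, hy.isOpen_compl⟩ : X'.left.Opens)).stalkMap ⟨z, hz⟩) from inferInstance)

include hy in
omit [IsProper X.hom] [IsProper X'.hom] [IsLocallyNoetherian X.left] [IsLocallyNoetherian X'.left] [IsProper b] in
theorem stalkIdeal_comap_pow (A : X'.left.IdealSheafData) {z : X.left} (hz : b z ≠ y) {m : ℕ}
    (hA : stalkIdeal A (b z) = maximalIdeal (X'.left.presheaf.stalk (b z)) ^ m) :
    stalkIdeal (A.comap b) z = maximalIdeal (X.left.presheaf.stalk z) ^ m := by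
  haveI := isIso_stalkMap_of_ne b hy hz
  rw [stalkIdeal_comap, hA, Ideal.map_pow]
  congr 1
  haveI : ((maximalIdeal (X'.left.presheaf.stalk (b z))).map (b.stalkMap z).hom).IsMaximal :=
    (IsLocalRing.maximalIdeal.isMaximal (X'.left.presheaf.stalk (b z))).map_bijective (b.stalkMap z).hom
      (ConcreteCategory.bijective_of_isIso (b.stalkMap z))
  exact IsLocalRing.eq_maximalIdeal inferInstance

end Contracted


/-- The class of an inverse image ideal. -/
theorem pull_cls_comap {X Y : Scheme.{u}} (b : X ⟶ Y) (I : Y.IdealSheafData)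
    (hI : PicF.IsInvertible (ClSub.idealMod I)) (hJ : PicF.IsInvertible (ClSub.idealMod (I.comap b))) :
    Cube.pull b (clsMod hI) = clsMod hJ := by
  have hJk : (I.comap b).subschemeι.ker = I.comap b := (I.comap b).ker_subschemeι
  have hle : I.subschemeι.ker ≤ ((I.comap b).subschemeι ≫ b).ker :=
    I.ker_subschemeι.le.trans (Scheme.IdealSheafData.le_map_comap I b)
  obtain ⟨π⟩ := HodgeIndex.nonempty_pullback_idealMod I.subschemeι (I.comap b).subschemeι
    (IsClosedImmersion.lift I.subschemeι ((I.comap b).subschemeι ≫ b) hle) b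
    (IsClosedImmersion.lift_fac _ _ _).symm (by rw [hJk, I.ker_subschemeι]) (I.ker_subschemeι.symm ▸ hI)
    (hJk.symm ▸ hJ)
  rw [← Cube.clsMod_pullback b hI]
  exact (Cube.clsMod_eq_iff _ hJ).2
    ⟨(Scheme.Modules.pullback b).mapIso (eqToIso (by rw [I.ker_subschemeι])) ≪≫ π ≪≫ eqToIso (by rw [hJk])⟩

/-- A finite birational map onto the image component. -/
theorem exists_birational_to_image {X X' : Over (Spec (CommRingCat.of R))} [IsProper X.hom] [IsProper X'.hom]
    (b : X.left ⟶ X'.left) (hb : b ≫ X'.hom = X.hom) [IsProper b] {y : X'.left} (hy : IsClosed ({y} : Set X'.left))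
    [IsIso (b ∣_ (⟨{y}ᶜ, hy.isOpen_compl⟩ : X'.left.Opens))]
    (D : ArSurf.VertComp R X) (D' : ArSurf.VertComp R X')
    (hgp : Models.genPtOf R X' D' = b (Models.genPtOf R X D)) (hne : b (Models.genPtOf R X D) ≠ y) :
    ∃ (φ : D.curve.left ⟶ D'.curve.left) (O : D'.curve.left.Opens), IsFinite φ ∧
      φ ≫ D'.curve.hom = D.curve.hom ∧ φ ≫ D'.ι = D.ι ≫ b ∧ (O : Set D'.curve.left).Nonempty ∧ IsIso (φ ∣_ O) := by
  haveI := D.isClosedImmersion
  haveI := D.isIntegral
  haveI := D'.isClosedImmersion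
  haveI := D'.isIntegral
  let V : X'.left.Opens := ⟨{y}ᶜ, hy.isOpen_compl⟩
  have hle : D'.ι.ker ≤ (D.ι ≫ b).ker := by
    rw [SchImage.ker_eq_vanishingIdeal, SchImage.ker_eq_vanishingIdeal]
    refine Scheme.IdealSheafData.vanishingIdeal_antimono ?_
    refine closure_minimal ?_ isClosed_closure
    rintro _ ⟨a, rfl⟩
    refine subset_closure ?_
    rw [range_eq_closure D', hgp]
    exact specializes_iff_mem_closure.1 ((genericPoint_specializes a).map (D.ι ≫ b).continuous)
  let φ : D.curve.left ⟶ D'.curve.left := IsClosedImmersion.lift D'.ι (D.ι ≫ b) hle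
  have hφ : φ ≫ D'.ι = D.ι ≫ b := IsClosedImmersion.lift_fac _ _ _
  have hφk : φ ≫ D'.curve.hom = D.curve.hom := by
    haveI : IsClosedImmersion (Spec.map (CommRingCat.ofHom (residue R))) :=
      IsClosedImmersion.spec_of_surjective _ residue_surjective
    rw [← cancel_mono (Spec.map (CommRingCat.ofHom (residue R))), Category.assoc, ← D'.w, ← D.w,
      reassoc_of% hφ, hb]
  haveI : IsProper D.curve.hom := isProper_curve D
  haveI : IsProper D'.curve.hom := isProper_curve D'
  haveI : IsProper φ := by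
    haveI : IsProper (φ ≫ D'.curve.hom) := hφk ▸ inferInstance
    exact IsProper.of_comp φ D'.curve.hom
  have hφη : φ (genericPoint D.curve.left) = genericPoint D'.curve.left := D'.ι.isClosedEmbedding.injective (by
    rw [← Scheme.Hom.comp_apply, hφ]
    exact hgp.symm)
  have hsurj : Function.Surjective φ := fun t => by
    have hmem : genericPoint D'.curve.left ∈ Set.range φ := ⟨_, hφη⟩
    have h : closure {genericPoint D'.curve.left} ⊆ Set.range φ :=
      closure_minimal (Set.singleton_subset_iff.2 hmem) φ.isClosedMap.isClosed_range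
    rw [genericPoint_closure] at h
    exact h (Set.mem_univ t)
  let O : D'.curve.left.Opens := D'.ι ⁻¹ᵁ V
  have hηO : genericPoint D'.curve.left ∈ O := by
    show Models.genPtOf R X' D' ≠ y
    rw [hgp]
    exact hne
  have hiso : IsIso (φ ∣_ O) := by
    haveI h1 : IsClosedImmersion ((φ ≫ D'.ι) ∣_ V) := by
      rw [hφ, morphismRestrict_comp]
      haveI : IsClosedImmersion (D.ι ∣_ (b ⁻¹ᵁ V)) := IsZariskiLocalAtTarget.restrict D.isClosedImmersion _
      infer_instance
    rw [morphismRestrict_comp] at h1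
    haveI := h1
    haveI : IsClosedImmersion (φ ∣_ O) := IsClosedImmersion.of_comp (φ ∣_ O) (D'.ι ∣_ V)
    haveI : Surjective (φ ∣_ O) := IsZariskiLocalAtTarget.restrict (P := @Surjective) ⟨hsurj⟩ O
    exact isIso_of_isClosedImmersion_of_surjective (φ ∣_ O)
  refine ⟨φ, O, ?_, hφk, hφ, ⟨_, hηO⟩, hiso⟩
  haveI : IsProper (D'.curve.left ↘ Spec (CommRingCat.of (ResidueField R))) := isProper_curve D'
  exact CurveMult.GenusFinite.isFinite_of_birational (ResidueField R) D'.dim_eq.le φ hφk O
    (O.2.dense ⟨_, hηO⟩) ((φ ⁻¹ᵁ O).2.dense ⟨genericPoint D.curve.left,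
      show φ _ ∈ O from hφη ▸ hηO⟩) hiso

/-- Intersection numbers with a pulled back class are those of the image component. -/
theorem icl_pull_image {X X' : Over (Spec (CommRingCat.of R))} [IsProper X.hom] [IsProper X'.hom]
    (b : X.left ⟶ X'.left) (hb : b ≫ X'.hom = X.hom) [IsProper b] {y : X'.left} (hy : IsClosed ({y} : Set X'.left))
    [IsIso (b ∣_ (⟨{y}ᶜ, hy.isOpen_compl⟩ : X'.left.Opens))]
    (D : ArSurf.VertComp R X) (D' : ArSurf.VertComp R X')
    (hgp : Models.genPtOf R X' D' = b (Models.genPtOf R X D)) (hne : b (Models.genPtOf R X D) ≠ y)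
    (x : Pic X'.left) : icl D (Cube.pull b x) = icl D' x := by
  obtain ⟨φ, O, hfin, hφk, hφ, hO, hiso⟩ := exists_birational_to_image b hb hy D D' hgp hne
  haveI := hfin
  haveI := hiso
  haveI := D'.isIntegral
  haveI := isProper_curve D
  haveI : IsProper (D'.curve.left ↘ Spec (CommRingCat.of (ResidueField R))) := isProper_curve D'
  have hx := isInv_rep x
  have hbx := Kleiman.isInv_pullback b hx
  have hM := Kleiman.isInv_pullback D'.ι hx
  rw [show Cube.pull b x = clsMod hbx by rw [Cube.clsMod_pullback b hx, cls_rep], ← inter_eq_icl D hbx,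
    show icl D' x = icl D' (clsMod hx) by rw [cls_rep], ← inter_eq_icl D' hx, inter_eq_deg D hbx,
    inter_eq_deg D' hx, ← deg_pullback_of_birational (ResidueField R) D'.dim_eq.le φ hφk O hO hM]
  obtain ⟨e⟩ : Nonempty ((Scheme.Modules.pullback D.ι).obj ((Scheme.Modules.pullback b).obj (rep x)) ≅
      (Scheme.Modules.pullback φ).obj ((Scheme.Modules.pullback D'.ι).obj (rep x))) :=
    (Cube.clsMod_eq_iff (Kleiman.isInv_pullback D.ι hbx) (Kleiman.isInv_pullback φ hM)).1 (by
      rw [Cube.clsMod_pullback D.ι hbx, Cube.clsMod_pullback b hx, Cube.clsMod_pullback φ hM,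
        Cube.clsMod_pullback D'.ι hx, Cube.pull_comp, Cube.pull_comp, hφ])
  exact Euler.deg_of_iso _ e 1

section Numbers

variable {X X' : Over (Spec (CommRingCat.of R))} [IsProper X.hom] [Flat X.hom] [IsIntegral X.left]
  [IsIntegral X'.left] [IsProper X'.hom] [Flat X'.hom] [IsLocallyNoetherian X.left] [IsLocallyNoetherian X'.left]
  (hX : Models.IsRegularScheme X.left) (hX' : Models.IsRegularScheme X'.left)
  (b : X.left ⟶ X'.left) [IsProper b] (hb : b ≫ X'.hom = X.hom)
  {n : ℕ} {Γ : Fin (n + 1) → ArSurf.VertComp R X} (hΓ : Models.IsComponentList R X Γ)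
  {y : X'.left} (hy : IsClosed ({y} : Set X'.left))
  (hfib : b ⁻¹' {y} = Set.range (Γ (Fin.last n)).ι)
  [IsIso (b ∣_ (⟨{y}ᶜ, hy.isOpen_compl⟩ : X'.left.Opens))]
  {Γ' : Fin n → ArSurf.VertComp R X'} (hΓ' : Models.IsComponentList R X' Γ')
  (hgp : ∀ l, Models.genPtOf R X' (Γ' l) = b (Models.genPtOf R X (Γ l.castSucc)))
include hX hX' hb hΓ hy hfib hΓ' hgp

theorem mult_image (l : Fin n) : Models.mult R X' (Γ' l) = Models.mult R X (Γ l.castSucc) := by
  have hfe : Models.specialFibreIdeal R X = (Models.specialFibreIdeal R X').comap b := by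
    show (Curv2.idealSheaf R (IsLocalRing.maximalIdeal R)).comap X.hom = _
    rw [Models.specialFibreIdeal, ← hb, Scheme.IdealSheafData.comap_comp]
  have h := st_eq_pow_oAt (isMaxComp hΓ' l) hX' (isEffCartier_fibre (X := X'))
  rw [hgp l] at h
  obtain ⟨_, _⟩ := isDVR_genPt (isMaxComp hΓ l.castSucc) hX
  rw [mult_eq (isMaxComp hΓ' l) hX', mult_eq (isMaxComp hΓ l.castSucc) hX, hgp l]
  refine (oAt_eq_of_st_eq_pow ?_).symm
  rw [hfe]
  exact stalkIdeal_comap_pow b hy _ (image_genPt_ne b hΓ hfib l) h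

/-- The total transform of a component. -/
theorem exists_pull_cls_image (j : Fin n) :
    ∃ c : ℕ, ∀ (hI' : PicF.IsInvertible (ClSub.idealMod (Γ' j).ι.ker)),
      Cube.pull b (clsMod hI') =
        clsMod (IdealModSec.isInvertible_of_isEffCartier (isEffCartier_ker (isMaxComp hΓ j.castSucc) hX)) *
          clsMod (IdealModSec.isInvertible_of_isEffCartier (isEffCartier_ker (isMaxComp hΓ (Fin.last n)) hX)) ^ c := by
  classical
  let I' := (Γ' j).ι.ker
  have hI'c : _root_.BlowUp.IsEffCartierIdeal I' := isEffCartier_ker (isMaxComp hΓ' j) hX'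
  haveI := (Γ' j).isClosedImmersion
  haveI := (Γ' j).isIntegral
  have hbη : b (genericPoint X.left) = genericPoint X'.left := by
    have hVne : ({y}ᶜ : Set X'.left).Nonempty := ⟨_, image_genPt_ne b hΓ hfib j⟩
    haveI := isDominant_of_iso_over b (⟨{y}ᶜ, hy.isOpen_compl⟩ : X'.left.Opens) hVne
    have h1 := (genericPoint_spec X.left).image b.continuous
    rw [Set.image_univ, b.denseRange.closure_range] at h1
    exact h1.eq (genericPoint_spec _)
  let J := I'.comap b
  have hJ : _root_.BlowUp.IsEffCartierIdeal J := RatSing29.isEffCartierIdeal_comap_of_generic b hbη hI'c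
  have hJsupp : (J.support : Set X.left) = b ⁻¹' (I'.support : Set X'.left) := by
    rw [Scheme.IdealSheafData.support_comap]
    rfl
  have hsub : (J.support : Set X.left) ⊆ Models.specialFibreSet R X := fun a ha => by
    rw [hJsupp] at ha
    exact (image_mem_fibre b hb a).1 (range_subset_fibre (Γ' j) ((support_ker (Γ' j)).le ha))
  let a : Fin (n + 1) → ℕ := fun l => oAt J (Models.genPtOf R X (Γ l))
  have hprod : J = ∏ l, (Γ l).ι.ker ^ a l := eq_prod hΓ hX hJ hsub
  have ha : ∀ l : Fin n, a l.castSucc = if l = j then 1 else 0 := fun l => by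
    obtain ⟨_, _⟩ := isDVR_genPt (isMaxComp hΓ l.castSucc) hX
    refine oAt_eq_of_st_eq_pow (stalkIdeal_comap_pow b hy I' (image_genPt_ne b hΓ hfib l) ?_)
    rw [← hgp l]
    split_ifs with hlj
    · subst hlj
      rw [pow_one]
      exact st_ker_genPt (Γ' l)
    · rw [pow_zero, Ideal.one_eq_top]
      exact (stalkIdeal_eq_top_iff _ _).2 fun h => notMem_range_of_ne hΓ' (Ne.symm hlj) ((support_ker (Γ' j)).le h)
  refine ⟨a (Fin.last n), fun hI' => ?_⟩
  let I : Fin (n + 1) → X.left.IdealSheafData := fun l => (Γ l).ι.ker ^ a l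
  have hpow := fun l => cls_idealMod_pow (isEffCartier_ker (isMaxComp hΓ l) hX) (a l)
  obtain ⟨hP, hPc⟩ := cls_idealMod_prod Finset.univ I fun l => (hpow l).choose
  have hJi := IdealModSec.isInvertible_of_isEffCartier hJ
  rw [pull_cls_comap b I' hI' hJi, cls_idealMod_congr hprod hJi hP, hPc]
  rw [Finset.prod_congr rfl fun l _ => (hpow l).choose_spec, Fin.prod_univ_castSucc]
  refine congrArg (fun t => t * _) ?_
  refine (Finset.prod_eq_single j (fun l _ hl => ?_) fun h => absurd (Finset.mem_univ j) h).trans ?_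
  · rw [ha l, if_neg hl]
    exact pow_zero _
  · rw [ha j, if_pos rfl]
    exact pow_one _

theorem inter_image {L : Fin (n + 1) → X.left.Modules} (hL : ∀ i, ClSub.IsInverseOf (L i) (ClSub.idealMod (Γ i).ι.ker))
    {L' : Fin n → X'.left.Modules} (hL' : ∀ j, ClSub.IsInverseOf (L' j) (ClSub.idealMod (Γ' j).ι.ker)) (i j : Fin n) :
    ArSurf.inter R X' (L' j) (Γ' i) * ArSurf.inter R X (L (Fin.last n)) (Γ (Fin.last n)) =
      ArSurf.inter R X (L j.castSucc) (Γ i.castSucc) * ArSurf.inter R X (L (Fin.last n)) (Γ (Fin.last n)) -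
        ArSurf.inter R X (L (Fin.last n)) (Γ i.castSucc) * ArSurf.inter R X (L (Fin.last n)) (Γ j.castSucc) := by
  obtain ⟨c, hc⟩ := exists_pull_cls_image hX hX' b hb hΓ hy hfib hΓ' hgp j
  let hI' := IdealModSec.isInvertible_of_isEffCartier (isEffCartier_ker (isMaxComp hΓ' j) hX')
  let hI := fun l => IdealModSec.isInvertible_of_isEffCartier (isEffCartier_ker (isMaxComp hΓ l) hX)
  have hv : ∀ (l : Fin (n + 1)) (D : ArSurf.VertComp R X), icl D (clsMod (hI l)) = -ArSurf.inter R X (L l) D := fun l D => by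
    have hLi := isInvertible_of_isInverseOf (isEffCartier_ker (isMaxComp hΓ l) hX) (hL l)
    rw [inter_eq_icl D hLi, cls_of_isInverseOf hLi (hI l) (hL l), icl_inv, neg_neg]
  have hv' : icl (Γ' i) (clsMod hI') = -ArSurf.inter R X' (L' j) (Γ' i) := by
    have hLi := isInvertible_of_isInverseOf (isEffCartier_ker (isMaxComp hΓ' j) hX') (hL' j)
    rw [inter_eq_icl (Γ' i) hLi, cls_of_isInverseOf hLi hI' (hL' j), icl_inv, neg_neg]
  have h1 := icl_pull_image b hb hy (Γ i.castSucc) (Γ' i) (hgp i) (image_genPt_ne b hΓ hfib i) (clsMod hI')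
  rw [hc hI', hv', icl_mul, icl_pow, hv j.castSucc, hv (Fin.last n)] at h1
  have h2 : icl (Γ (Fin.last n)) (Cube.pull b (clsMod hI')) = 0 := by
    have hbI := Kleiman.isInv_pullback b hI'
    rw [← Cube.clsMod_pullback b hI', ← inter_eq_icl _ hbI]
    refine inter_pullback_of_contracted (Γ (Fin.last n)) b (y := y) ?_ hI'
    haveI := (Γ (Fin.last n)).isIntegral
    refine Set.eq_singleton_iff_nonempty_unique_mem.2 ⟨Set.range_nonempty _, ?_⟩
    rintro _ ⟨w, rfl⟩
    exact hfib.ge ⟨w, rfl⟩
  rw [hc hI', icl_mul, icl_pow, hv j.castSucc, hv (Fin.last n)] at h2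
  have hsym := inter_symm hX hΓ hL (Fin.last n) j.castSucc
  linear_combination ArSurf.inter R X (L (Fin.last n)) (Γ (Fin.last n)) * h1 -
    ArSurf.inter R X (L (Fin.last n)) (Γ i.castSucc) * h2 -
    ArSurf.inter R X (L (Fin.last n)) (Γ i.castSucc) * hsym

end Numbers

end GrothLib.Contract29
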