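import Groth.Agent.Lib.Contract29.AmpleCover
import Groth.Agent.Lib.Ample.PullLift
import Groth.Agent.Lib.Ample.CocTensor

/-!
# Invertible modules along a map with trivial direct image
-/

universe u

set_option linter.all false
set_option backward.isDefEq.respectTransparency false

open CategoryTheory CategoryTheory.Limits AlgebraicGeometry Opposite TopologicalSpace
open GrothLib.InvExt (mres IsGen)
open GrothLib.Cube (clsMod)
open GrothLib.Ample (Cocycle res)

noncomputable section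

namespace GrothLib.Contract29

variable {X X' : Scheme.{u}} (b : X ⟶ X') (hb : ∀ V, IsIso (b.app V))
include hb

theorem isGen_push_of_isGen {L : X.Modules} {W : X'.Opens} {e : Γ(L, b ⁻¹ᵁ W)} (he : IsGen L (b ⁻¹ᵁ W) e) :
    IsGen ((Scheme.Modules.pushforward b).obj L) W e := fun V hV => by
  haveI := hb V
  exact (he (b ⁻¹ᵁ V) (b.preimage_mono hV)).comp (ConcreteCategory.bijective_of_isIso (b.app V))

/-- Invertible modules trivial near each fibre descend. -/
theorem exists_descent {L : X.Modules} (hL : PicF.IsInvertible L)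
    (hgen : ∀ x' : X', ∃ (W : X'.Opens) (e : Γ(L, b ⁻¹ᵁ W)), x' ∈ W ∧ IsGen L (b ⁻¹ᵁ W) e) :
    ∃ P : Cube.Pic X', Cube.pull b P = clsMod hL := by
  let M := (Scheme.Modules.pushforward b).obj L
  have hM : PicF.IsInvertible M := InvExt.isInvertible_of_gens fun x' => by
    obtain ⟨W, e, hx, he⟩ := hgen x'
    exact ⟨W, e, hx, isGen_push_of_isGen b hb he⟩
  obtain ⟨c, ⟨e⟩⟩ := Ample.exists_cocycle hM
  have hgi : ∀ i, IsGen L (b ⁻¹ᵁ c.D i) (e.inv.app (c.D i) (c.base 1 i le_rfl)) := by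
    intro i
    let γ : Γ(M, c.D i) := e.inv.app (c.D i) (c.base 1 i le_rfl)
    have hγ : IsGen M (c.D i) γ := (c.isGen_base 1 i le_rfl).map e.inv fun W _ =>
      ConcreteCategory.bijective_of_isIso ((Scheme.Modules.toPresheaf X').map e.inv |>.app (op W))
    choose W δ hxW hδ using hgen
    refine InvExt.isGen_of_cover (fun x' : X' => b ⁻¹ᵁ (W x' ⊓ c.D i)) (fun x' => b.preimage_mono inf_le_right)
      (fun x hx => Opens.mem_iSup.2 ⟨b x, hxW _, hx⟩) fun x' => ?_
    have hδ' := (hδ x').restrict (b.preimage_mono (inf_le_left : W x' ⊓ c.D i ≤ W x'))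
    have hδM := isGen_push_of_isGen b hb hδ'
    obtain ⟨a, ha⟩ := hδM.exists_smul_eq le_rfl (mres M (inf_le_right : W x' ⊓ c.D i ≤ c.D i) γ)
    rw [InvExt.mres_self] at ha
    obtain ⟨a', ha'⟩ := (hγ.restrict (inf_le_right : W x' ⊓ c.D i ≤ c.D i)).exists_smul_eq le_rfl
      (mres L (b.preimage_mono (inf_le_left : W x' ⊓ c.D i ≤ W x')) (δ x') : Γ(M, W x' ⊓ c.D i))
    rw [InvExt.mres_self, ha, smul_smul] at ha'
    have hu : a' * a = 1 := (hδM.smul_left_injective le_rfl (by rw [InvExt.mres_self, one_smul]; exact ha')).symm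
    have hua : IsUnit a := IsUnit.of_mul_eq_one a' (by rw [mul_comm]; exact hu)
    have := hδ'.smul_unit (hua.map (b.app (W x' ⊓ c.D i)).hom)
    have e' : mres L (b.preimage_mono (inf_le_right : W x' ⊓ c.D i ≤ c.D i)) γ =
        (b.app (W x' ⊓ c.D i)).hom a • mres L (b.preimage_mono (inf_le_left : W x' ⊓ c.D i ≤ W x')) (δ x') := ha
    rw [← e'] at this
    exact this
  haveI := c.isIso_of_isGen b e.inv hgi
  refine ⟨Cube.cls c, ?_⟩
  rw [← Cube.clsMod_eq (c.isInvertible_twist 1) (Iso.refl _), ← Cube.clsMod_pullback b]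
  exact (Cube.clsMod_eq_iff _ hL).2
    ⟨asIso (((Scheme.Modules.pullbackPushforwardAdjunction b).homEquiv (c.twist 1) L).symm e.inv)⟩

/-- Pullback of classes is injective. -/
theorem pull_injective : Function.Injective (Cube.pull b) := by
  rw [injective_iff_map_eq_one]
  intro P hP
  obtain ⟨c⟩ := P
  change Cube.cls (c.comap b) = 1 at hP
  obtain ⟨a, ha⟩ := Cube.cls_eq_one_iff.1 hP
  refine Cube.cls_eq_one_iff.2 ?_
  have hbij : ∀ i, Function.Bijective (b.app ((⊤ : X'.Opens) ⊓ c.D i)) := fun i => by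
    haveI := hb ((⊤ : X'.Opens) ⊓ c.D i)
    exact ConcreteCategory.bijective_of_isIso _
  choose a' ha' using fun i => (hbij i).2 (a.1 i)
  have hunit : ∀ i, IsUnit (a' i) := fun i => by
    haveI := hb ((⊤ : X'.Opens) ⊓ c.D i)
    refine (isUnit_map_iff (b.app ((⊤ : X'.Opens) ⊓ c.D i)).hom _).1 ?_
    show IsUnit (b.app ((⊤ : X'.Opens) ⊓ c.D i) (a' i))
    rw [ha']
    refine X.toRingedSpace.isUnit_of_isUnit_germ _ _ fun x hx => ?_
    have hxl : x ∈ X.basicOpen (a.1 i) := by
      rw [← (c.comap b).locus_inf_D a i]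
      exact ⟨ha.ge (Opens.mem_top x), hx.2⟩
    exact (Scheme.mem_basicOpen _ _ x hx).1 hxl
  refine ⟨⟨a', fun i k W hi hk => ?_⟩, c.locus_eq_top_of_isUnit _ hunit⟩
  haveI := hb W
  apply (ConcreteCategory.bijective_of_isIso (b.app W)).1
  have hs := (c.comap b).sect_spec a i k (W := b ⁻¹ᵁ W) (b.preimage_mono hi) (b.preimage_mono hk)
  rw [← ha' i, ← ha' k, Cocycle.comap_G] at hs
  rw [map_mul, map_pow]
  have hn : ∀ (T : X'.Opens) (h : W ≤ T) (z : Γ(X', T)),
      b.app W (res h z) = res (b.preimage_mono h) (b.app T z) := fun T h z =>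
    congr($(b.naturality (homOfLE h).op) z)
  rw [hn, hn]
  refine hs.trans ?_
  congr 2
  show (b.appLE (c.D i ⊓ c.D k) (b ⁻¹ᵁ W) _).hom (c.g i k) = b.app W (c.G i k _ _)
  rw [Scheme.Hom.appLE, CommRingCat.hom_comp]
  exact (hn (c.D i ⊓ c.D k) (le_inf (hi.trans inf_le_right) (hk.trans inf_le_right)) (c.g i k)).symm

end GrothLib.Contract29
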