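import Groth.Agent.Lib.Contract29.Stein
import Groth.Agent.Lib.Contract29.Collapse
import Groth.Agent.Lib.Contract29.Descent
import Groth.Agent.Lib.Stein.Main

/-!
# Castelnuovo's contraction on a scheme with an ample module
-/

universe u

set_option linter.all false
set_option backward.isDefEq.respectTransparency false

open CategoryTheory CategoryTheory.Limits AlgebraicGeometry Opposite TopologicalSpace
open GrothLib.InvExt (mres IsGen)
open GrothLib.Cube (clsMod)

noncomputable section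

namespace GrothLib.Contract29

theorem exists_nhd_of_fibre_subset {X X' : Scheme.{u}} (b : X ⟶ X') [UniversallyClosed b] {Z : X.Opens} {x' : X'}
    (h : b ⁻¹' {x'} ⊆ Z) : ∃ W : X'.Opens, x' ∈ W ∧ b ⁻¹ᵁ W ≤ Z := by
  refine ⟨⟨(b '' (Z : Set X)ᶜ)ᶜ, (b.isClosedMap _ Z.2.isClosed_compl).isOpen_compl⟩, ?_, fun x hx => ?_⟩
  · rintro ⟨x, hx, hxy⟩
    exact hx (h hxy)
  · by_contra hxZ
    exact hx ⟨x, hxZ, rfl⟩

theorem exists_contraction_of_ample {R : Type u} [CommRing R] [IsNoetherianRing R] {E X : Scheme.{u}}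
    (f : X ⟶ Spec (CommRingCat.of R)) [IsProper f] {L : X.Modules} (hL : CohB1.IsAmple L)
    (ι : E ⟶ X) [IsClosedImmersion ι] (hE : Models.IsExcCurve ι) :
    ∃ (X' : Scheme.{u}) (b : X ⟶ X') (g : X' ⟶ Spec (CommRingCat.of R)), Models.IsContractionOf ι b ∧ b ≫ g = f ∧
      IsProper g ∧ (∀ V, IsIso (b.app V)) ∧
      (∃ (x' : X') (hx' : IsClosed ({x'} : Set X')), Set.range ι = b ⁻¹' {x'} ∧
        IsIso (b ∣_ (⟨{x'}ᶜ, hx'.isOpen_compl⟩ : X'.Opens))) ∧
      ∃ (n : ℕ) (L' : X'.Modules) (hL' : CohB1.IsAmple L'),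
        Cube.pull b (clsMod hL'.1) =
          clsMod hL.1 * (clsMod (IdealModSec.isInvertible_of_isEffCartier hE.1))⁻¹ ^ n := by
  obtain ⟨hcart, k, _, e, ⟨t⟩⟩ := id hE
  letI : X.Over (Spec (CommRingCat.of R)) := ⟨f⟩
  haveI : IsProper (X ↘ Spec (CommRingCat.of R)) := ‹IsProper f›
  haveI := LocallyOfFiniteType.isLocallyNoetherian f
  haveI := hL.2.1
  haveI : IsNoetherian X := ⟨⟩
  let j : CohB1.ProjSpace 1 k ⟶ X := e.hom ≫ ι
  have hjker : j.ker = ι.ker := Scheme.Hom.ker_comp_of_isIso e.hom ι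
  have hj : _root_.BlowUp.IsEffCartierIdeal j.ker := hjker.symm ▸ hcart
  have hcls : clsMod (IdealModSec.isInvertible_of_isEffCartier hj) =
      clsMod (IdealModSec.isInvertible_of_isEffCartier hcart) :=
    (Cube.clsMod_eq_iff _ _).2 ⟨eqToIso (by rw [hjker])⟩
  have ht : Cube.pull j (clsMod (IdealModSec.isInvertible_of_isEffCartier hj)) =
      clsMod (CMReg.isInvertible_twist (n := 1) (k := k) 1) := by
    rw [hcls, ← Cube.clsMod_pullback j]
    exact (Cube.clsMod_eq_iff _ _).2 ⟨t⟩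
  have hjr : Set.range j = Set.range ι := by
    show Set.range (ι ∘ e.hom) = _
    exact e.hom.surjective.range_comp ι
  obtain ⟨d, m, n, φ, hm, hφ, hd, hpull, hconst, hlqf, hsec⟩ := exists_collapse_map (A := R) j hj ht hL
  rw [hcls] at hpull hsec
  set Q := clsMod hL.1 * (clsMod (IdealModSec.isInvertible_of_isEffCartier hcart))⁻¹ ^ d with hQ
  haveI := Chow.isProper_toSpec n R
  haveI : IsLocallyNoetherian (CohB1.ProjSpace n R) :=
    LocallyOfFiniteType.isLocallyNoetherian (CohB1.ProjSpace.toSpec n R)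
  haveI : CompactSpace (CohB1.ProjSpace n R) :=
    QuasiCompact.compactSpace_of_compactSpace (CohB1.ProjSpace.toSpec n R)
  haveI : IsNoetherian (CohB1.ProjSpace n R) := ⟨⟩
  haveI : IsProper (φ ≫ CohB1.ProjSpace.toSpec n R) := by rw [hφ]; infer_instance
  haveI : IsProper φ := IsProper.of_comp φ (CohB1.ProjSpace.toSpec n R)
  haveI : IsIntegral (CohB1.ProjSpace 1 k) := ProjDim.isIntegral_proj _ 1
  let η := genericPoint (CohB1.ProjSpace 1 k)
  have hy : Set.range ((ι ≫ φ).base : E → CohB1.ProjSpace n R) = {φ (j η)} := by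
    refine Set.eq_singleton_iff_unique_mem.2 ⟨⟨e.hom η, rfl⟩, ?_⟩
    rintro _ ⟨p, rfl⟩
    obtain ⟨p', rfl⟩ := e.hom.surjective p
    exact hconst p' η
  have hdisj : Disjoint ((ι.ker.support.compl : X.Opens) : Set X) (Set.range j) := Set.disjoint_left.2 fun x hx hxj =>
    hx ((Scheme.Hom.support_ker ι).ge (subset_closure (hjr ▸ hxj)))
  obtain ⟨hb, hg, happ, x', hx', hfib, hpunct⟩ :=
    contraction_of_stein ι hE φ (φ (j η)) hy (hlqf _ hdisj)
  let b := φ.toNormalization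
  let g := φ.fromNormalization
  haveI : IsFinite g := hg
  haveI : IsProper b := hb.2.1
  haveI := hb.1
  have hbg : b ≫ g = φ := φ.toNormalization_fromNormalization
  let O1 := Twist.twistProjSpace n R 1
  have hO : CohB1.IsAmple O1 := Ample.isAmple_twistProjSpace_one n R
  have hA'' := Ample.isAmple_pullback_of_isAffineHom g hO
  have hPm : Cube.pull b (clsMod hA''.1) = Q ^ m := by
    rw [Cube.clsMod_pullback g hO.1, Cube.pull_comp, hbg]
    exact hpull
  obtain ⟨N, hN, hNc⟩ := exists_mod (Q ^ (m + 1))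
  obtain ⟨x₀, hx₀⟩ := hsec N hN hNc
  obtain ⟨P, hP⟩ := exists_descent b happ hN fun z => by
    by_cases hz : z = x'
    · choose V hpV hV using hx₀
      have hsub : b ⁻¹' {z} ⊆ ((⨆ p, V p : X.Opens) : Set X) := fun x hx => by
        obtain ⟨p, hp⟩ := hjr.ge (hfib.ge (show x ∈ b ⁻¹' {x'} from hz ▸ hx))
        exact Opens.mem_iSup.2 ⟨p, hp ▸ hpV p⟩
      obtain ⟨W, hzW, hW⟩ := exists_nhd_of_fibre_subset b hsub
      have hgen : IsGen N (⨆ p, V p) (mres N le_top x₀) :=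
        InvExt.isGen_of_cover V (le_iSup V) le_rfl fun p => by rw [InvExt.mres_mres]; exact hV p
      exact ⟨W, _, hzW, hgen.restrict hW⟩
    · let Pc : φ.normalization.Opens := ⟨{x'}ᶜ, hx'.isOpen_compl⟩
      haveI := hpunct
      obtain ⟨x, hx⟩ : ∃ x, b x = z := by
        obtain ⟨w, hw⟩ := (b ∣_ Pc).surjective (⟨z, hz⟩ : Pc.toScheme)
        exact ⟨w.1, (morphismRestrict_base_coe b Pc w).symm.trans (congrArg Subtype.val hw)⟩
      obtain ⟨Z, γ, hxZ, hγ⟩ := InvExt.exists_gen_nhd hN x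
      have hsub : b ⁻¹' {z} ⊆ (Z : Set X) := fun w hw => by
        have hwP : w ∈ b ⁻¹ᵁ Pc := by show b w ∈ Pc; rw [show b w = z from hw]; exact hz
        have hxP : x ∈ b ⁻¹ᵁ Pc := by show b x ∈ Pc; rw [hx]; exact hz
        have := (b ∣_ Pc).isOpenEmbedding.injective (a₁ := ⟨w, hwP⟩) (a₂ := ⟨x, hxP⟩)
          (Subtype.ext (by rw [morphismRestrict_base_coe, morphismRestrict_base_coe]; exact hw.trans hx.symm))
        rw [show w = x from congrArg Subtype.val this]
        exact hxZ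
      obtain ⟨W, hzW, hW⟩ := exists_nhd_of_fibre_subset b hsub
      exact ⟨W, _, hzW, hγ.restrict hW⟩
  obtain ⟨L', hL', hL'c⟩ := exists_mod (P * (clsMod hA''.1)⁻¹)
  have hbL' : Cube.pull b (clsMod hL') = Q := by
    rw [hL'c, map_mul, map_inv, hP, hPm, hNc, pow_succ]
    exact mul_inv_eq_iff_eq_mul.2 (mul_comm _ _)
  have hA' : CohB1.IsAmple L' := by
    obtain ⟨i⟩ := (Cube.clsMod_eq_iff (Ample.isInvertible_tensorPow hL' m) hA''.1).1 (pull_injective b happ (by
      rw [Cube.clsMod_tensorPow hL', map_pow, hbL', hPm]))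
    exact (Ample.isAmple_tensorPow_iff hL' hm).2 ((Ample.isAmple_iff_of_iso i).2 hA'')
  refine ⟨φ.normalization, b, g ≫ CohB1.ProjSpace.toSpec n R, hb, ?_, inferInstance, happ,
    ⟨x', hx', hfib, hpunct⟩, d, L', hA', hbL'⟩
  rw [← Category.assoc, hbg, hφ]
  rfl

end GrothLib.Contract29
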