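import Groth.Agent.Lib.Contract29.Bundle
import Groth.Agent.Lib.Contract29.Descent
import Groth.Agent.Lib.Contract29.AmpleContraction
import Groth.Agent.Lib.ExcP1.Point
import Groth.Agent.Lib.ExcP1.Universal
import Groth.Agent.Lib.ArSurf29.FactorBlowUpIso
import Groth.Agent.Lib.Nagata6.Charts
import Groth.Agent.Lib.InvExt.Transfer

/-!
# Invertible modules trivial on the exceptional line of a blow-up of a point descend
-/

universe u

set_option linter.all false
set_option backward.isDefEq.respectTransparency false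

open CategoryTheory CategoryTheory.Limits AlgebraicGeometry Opposite TopologicalSpace
open GrothLib.InvExt (mres IsGen)
open GrothLib.Cube (clsMod)

noncomputable section

namespace GrothLib.Contract29

/-- On the blow-up of an affine scheme in a regular pair, a module trivial on the line has a generator near it. -/
theorem exists_gen_near_line {A : Type u} [CommRing A] [IsNoetherianRing A] (a : Fin (1 + 1) → A)
    (hreg : RingTheory.Sequence.IsWeaklyRegular A (List.ofFn a)) (hm : (GrothLib.BlowUp17.ctr a).IsMaximal)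
    {X : Scheme.{u}} (b : X ⟶ Spec (CommRingCat.of A))
    (hb : _root_.BlowUp.IsBlowUp b (GrothLib.BlowUp.idealSheaf (GrothLib.BlowUp17.ctr a))) :
    ∃ (k : Type u) (_ : Field k) (j : CohB1.ProjSpace 1 k ⟶ X), IsClosedImmersion j ∧
      (∃ hI : PicF.IsInvertible (ClSub.idealMod (_root_.BlowUp.exceptional b
          (GrothLib.BlowUp.idealSheaf (GrothLib.BlowUp17.ctr a)))),
        Cube.pull j (clsMod hI) = clsMod (CMReg.isInvertible_twist (n := 1) (k := k) 1)) ∧
      (∀ x, b x ∈ (GrothLib.BlowUp.idealSheaf (GrothLib.BlowUp17.ctr a)).support → x ∈ Set.range j) ∧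
      (∀ p, b (j p) ∈ (GrothLib.BlowUp.idealSheaf (GrothLib.BlowUp17.ctr a)).support) ∧
      ∀ (M : X.Modules) (hM : PicF.IsInvertible M), Cube.pull j (clsMod hM) = 1 →
        ∃ x₀ : Γ(M, ⊤), ∀ p, ∃ V : X.Opens, j p ∈ V ∧ IsGen M V (mres M le_top x₀) := by
  letI : Field (A ⧸ GrothLib.BlowUp17.ctr a) := Ideal.Quotient.field (GrothLib.BlowUp17.ctr a)
  obtain ⟨e, he, ⟨t⟩⟩ := ExcP1.exists_iso_projSpace a hb (Ideal.Quotient.mk (GrothLib.BlowUp17.ctr a))
    Ideal.Quotient.mk_surjective Ideal.mk_ker hreg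
  let ex := _root_.BlowUp.exceptional b (GrothLib.BlowUp.idealSheaf (GrothLib.BlowUp17.ctr a))
  let k := A ⧸ GrothLib.BlowUp17.ctr a
  let j : CohB1.ProjSpace 1 k ⟶ X := e.hom ≫ ex.subschemeι
  have hjr : Set.range j = (ex.support : Set X) := by
    show Set.range (ex.subschemeι ∘ e.hom) = _
    rw [e.hom.surjective.range_comp]
    exact Scheme.IdealSheafData.range_subschemeι _
  have hsupp : ∀ x, x ∈ (ex.support : Set X) ↔
      b x ∈ (GrothLib.BlowUp.idealSheaf (GrothLib.BlowUp17.ctr a)).support := fun x => by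
    show x ∈ (((GrothLib.BlowUp.idealSheaf (GrothLib.BlowUp17.ctr a)).comap b).support : Set X) ↔ _
    rw [Scheme.IdealSheafData.support_comap]
    rfl
  refine ⟨k, inferInstance, j, inferInstance, ⟨IdealModSec.isInvertible_of_isEffCartier hb.1, by
    rw [← Cube.clsMod_pullback j]
    exact (Cube.clsMod_eq_iff _ _).2 ⟨t⟩⟩, fun x hx => hjr.ge ((hsupp x).2 hx),
    fun p => (hsupp _).1 (hjr.le ⟨p, rfl⟩), fun M hM htriv => ?_⟩
  have hker : j.ker = ex := by
    show (e.hom ≫ ex.subschemeι).ker = ex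
    rw [Scheme.Hom.ker_comp_of_isIso, Scheme.IdealSheafData.ker_subschemeι]
  have hj : _root_.BlowUp.IsEffCartierIdeal j.ker := hker.symm ▸ hb.1
  haveI : IsProper b := GrothLib.BlowUpProper.isProper_of_isBlowUp hb
  haveI : IsLocallyNoetherian X := LocallyOfFiniteType.isLocallyNoetherian b
  letI : X.Over (Spec (CommRingCat.of A)) := ⟨b⟩
  haveI : IsProper (X ↘ Spec (CommRingCat.of A)) := ‹IsProper b›
  have hI := IdealModSec.isInvertible_of_isEffCartier hj
  have ht : Cube.pull j (clsMod hI) = clsMod (CMReg.isInvertible_twist (n := 1) (k := k) 1) := by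
    rw [← Cube.clsMod_pullback j]
    exact (Cube.clsMod_eq_iff _ _).2 ⟨eqToIso (by rw [hker]) ≪≫ t⟩
  obtain ⟨r, hr, -, ⟨tr⟩⟩ := ExcP1.exists_closedImmersion a hb
  haveI := hr
  have hA : CohB1.IsAmple (ClSub.idealMod j.ker) :=
    (Ample.isAmple_iff_of_iso (tr ≪≫ eqToIso (by rw [hker]))).1
      (Ample.isAmple_pullback_of_isAffineHom r (Ample.isAmple_twistProjSpace_one 1 A))
  obtain ⟨n₀, hn₀⟩ := SerreVanish.exists_forall_subsingleton A hA (Euler.isCoh_of_isInvertible hM)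
  let d := n₀ + 1
  have hP := Ample.isInvertible_tensorPow hI d
  have hL := Ample.isInvertible_tensorMod hM hP
  have hLc : clsMod hL = clsMod hM * clsMod hI ^ d := by
    rw [Cube.clsMod_tensorMod hM hP, Cube.clsMod_tensorPow hI]
  have hd : Cube.pull j (clsMod hL) = clsMod (CMReg.isInvertible_twist (n := 1) (k := k) 1) ^ (d : ℤ) := by
    rw [hLc, map_mul, map_pow, htriv, ht, one_mul, zpow_natCast]
  have hN' := Ample.isInvertible_tensorMod hM hI
  have hcl : clsMod hN' = clsMod hL * (clsMod hI)⁻¹ ^ n₀ := by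
    rw [Cube.clsMod_tensorMod hM hI, hLc, inv_pow, show clsMod hI ^ d = clsMod hI * clsMod hI ^ n₀ from pow_succ' _ _,
      mul_assoc, mul_assoc, mul_inv_cancel, mul_one]
  haveI := subsingleton_H1_twists (A := A) j hj ht _ hL _ hd (hn₀ d (Nat.le_succ _) 1 le_rfl) n₀ (by omega) _ hN' hcl
  obtain ⟨g, θ, w, hS⟩ := exists_seq_twist j hj hM hN' (Cube.clsMod_tensorMod hM hI)
  obtain ⟨u⟩ := (Cube.clsMod_eq_one_iff (Ample.isInvertible_pullback j hM)).1 (by
    rw [Cube.clsMod_pullback j hM, htriv])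
  have hgen : IsGen ((Scheme.Modules.pullback j).obj M) (j ⁻¹ᵁ ⊤) (u.inv.app ⊤ (1 : Γ(CohB1.ProjSpace 1 k, ⊤))) :=
    (InvExt.isGen_one ⊤).map u.inv fun W _ =>
      ConcreteCategory.bijective_of_isIso ((Scheme.Modules.toPresheaf _).map u.inv |>.app (op W))
  obtain ⟨x₀, hx₀⟩ := surjective_of_subsingleton (A := A) hS (u.inv.app ⊤ (1 : Γ(CohB1.ProjSpace 1 k, ⊤)))
  have hx₀' : IsGen ((Scheme.Modules.pullback j).obj M) (j ⁻¹ᵁ ⊤) (down j (θ.app ⊤ x₀)) := by
    rw [show down j (θ.app ⊤ x₀) = u.inv.app ⊤ (1 : Γ(CohB1.ProjSpace 1 k, ⊤)) from hx₀]; exact hgen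
  exact ⟨x₀, exists_gen_nhd_of_image j hM θ x₀ hx₀'⟩

theorem exists_gen_nhd_fibre {E X X' : Scheme.{u}} [IsLocallyNoetherian X'] (ι : E ⟶ X) [IsClosedImmersion ι]
    [IsReduced E] (b : X ⟶ X') [IsProper b] {y : X'} (hy : IsClosed ({y} : Set X')) [IsRegularLocalRing (X'.presheaf.stalk y)]
    (hd : ringKrullDim (X'.presheaf.stalk y) = 2)
    (hb : _root_.BlowUp.IsBlowUp b (Scheme.IdealSheafData.vanishingIdeal ⟨{y}, hy⟩))
    (hfib : Set.range ι = b ⁻¹' {y}) {L : X.Modules} (hL : PicF.IsInvertible L)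
    (htriv : Cube.pull ι (clsMod hL) = 1) :
    ∃ (W : X'.Opens) (e : Γ(L, b ⁻¹ᵁ W)), y ∈ W ∧ IsGen L (b ⁻¹ᵁ W) e := by
  obtain ⟨V, hyV, a, ha, hreg, hm⟩ := ExcP1.exists_affine_params hy hd
  let Xv : Scheme.{u} := (b ⁻¹ᵁ V.1 : X.Opens)
  let κ : Xv ⟶ X := (b ⁻¹ᵁ V.1).ι
  let bv : Xv ⟶ Spec (CommRingCat.of Γ(X', V.1)) := (b ∣_ V.1) ≫ V.2.isoSpec.hom
  have hbκ : bv ≫ V.2.fromSpec = κ ≫ b := by
    simp only [bv, κ, Category.assoc, ← morphismRestrict_ι]
    congr 1
    exact V.2.isoSpec_hom_fromSpec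
  have hbv : _root_.BlowUp.IsBlowUp bv (GrothLib.BlowUp.idealSheaf (GrothLib.BlowUp17.ctr a)) := by
    have sq : IsPullback bv κ V.2.fromSpec b :=
      IsPullback.of_iso (isPullback_morphismRestrict b V.1) (Iso.refl _) V.2.isoSpec (Iso.refl _) (Iso.refl _)
        (by simp [bv]) (by simp [κ]) (by simp [V.2.isoSpec_hom_fromSpec]) (by simp)
    have hbl := GrothLib.BlowUp.isBlowUp_flat_baseChange V.2.fromSpec hb
    rw [show (Scheme.IdealSheafData.vanishingIdeal ⟨{y}, hy⟩).comap V.2.fromSpec =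
      GrothLib.BlowUp.idealSheaf (GrothLib.BlowUp17.ctr a) by rw [GrothLib.Nagata6.comap_fromSpec, ha]] at hbl
    rw [← sq.isoPullback_hom_fst]
    exact GrothLib.ArSurf29.isBlowUp_iso_comp hbl sq.isoPullback.hom
  haveI : IsNoetherianRing Γ(X', V.1) := IsLocallyNoetherian.component_noetherian V
  obtain ⟨k, _, j, hjc, -, hsurj, hj, hgen⟩ := exists_gen_near_line a hreg hm bv hbv
  haveI := hjc
  have hctr : ∀ q, q ∈ (GrothLib.BlowUp.idealSheaf (GrothLib.BlowUp17.ctr a)).support ↔ V.2.fromSpec q = y := fun q => by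
    rw [show GrothLib.BlowUp.idealSheaf (GrothLib.BlowUp17.ctr a) =
      (Scheme.IdealSheafData.vanishingIdeal ⟨{y}, hy⟩).comap V.2.fromSpec by rw [GrothLib.Nagata6.comap_fromSpec, ha],
      ← SetLike.mem_coe, Scheme.IdealSheafData.support_comap]
    show V.2.fromSpec q ∈ ((Scheme.IdealSheafData.vanishingIdeal ⟨{y}, hy⟩).support : Set X') ↔ _
    rw [Scheme.IdealSheafData.coe_support_vanishingIdeal]
    rfl
  have hbx : ∀ w, V.2.fromSpec (bv w) = b (κ w) := fun w =>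
    congrArg (fun f : Xv ⟶ X' => f w) hbκ
  have hjr : Set.range (j ≫ κ) ⊆ Set.range ι := by
    rintro _ ⟨p, rfl⟩
    refine hfib.ge ?_
    show b (κ (j p)) = y
    rw [← hbx]
    exact (hctr _).1 (hj p)
  haveI : IsReduced (CohB1.ProjSpace 1 k) := by
    haveI : IsIntegral (CohB1.ProjSpace 1 k) := ProjDim.isIntegral_proj _ 1
    infer_instance
  have hle : ι.ker ≤ (j ≫ κ).ker := by
    rw [SchImage.ker_eq_vanishingIdeal, SchImage.ker_eq_vanishingIdeal]
    exact Scheme.IdealSheafData.vanishingIdeal_antimono (closure_mono hjr)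
  let l := IsClosedImmersion.lift ι (j ≫ κ) hle
  have hl : l ≫ ι = j ≫ κ := IsClosedImmersion.lift_fac _ _ _
  let M := L.restrict κ
  let ε : M ≅ (Scheme.Modules.pullback κ).obj L := (Scheme.Modules.restrictFunctorIsoPullback κ).app L
  have hM : PicF.IsInvertible M :=
    ParaPair.isInvertible_restrict κ hL
  obtain ⟨x₀, hx₀⟩ := hgen M hM (by
    rw [(Cube.clsMod_eq_iff hM (Ample.isInvertible_pullback κ hL)).2 ⟨ε⟩, Cube.clsMod_pullback κ hL, Cube.pull_comp,
      ← hl, ← Cube.pull_comp, htriv, map_one])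
  choose U hpU hU using hx₀
  let O : Xv.Opens := ⨆ p, U p
  have hO : IsGen M O (mres M le_top x₀) :=
    InvExt.isGen_of_cover U (le_iSup U) le_rfl fun p => by rw [InvExt.mres_mres]; exact hU p
  have hO' : IsGen L (κ ''ᵁ O) (show Γ(L, κ ''ᵁ O) from mres M le_top x₀) := InvExt.isGen_image κ L hO
  have hsub : b ⁻¹' {y} ⊆ ((κ ''ᵁ O : X.Opens) : Set X) := fun x hx => by
    have hxV : x ∈ b ⁻¹ᵁ V.1 := by show b x ∈ V.1; rw [show b x = y from hx]; exact hyV
    obtain ⟨p, hp⟩ := hsurj (⟨x, hxV⟩ : Xv) ((hctr _).2 (by rw [hbx]; exact hx))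
    exact ⟨⟨x, hxV⟩, Opens.mem_iSup.2 ⟨p, hp ▸ hpU p⟩, rfl⟩
  obtain ⟨W, hyW, hW⟩ := exists_nhd_of_fibre_subset b hsub
  exact ⟨W, _, hyW, hO'.restrict hW⟩

/-- An invertible module trivial on the exceptional curve descends along the blow-up of a regular point. -/
theorem exists_descent_of_trivial {E X X' : Scheme.{u}} [IsLocallyNoetherian X'] (ι : E ⟶ X) [IsClosedImmersion ι]
    [IsReduced E] (b : X ⟶ X') [IsProper b] (happ : ∀ V, IsIso (b.app V)) {y : X'} (hy : IsClosed ({y} : Set X'))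
    [IsRegularLocalRing (X'.presheaf.stalk y)] (hd : ringKrullDim (X'.presheaf.stalk y) = 2)
    (hb : _root_.BlowUp.IsBlowUp b (Scheme.IdealSheafData.vanishingIdeal ⟨{y}, hy⟩))
    (hfib : Set.range ι = b ⁻¹' {y}) {L : X.Modules} (hL : PicF.IsInvertible L)
    (htriv : Cube.pull ι (clsMod hL) = 1) : ∃ P : Cube.Pic X', Cube.pull b P = clsMod hL := by
  refine exists_descent b happ hL fun z => ?_
  by_cases hz : z = y
  · subst hz
    exact exists_gen_nhd_fibre ι b hy hd hb hfib hL htriv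
  let Pc : X'.Opens := ⟨{y}ᶜ, hy.isOpen_compl⟩
  haveI : IsIso (b ∣_ Pc) := by
    have h := GrothLib.BlowUp.isIso_off_center hb
    rwa [show (Scheme.IdealSheafData.vanishingIdeal (⟨{y}, hy⟩ : Closeds X')).support.compl = Pc from Opens.ext (by
      show ((Scheme.IdealSheafData.vanishingIdeal (⟨{y}, hy⟩ : Closeds X')).support : Set X')ᶜ = {y}ᶜ
      rw [Scheme.IdealSheafData.coe_support_vanishingIdeal]
      rfl)] at h
  obtain ⟨x, hx⟩ : ∃ x, b x = z := by
    obtain ⟨w, hw⟩ := (b ∣_ Pc).surjective (⟨z, hz⟩ : Pc.toScheme)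
    exact ⟨w.1, (morphismRestrict_base_coe b Pc w).symm.trans (congrArg Subtype.val hw)⟩
  obtain ⟨Z, γ, hxZ, hγ⟩ := InvExt.exists_gen_nhd hL x
  have hsub : b ⁻¹' {z} ⊆ (Z : Set X) := fun w hw => by
    have hwP : w ∈ b ⁻¹ᵁ Pc := by show b w ∈ Pc; rw [show b w = z from hw]; exact hz
    have hxP : x ∈ b ⁻¹ᵁ Pc := by show b x ∈ Pc; rw [hx]; exact hz
    have := (b ∣_ Pc).isOpenEmbedding.injective (a₁ := ⟨w, hwP⟩) (a₂ := ⟨x, hxP⟩)
      (Subtype.ext (by rw [morphismRestrict_base_coe, morphismRestrict_base_coe]; exact hw.trans hx.symm))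
    rw [show w = x from congrArg Subtype.val this]
    exact hxZ
  obtain ⟨W, hzW, hW⟩ := exists_nhd_of_fibre_subset b hsub
  exact ⟨W, _, hzW, hγ.restrict hW⟩

end GrothLib.Contract29
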