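import Groth.Agent.Lib.ExcP1.Global
import Groth.Agent.Lib.BlowUp.EffCartier
import Mathlib.AlgebraicGeometry.Morphisms.Finite
import Mathlib.RingTheory.Finiteness.Nakayama

/-!
# A proper morphism which is a closed immersion off a point and at the point
-/

universe u

set_option linter.all false
set_option backward.isDefEq.respectTransparency false

open CategoryTheory AlgebraicGeometry TopologicalSpace IsLocalRing

noncomputable section

namespace GrothLib.Contract29

theorem exists_away_mem_range {S T : Type u} [CommRing S] [CommRing T] (f : S →+* T) (hf : f.Finite)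
    (p : Ideal S) (hp : ∀ m : T, ∃ c : S, m - f c ∈ p.map f) :
    ∃ r : S, r - 1 ∈ p ∧ ∀ m : T, f r * m ∈ Set.range f := by
  letI := f.toAlgebra
  haveI : Module.Finite S T := hf
  let N := LinearMap.range (Algebra.linearMap S T)
  have hle : (⊤ : Submodule S (T ⧸ N)) ≤ p • (⊤ : Submodule S (T ⧸ N)) := fun q _ => by
    obtain ⟨m, rfl⟩ := Submodule.Quotient.mk_surjective N q
    obtain ⟨c, hc⟩ := hp m
    have h1 : m - f c ∈ (p • (⊤ : Submodule S T) : Submodule S T) := by
      rw [Ideal.smul_top_eq_map]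
      exact hc
    have h2 := Submodule.mem_map_of_mem (f := N.mkQ) h1
    rw [Submodule.map_smul'', Submodule.map_top, Submodule.range_mkQ, map_sub,
      show N.mkQ (f c) = 0 from (Submodule.Quotient.mk_eq_zero N).2 ⟨c, rfl⟩, sub_zero] at h2
    exact h2
  obtain ⟨r, hr, hr'⟩ := Submodule.exists_sub_one_mem_and_smul_eq_zero_of_fg_of_le_smul p ⊤ Module.Finite.fg_top hle
  refine ⟨r, hr, fun m => ?_⟩
  have := hr' (N.mkQ m) trivial
  rw [← map_smul] at this
  obtain ⟨c, hc⟩ := (Submodule.Quotient.mk_eq_zero N).1 this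
  exact ⟨c, hc.trans (Algebra.smul_def r m)⟩

variable {A B : Scheme.{u}}

theorem residue_surjective_of_closed {z : B} (hz : IsClosed ({z} : Set B)) (W : B.affineOpens) (hzW : z ∈ W.1) :
    Function.Surjective ((B.residue z).hom.comp (B.presheaf.germ W.1 z hzW).hom) ∧
      RingHom.ker ((B.residue z).hom.comp (B.presheaf.germ W.1 z hzW).hom) =
        (W.2.primeIdealOf ⟨z, hzW⟩).asIdeal := by
  letI : Algebra Γ(B, W.1) (B.presheaf.stalk z) := B.presheaf.algebra_section_stalk (⟨z, hzW⟩ : W.1)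
  haveI : IsLocalization.AtPrime (B.presheaf.stalk z) (W.2.primeIdealOf ⟨z, hzW⟩).asIdeal :=
    W.2.isLocalization_stalk ⟨z, hzW⟩
  refine ⟨fun y => ?_, ?_⟩
  · obtain ⟨w, rfl⟩ := IsLocalRing.residue_surjective (R := B.presheaf.stalk z) y
    haveI : (W.2.primeIdealOf ⟨z, hzW⟩).asIdeal.IsMaximal := (ExcP1.vanishingIdeal_point_ideal hz W hzW).2
    obtain ⟨y, hy⟩ := (IsLocalization.AtPrime.equivQuotMaximalIdeal (W.2.primeIdealOf ⟨z, hzW⟩).asIdeal
      (B.presheaf.stalk z)).surjective (Ideal.Quotient.mk _ w)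
    obtain ⟨y, rfl⟩ := Ideal.Quotient.mk_surjective y
    refine ⟨y, ?_⟩
    exact hy
  · refine (RingHom.comap_ker _ _).symm.trans ?_
    rw [show RingHom.ker (B.residue z).hom = maximalIdeal (B.presheaf.stalk z) from IsLocalRing.ker_residue]
    exact IsLocalization.AtPrime.comap_maximalIdeal (B.presheaf.stalk z) (W.2.primeIdealOf ⟨z, hzW⟩).asIdeal

/-- A finite morphism, a closed immersion off a point whose scheme preimage is a point with the same residue
field, is a closed immersion. -/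
theorem isClosedImmersion_of_point (φ : A ⟶ B) [IsFinite φ] {b : B} (hb : IsClosed ({b} : Set B))
    [IsClosedImmersion (φ ∣_ (⟨{b}ᶜ, hb.isOpen_compl⟩ : B.Opens))] {a : A} (ha : IsClosed ({a} : Set A))
    (hab : φ a = b)
    (hI : (Scheme.IdealSheafData.vanishingIdeal (⟨{b}, hb⟩ : Closeds B)).comap φ =
      Scheme.IdealSheafData.vanishingIdeal (⟨{a}, ha⟩ : Closeds A))
    (hres : Function.Surjective (φ.residueFieldMap a)) : IsClosedImmersion φ := by
  obtain ⟨_, ⟨U, hU, rfl⟩, hbU, -⟩ := B.isBasis_affineOpens.exists_subset_of_mem_open (Set.mem_univ b) isOpen_univ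
  let W : A.affineOpens := ⟨φ ⁻¹ᵁ U, hU.preimage φ⟩
  have haW : a ∈ W.1 := by show φ a ∈ U; rw [hab]; exact hbU
  subst hab
  obtain ⟨hsB, hkB⟩ := residue_surjective_of_closed hb ⟨U, hU⟩ hbU
  obtain ⟨hsA, hkA⟩ := residue_surjective_of_closed ha W haW
  have hp : ((hU.primeIdealOf ⟨φ a, hbU⟩).asIdeal).map (φ.app U).hom = (W.2.primeIdealOf ⟨a, haW⟩).asIdeal := by
    rw [← (ExcP1.vanishingIdeal_point_ideal hb ⟨U, hU⟩ hbU).1, ← (ExcP1.vanishingIdeal_point_ideal ha W haW).1, ← hI,
      BlowUp.ideal_comap_eq_map _ φ ⟨U, hU⟩ W le_rfl, Scheme.Hom.appLE_eq_app]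
  have hmem : ∀ m : Γ(A, W.1), ∃ c : Γ(B, U), m - φ.app U c ∈ ((hU.primeIdealOf ⟨φ a, hbU⟩).asIdeal).map (φ.app U).hom := fun m => by
    obtain ⟨y, hy⟩ := hres (((A.residue a).hom.comp (A.presheaf.germ W.1 a haW).hom) m)
    obtain ⟨c, rfl⟩ := hsB y
    refine ⟨c, ?_⟩
    rw [hp, ← hkA, RingHom.mem_ker, map_sub, sub_eq_zero]
    refine hy.symm.trans ?_
    refine (ConcreteCategory.congr_hom (Scheme.residue_residueFieldMap φ a) (B.presheaf.germ U (φ a) hbU c)).trans ?_
    exact congrArg (A.residue a) (φ.germ_stalkMap_apply U a hbU c)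
  obtain ⟨r, hr, hrm⟩ := exists_away_mem_range (φ.app U).hom (φ.finite_app U hU) _ hmem
  have hbr : φ a ∈ B.basicOpen r := by
    rw [Scheme.mem_basicOpen _ _ _ hbU]
    by_contra hu
    have h1 : r ∈ (hU.primeIdealOf ⟨φ a, hbU⟩).asIdeal := by
      rw [← hkB, RingHom.mem_ker]
      exact (IsLocalRing.residue_eq_zero_iff _).2 hu
    exact (hU.primeIdealOf ⟨φ a, hbU⟩).isPrime.ne_top ((Ideal.eq_top_iff_one _).2 (by simpa using Ideal.sub_mem _ h1 hr))
  have hle : B.basicOpen r ≤ U := B.basicOpen_le r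
  haveI : IsClosedImmersion (φ ∣_ B.basicOpen r) := by
    have hD : IsAffineOpen (B.basicOpen r) := hU.basicOpen r
    haveI : IsAffine (B.basicOpen r : Scheme.{u}) := hD
    haveI : IsAffine (φ ⁻¹ᵁ B.basicOpen r : Scheme.{u}) := hD.preimage φ
    refine IsClosedImmersion.of_surjective_of_isAffine _ ?_
    have hsurj : Function.Surjective (φ.app (B.basicOpen r)) := by
      intro t
      have hpre : φ ⁻¹ᵁ B.basicOpen r = A.basicOpen (φ.app U r) := Scheme.preimage_basicOpen φ r
      let t' : Γ(A, A.basicOpen (φ.app U r)) := A.presheaf.map (eqToHom hpre.symm).op t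
      haveI := W.2.isLocalization_basicOpen (φ.app U r)
      obtain ⟨⟨m, ⟨_, n, rfl⟩⟩, hmn⟩ := IsLocalization.surj (Submonoid.powers (φ.app U r)) t'
      obtain ⟨c, hc⟩ := hrm m
      haveI := hU.isLocalization_basicOpen r
      refine ⟨IsLocalization.mk' _ c (⟨r ^ (n + 1), n + 1, rfl⟩ : Submonoid.powers r), ?_⟩
      have hu : IsUnit (φ.app (B.basicOpen r) (algebraMap Γ(B, U) Γ(B, B.basicOpen r) (r ^ (n + 1)))) :=
        (IsLocalization.map_units Γ(B, B.basicOpen r) (⟨r ^ (n + 1), n + 1, rfl⟩ : Submonoid.powers r)).map (φ.app (B.basicOpen r)).hom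
      refine hu.mul_left_inj.1 ?_
      rw [← map_mul, IsLocalization.mk'_spec]
      have hnat : ∀ x : Γ(B, U), φ.app (B.basicOpen r) (algebraMap Γ(B, U) Γ(B, B.basicOpen r) x) =
          A.presheaf.map (homOfLE (φ.preimage_mono hle)).op (φ.app U x) := fun x =>
        ConcreteCategory.congr_hom (φ.naturality (homOfLE hle).op) x
      rw [hnat, hnat, show φ.app U c = φ.app U r * m from hc, map_pow, pow_succ' (φ.app U r), map_mul, map_mul]
      apply (ConcreteCategory.bijective_of_isIso (A.presheaf.map (eqToHom hpre.symm).op)).1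
      have hcomp : ∀ x : Γ(A, W.1), A.presheaf.map (eqToHom hpre.symm).op (A.presheaf.map (homOfLE (φ.preimage_mono hle)).op x) =
          algebraMap Γ(A, W.1) Γ(A, A.basicOpen (φ.app U r)) x := fun x => by
        rw [← ConcreteCategory.comp_apply, ← Functor.map_comp]
        rfl
      rw [map_mul, map_mul, map_mul, hcomp, hcomp, hcomp]
      show _ = t' * _
      rw [← hmn]
      ring
    have hsurj' : ∀ O : B.Opens, O = B.basicOpen r → Function.Surjective (φ.app O) := by rintro O rfl; exact hsurj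
    show Function.Surjective (φ ∣_ B.basicOpen r).appTop
    rw [morphismRestrict_appTop]
    intro y
    obtain ⟨w, hw⟩ := (ConcreteCategory.bijective_of_isIso
      (A.presheaf.map (eqToHom (image_morphismRestrict_preimage φ (B.basicOpen r) ⊤)).op)).2 y
    obtain ⟨z, rfl⟩ := hsurj' _ (Scheme.Opens.ι_image_top _) w
    exact ⟨z, hw⟩
  refine IsZariskiLocalAtTarget.of_iSup_eq_top (fun i : Bool => cond i (B.basicOpen r) ⟨{φ a}ᶜ, hb.isOpen_compl⟩) ?_
    (fun i => by cases i <;> simp only [cond_true, cond_false] <;> infer_instance)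
  refine eq_top_iff.2 fun x _ => Opens.mem_iSup.2 ?_
  by_cases hx : x = φ a
  · exact ⟨true, hx ▸ hbr⟩
  · exact ⟨false, hx⟩

end GrothLib.Contract29
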