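import Groth.Agent.Lib.ArSurf29.MinimalEngine
import Groth.Agent.Lib.ArSurf29.Points
import Groth.Agent.Lib.ArSurf29.SmoothFibre
import Groth.Agent.Lib.Contract29.PointImm
import Groth.Agent.Lib.ProjPic26.Over
import Groth.Agent.Lib.AffDom.PointDim

/-!
# Minimal models of a curve of genus zero
-/

universe u

set_option autoImplicit false
set_option linter.all false
set_option backward.isDefEq.respectTransparency false

open CategoryTheory CategoryTheory.Limits AlgebraicGeometry TopologicalSpace IsLocalRing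

noncomputable section

namespace GrothLib.Contract29

open GrothLib.ArSurf29

/-- Projective lines over isomorphic fields. -/
theorem exists_projSpace_iso {k κ : Type u} [CommRing k] [CommRing κ] (φ : k →+* κ) (hφ : Function.Bijective φ) :
    ∃ τ : CohB1.ProjSpace 1 κ ≅ CohB1.ProjSpace 1 k,
      τ.hom ≫ CohB1.ProjSpace.toSpec 1 k = CohB1.ProjSpace.toSpec 1 κ ≫ Spec.map (CommRingCat.ofHom φ) := by
  let σ : Spec (CommRingCat.of κ) ≅ Spec (CommRingCat.of k) :=
    Scheme.Spec.mapIso (RingEquiv.ofBijective φ hφ).toCommRingCatIso.op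
  have h1 : IsPullback (ProjPic26.chi 1 κ) (CohB1.ProjSpace.toSpec 1 κ ≫ σ.hom)
      (CohB1.ProjSpace.toSpec 1 (ULift.{u} ℤ)) (specULiftZIsTerminal.from (Spec (CommRingCat.of k))) :=
    (ProjPic26.isPullback_chi 1 κ).of_iso (Iso.refl _) (Iso.refl _) σ (Iso.refl _) (by simp) (by simp) (by simp)
      (specULiftZIsTerminal.hom_ext _ _)
  refine ⟨h1.isoIsPullback _ _ (ProjPic26.isPullback_chi 1 k), ?_⟩
  exact h1.isoIsPullback_hom_snd _ _ _

variable {R : Type u} [CommRing R] [IsDomain R] [IsDiscreteValuationRing R]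

section Curve

variable {X : Over (Spec (CommRingCat.of R))} [IsProper X.hom]

/-- An exceptional curve with constants the residue field is the line over it. -/
theorem exists_iso_line_of_wdeg_one (Γ : ArSurf.VertComp R X) (h : Models.IsExcCurve Γ.ι)
    (hw : Models.wdeg R X Γ = 1) :
    ∃ e : Γ.curve.left ≅ CohB1.ProjSpace 1 (ResidueField R),
      e.hom ≫ CohB1.ProjSpace.toSpec 1 (ResidueField R) = Γ.curve.hom := by
  obtain ⟨-, κ, _, e, -⟩ := h
  haveI := Γ.isClosedImmersion
  haveI := Γ.isIntegral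
  let P := CohB1.ProjSpace 1 κ
  let q : P ⟶ Spec (CommRingCat.of (ResidueField R)) := e.hom ≫ Γ.curve.hom
  let q' : P ⟶ Spec (CommRingCat.of κ) := CohB1.ProjSpace.toSpec 1 κ
  have hbij : Function.Bijective (Coh.toGlobal q') := by
    letI := GlobalConst.algΓ κ (X := P)
    have hfr : Module.finrank κ Γ(P, ⊤) = 1 :=
      ((GlobalConst.h0Equiv κ (X := P)).finrank_eq.symm).trans (finrank_H0_P1 κ)
    haveI : Nontrivial Γ(P, ⊤) := Module.nontrivial_of_finrank_eq_succ (hfr.trans rfl)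
    haveI : Nontrivial (Coh.Γtop P) := ‹Nontrivial Γ(P, ⊤)›
    refine ⟨(Coh.toGlobal q').injective, fun y => ?_⟩
    obtain ⟨c, hc⟩ := (finrank_eq_one_iff_of_nonzero' (1 : Γ(P, ⊤)) one_ne_zero).1 hfr y
    exact ⟨c, ((Algebra.algebraMap_eq_smul_one c).trans hc :)⟩
  let φ : ResidueField R →+* κ := (RingEquiv.ofBijective _ hbij).symm.toRingHom.comp (Coh.toGlobal q)
  have hφ : ∀ a, Coh.toGlobal q a = Coh.toGlobal q' (φ a) := fun a =>
    ((RingEquiv.ofBijective _ hbij).apply_symm_apply _).symm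
  letI : P.Over (Spec (CommRingCat.of (ResidueField R))) := ⟨q⟩
  obtain ⟨f⟩ := nonempty_HH_structure_iso (ResidueField R) (Z := P) (Y := Γ.curve.left) e.hom rfl 0
  have hfr : (letI := φ.toAlgebra; Module.finrank (ResidueField R) κ) = 1 := by
    have h1 := finrank_HH_mul (ResidueField R) q q' φ hφ (Coh.structureModule P) 0
    rw [finrank_H0_P1, mul_one, f.finrank_eq] at h1
    exact h1.symm.trans hw
  have hφb : Function.Bijective φ := by
    letI := φ.toAlgebra
    refine ⟨φ.injective, fun y => ?_⟩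
    obtain ⟨c, hc⟩ := (finrank_eq_one_iff_of_nonzero' (1 : κ) one_ne_zero).1 hfr y
    exact ⟨c, ((Algebra.algebraMap_eq_smul_one c).trans hc :)⟩
  obtain ⟨τ, hτ⟩ := exists_projSpace_iso φ hφb
  refine ⟨e.symm ≪≫ τ, ?_⟩
  rw [Iso.trans_hom, Category.assoc, hτ, Iso.symm_hom, Iso.inv_comp_eq]
  refine ext_of_isAffine ?_
  refine CommRingCat.hom_ext (RingHom.ext fun x => ?_)
  obtain ⟨a, rfl⟩ : ∃ a, (Scheme.ΓSpecIso (CommRingCat.of (ResidueField R))).inv a = x :=
    ⟨_, Iso.hom_inv_id_apply _ x⟩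
  rw [Scheme.Hom.comp_appTop]
  refine Eq.trans ?_ (hφ a).symm
  exact congrArg q'.appTop (ConcreteCategory.congr_hom (Scheme.ΓSpecIso_inv_naturality (CommRingCat.ofHom φ)) a).symm

variable [IsLocallyNoetherian X.left] [Flat X.hom] (hX : Models.IsRegularScheme X.left)
include hX

/-- An irreducible closed fibre contains no exceptional curve. -/
theorem not_isExcCurve_of_irreducible {n : ℕ} {Γ : Fin n → ArSurf.VertComp R X}
    (hΓ : Models.IsComponentList R X Γ) (hn : n = 1) (D : ArSurf.VertComp R X) : ¬ Models.IsExcCurve D.ι := by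
  subst hn
  intro hD
  obtain ⟨L, hL⟩ := exists_inverses (X := X) hX hΓ
  obtain ⟨i, hi⟩ := exists_genPt_eq hΓ D
  haveI := D.isClosedImmersion
  haveI := D.isIntegral
  haveI := (Γ i).isClosedImmersion
  haveI := (Γ i).isIntegral
  have he : Models.IsExcCurve (Γ i).ι := isExcCurve_of_range_eq D.ι _ hD (range_vertComp_eq _ _ hi)
  have h1 := (h1_inter_of_isExcCurve (Γ i) (isEffCartier_ker (isMaxComp hΓ i) hX) (hL i) he).2
  have h2 := sum_mult_inter hX hΓ hL i
  rw [Fin.sum_univ_one, show (0 : Fin 1) = i from Subsingleton.elim _ _, h1] at h2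
  have h3 := mult_pos (isMaxComp hΓ i) hX
  have h4 := wdeg_pos (Γ i)
  rcases mul_eq_zero.1 h2 with h | h <;> omega

/-- A vertical divisor filling the closed fibre is its only component. -/
theorem exists_single_of_fill (Γ₀ : ArSurf.VertComp R X)
    (hfill : Models.specialFibreSet R X ⊆ Set.range Γ₀.ι.base) :
    Models.IsComponentList R X (fun _ : Fin 1 => Γ₀) := by
  have hsub := range_subset_fibre Γ₀
  have heq : Set.range Γ₀.ι.base = Models.specialFibreSet R X := hsub.antisymm hfill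
  have hirr : IsIrreducible (Set.range (Γ₀.ι.base : Γ₀.curve.left → X.left)) := by
    haveI := Γ₀.isIntegral
    rw [← Set.image_univ]
    exact (IrreducibleSpace.isIrreducible_univ Γ₀.curve.left).image _ Γ₀.ι.continuous.continuousOn
  refine ⟨fun i j _ => Subsingleton.elim i j, Set.ext fun S => ⟨?_, fun hS => ⟨0, ?_⟩⟩⟩
  · rintro ⟨-, rfl⟩
    exact ⟨⟨hirr, hsub⟩, fun T hT _ => hT.2.trans hfill⟩
  · exact le_antisymm (hS.2 ⟨hirr, hsub⟩ (hS.1.2.trans hfill)) (hS.1.2.trans hfill)

end Curve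

variable {C : Scheme.{u}} {f : C ⟶ Spec (CommRingCat.of (FractionRing R))} [IsIntegral C]
  {Z : Scheme.{u}} {p : Z ⟶ Spec (CommRingCat.of R)} {g : C ⟶ Z}

/-- A contraction sequence out of a scheme without exceptional curves in the closed fibre is an isomorphism. -/
theorem isIso_of_seq {W : Scheme.{u}} {r : W ⟶ Z} (hr : Models.IsContractionSeq r) (hZ : IsMData f Z p g)
    (hW : ∀ D : ArSurf.VertComp R (Over.mk (r ≫ p)), ¬ Models.IsExcCurve D.ι) : IsIso r := by
  cases hr with
  | iso e => infer_instance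
  | @step _ B _ E ι b r' hι hE hb hr' =>
    exfalso
    haveI := hι
    obtain ⟨g₁, h₁, -⟩ := mdata_seq hr' hZ
    obtain ⟨-, hbp, y, hy, hrange, -, -, -⟩ := id hb
    have hfib : ∀ e, (Over.mk ((b ≫ r') ≫ p)).hom (ι e) = closedPoint R := fun e => by
      show (r' ≫ p) (b (ι e)) = _
      rw [show b (ι e) = y from hrange.le ⟨e, rfl⟩]
      exact specialFibre_of_isClosed h₁ hy
    obtain ⟨F, hF, -⟩ := exists_vertComp_of_excCurve (X := Over.mk ((b ≫ r') ≫ p)) ι hE hfib
    exact hW F hF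

/-- The fibre ideal of a model whose closed fibre is a reduced line. -/
theorem exists_fibre_iso (hC : topologicalKrullDim C = 1) (hf : IsProper f) (hH0 : IsIso f.appTop)
    (hg0 : Models.curveGenus (FractionRing R) C f = 0) (hZ : IsMData f Z p g)
    (Γ₀ : ArSurf.VertComp R (Over.mk p)) (hfill : Models.specialFibreSet R (Over.mk p) ⊆ Set.range Γ₀.ι.base)
    (hh1 : Models.h1 R (Over.mk p) Γ₀ = 0) (hw : Models.wdeg R (Over.mk p) Γ₀ = 1)
    (e : Γ₀.curve.left ≅ CohB1.ProjSpace 1 (ResidueField R))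
    (he : e.hom ≫ CohB1.ProjSpace.toSpec 1 (ResidueField R) = Γ₀.curve.hom) :
    ∃ e' : Models.specialFibre R Z p ≅ CohB1.ProjSpace 1 (ResidueField R),
      e'.hom ≫ CohB1.ProjSpace.toSpec 1 (ResidueField R) =
        pullback.snd p (Spec.map (CommRingCat.ofHom (algebraMap R (ResidueField R)))) := by
  let ZZ : Over (Spec (CommRingCat.of R)) := Over.mk p
  haveI := hZ.isNoetherian
  haveI : IsProper ZZ.hom := hZ.proper
  haveI : Flat ZZ.hom := hZ.flat
  haveI : IsLocallyNoetherian ZZ.left := inferInstanceAs (IsLocallyNoetherian Z)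
  haveI : IsIntegral ZZ.left := hZ.isIntegral
  have hΓ := exists_single_of_fill (X := ZZ) hZ.reg Γ₀ hfill
  obtain ⟨L, hL⟩ := exists_inverses (X := ZZ) hZ.reg hΓ
  have hgen := genus_formula (X := ZZ) hZ.reg hΓ hL hZ.pb hH0
  have h2 := sum_mult_inter (X := ZZ) hZ.reg hΓ hL 0
  rw [Fin.sum_univ_one] at h2 hgen
  have hm : Models.mult R ZZ Γ₀ = 1 := by
    have h3 := mult_pos (isMaxComp hΓ 0) hZ.reg
    have h5 : ArSurf.inter R ZZ (L 0) Γ₀ = 0 := (mul_eq_zero.1 h2).resolve_left (by exact_mod_cast h3.ne')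
    rw [hg0, hh1, hw, h5] at hgen
    push_cast at hgen
    omega
  have hfib : Models.specialFibreIdeal R ZZ = Γ₀.ι.ker := by
    rw [fibre_eq_prod (X := ZZ) hΓ hZ.reg, Fin.prod_univ_one, hm, pow_one]
  let res := Spec.map (CommRingCat.ofHom (algebraMap R (ResidueField R)))
  haveI : IsClosedImmersion res := IsClosedImmersion.spec_of_surjective _ IsLocalRing.residue_surjective
  have hker : (pullback.fst p res).ker = Γ₀.ι.ker := (ker_fst_residue (X := ZZ)).trans hfib
  haveI := Γ₀.isClosedImmersion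
  haveI : IsClosedImmersion (Y := Z) Γ₀.ι := Γ₀.isClosedImmersion
  let a : Models.specialFibre R Z p ⟶ Γ₀.curve.left := IsClosedImmersion.lift (Z := Z) Γ₀.ι (pullback.fst p res) hker.ge
  have ha : a ≫ Γ₀.ι = pullback.fst p res := IsClosedImmersion.lift_fac _ _ _
  let c : Γ₀.curve.left ⟶ Models.specialFibre R Z p := IsClosedImmersion.lift (pullback.fst p res) (Γ₀.ι : _ ⟶ Z) hker.le
  have hc : c ≫ pullback.fst p res = Γ₀.ι := IsClosedImmersion.lift_fac _ _ _
  let ε : Models.specialFibre R Z p ≅ Γ₀.curve.left :=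
    ⟨a, c, by rw [← cancel_mono (pullback.fst p res), Category.assoc, hc, ha, Category.id_comp],
      by rw [← cancel_mono (Γ₀.ι : _ ⟶ Z), Category.assoc, ha, hc, Category.id_comp]⟩
  refine ⟨ε ≪≫ e, ?_⟩
  rw [Iso.trans_hom, Category.assoc, he, ← cancel_mono res]
  show (a ≫ Γ₀.curve.hom) ≫ res = _
  rw [Category.assoc, ← pullback.condition, ← ha]
  erw [Category.assoc]
  exact congrArg (a ≫ ·) Γ₀.w.symm

/-- The ideal of a closed point pulls back to itself along a closed immersion. -/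
theorem comap_ptIdeal {A B : Scheme.{u}} (i : A ⟶ B) [IsClosedImmersion i] (a : A) (ha : IsClosed ({a} : Set A)) :
    (ptIdeal (i a)).comap i = Scheme.IdealSheafData.vanishingIdeal (⟨{a}, ha⟩ : Closeds A) := by
  have hI : ptIdeal a = Scheme.IdealSheafData.vanishingIdeal (⟨{a}, ha⟩ : Closeds A) :=
    congrArg Scheme.IdealSheafData.vanishingIdeal (Closeds.ext ha.closure_eq)
  rw [← hI]
  let I := ptIdeal a
  have hker : (I.subschemeι ≫ i).ker = ptIdeal (i a) := by
    rw [SchImage.ker_eq_vanishingIdeal]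
    refine congrArg Scheme.IdealSheafData.vanishingIdeal (Closeds.ext (congrArg closure ?_))
    show Set.range (i ∘ I.subschemeι) = _
    rw [Set.range_comp, Scheme.IdealSheafData.range_subschemeι, support_ptIdeal, ha.closure_eq, Set.image_singleton]
  rw [← hker]
  refine le_antisymm (Scheme.IdealSheafData.comap_map_le _ _) ?_
  let c := (I.subschemeι ≫ i).ker.comap i
  have h1 : (I.subschemeι ≫ i).ker ≤ (c.subschemeι ≫ i).ker :=
    Scheme.IdealSheafData.le_map_comap _ _
  have h2 : IsClosedImmersion.lift (I.subschemeι ≫ i) (c.subschemeι ≫ i) h1 ≫ I.subschemeι = c.subschemeι := by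
    rw [← cancel_mono i, Category.assoc, IsClosedImmersion.lift_fac]
  show I ≤ c
  rw [← c.ker_subschemeι, ← h2]
  exact I.ker_subschemeι.ge.trans (Scheme.Hom.le_ker_comp _ _)

/-- A contraction which separates two meeting exceptional lines leaves a line as closed fibre. -/
theorem fibre_line_of_meet (hC : topologicalKrullDim C = 1) (hf : IsProper f) (hH0 : IsIso f.appTop)
    (hZ : IsMData f Z p g) {Y E : Scheme.{u}} (ι : E ⟶ Y) [IsClosedImmersion ι] (hE : Models.IsExcCurve ι)
    (b : Y ⟶ Z) (hb : Models.IsContractionOf ι b) (Γ : ArSurf.VertComp R (Over.mk (b ≫ p)))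
    (hΓ : Models.IsExcCurve Γ.ι) (hne : Set.range Γ.ι ≠ Set.range ι)
    (hmeet : ¬ Disjoint (Set.range Γ.ι) (Set.range ι)) :
    (∀ D : ArSurf.VertComp R (Over.mk p), ¬ Models.IsExcCurve D.ι) ∧
    ∃ e' : Models.specialFibre R Z p ≅ CohB1.ProjSpace 1 (ResidueField R),
      e'.hom ≫ CohB1.ProjSpace.toSpec 1 (ResidueField R) =
        pullback.snd p (Spec.map (CommRingCat.ofHom (algebraMap R (ResidueField R)))) := by
  obtain ⟨g₀, h₀, -⟩ := mdata_step hZ ι b hb
  obtain ⟨-, hbp, y, hy, hrange, hyreg, hd, hblow⟩ := id hb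
  haveI := hbp; haveI := hyreg
  haveI := hZ.isNoetherian
  haveI := h₀.isNoetherian
  let YY : Over (Spec (CommRingCat.of R)) := Over.mk (b ≫ p)
  haveI : IsProper YY.hom := h₀.proper
  haveI : Flat YY.hom := h₀.flat
  haveI : IsLocallyNoetherian YY.left := inferInstanceAs (IsLocallyNoetherian Y)
  haveI : IsIntegral YY.left := h₀.isIntegral
  have hfib : ∀ e, YY.hom (ι e) = closedPoint R := fun e => by
    show p (b (ι e)) = _
    rw [show b (ι e) = y from hrange.le ⟨e, rfl⟩]
    exact specialFibre_of_isClosed hZ hy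
  obtain ⟨F, hF, hFr⟩ := exists_vertComp_of_excCurve (X := YY) ι hE hfib
  haveI : IsClosedImmersion (Y := Y) Γ.ι := Γ.isClosedImmersion
  haveI := Γ.isIntegral
  haveI := F.isClosedImmersion
  haveI := F.isIntegral
  obtain ⟨n, L₀, hL₀⟩ := exists_componentList (X := YY) (h₀.dim_eq hC hf)
  obtain ⟨L, hL⟩ := exists_inverses (X := YY) h₀.reg hL₀
  obtain ⟨i, hi⟩ := exists_genPt_eq hL₀ F
  obtain ⟨j, hj⟩ := exists_genPt_eq hL₀ Γ
  have hri := (range_vertComp_eq _ _ hi).trans hFr
  have hrj := range_vertComp_eq _ _ hj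
  haveI := (L₀ i).isClosedImmersion
  haveI := (L₀ i).isIntegral
  haveI := (L₀ j).isClosedImmersion
  haveI := (L₀ j).isIntegral
  have hei : Models.IsExcCurve (L₀ i).ι := isExcCurve_of_range_eq F.ι _ hF (hri.trans hFr.symm)
  have hej : Models.IsExcCurve (L₀ j).ι := isExcCurve_of_range_eq (Y := YY.left) Γ.ι _ hΓ hrj
  have hij : i ≠ j := fun e => hne (by subst e; exact hrj.symm.trans hri)
  obtain ⟨hn, -, hwd, hh1, hint, hg0⟩ := excCurves_meet (X := YY) h₀.reg hL₀ hL h₀.pb hH0 i j hij hei hej (fun hd' =>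
    hmeet (by
      rw [Set.disjoint_left] at hd' ⊢
      exact fun a h1 h2 => hd' (hri.ge h2) (hrj.ge h1)))
  have hall : ∀ l, l = i ∨ l = j := fun l => by
    subst hn
    fin_cases i <;> fin_cases j <;> fin_cases l <;> simp at hij ⊢
  let G : ArSurf.VertComp R YY := L₀ j
  haveI : IsClosedImmersion (Y := Y) G.ι := (L₀ j).isClosedImmersion
  obtain ⟨-, k, _, e, -⟩ := id hE
  have hfibre := GrothLib.ExcP1.range_eq_fibre hy hd hblow ι k e hrange
  haveI : IsIntegral (CohB1.ProjSpace 1 k) := ProjDim.isIntegral_proj _ 1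
  haveI : IsReduced E := isReduced_of_isOpenImmersion e.inv
  -- the two ideals
  have hkerι : (L₀ i).ι.ker = ι.ker := by
    rw [SchImage.ker_eq_vanishingIdeal, SchImage.ker_eq_vanishingIdeal]
    congr 1
    exact Closeds.ext (congrArg closure hri)
  have hexc : (Scheme.IdealSheafData.vanishingIdeal (⟨{y}, hy⟩ : Closeds Z)).comap b = ι.ker := by
    obtain ⟨ee, -, -⟩ := GrothLib.ExcP1.exists_iso_point hy hd hblow
    let J := _root_.BlowUp.exceptional b (Scheme.IdealSheafData.vanishingIdeal (⟨{y}, hy⟩ : Closeds Z))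
    haveI : IsIntegral (CohB1.ProjSpace 1 (Z.residueField y)) := ProjDim.isIntegral_proj _ 1
    haveI : IsReduced J.subscheme := isReduced_of_isOpenImmersion ee.inv
    show J = _
    rw [← J.ker_subschemeι, SchImage.ker_eq_vanishingIdeal, SchImage.ker_eq_vanishingIdeal]
    congr 1
    refine Closeds.ext (congrArg closure ?_)
    rw [Scheme.IdealSheafData.range_subschemeι, hfibre]
    show ((Scheme.IdealSheafData.comap _ b).support : Set Y) = _
    rw [Scheme.IdealSheafData.support_comap]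
    show b ⁻¹' ((Scheme.IdealSheafData.vanishingIdeal (⟨{y}, hy⟩ : Closeds Z)).support : Set Z) = _
    rw [Scheme.IdealSheafData.coe_support_vanishingIdeal]
    rfl
  -- the meeting point
  let D := (L₀ i).ι.ker ⊔ (L₀ j).ι.ker
  have hne' : Set.range (L₀ j).ι.base ≠ Set.range (L₀ i).ι.base := fun h => hne (hrj.symm.trans (h.trans hri))
  have hlen : Models.lengthH R YY (ClSub.quotMod D) 0 = 1 := by
    have h := inter_eq_lengthH (L₀ j) (isEffCartier_ker (isMaxComp hL₀ i) h₀.reg)
      (notMem_support_ker_of_ne (isMaxComp hL₀ j) hne') (hL i)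
    rw [hint] at h
    exact_mod_cast h.symm
  have hsD : ((D.support : Closeds YY.left) : Set YY.left) = Set.range ι ∩ Set.range G.ι := by
    show ((((L₀ i).ι.ker ⊔ (L₀ j).ι.ker).support : Closeds YY.left) : Set YY.left) = _
    rw [Scheme.IdealSheafData.support_sup]
    show ((L₀ i).ι.ker.support : Set YY.left) ∩ ((L₀ j).ι.ker.support : Set YY.left) = _
    rw [support_ker, support_ker, hri]
    rfl
  haveI : NoetherianSpace G.curve.left := (Scheme.Hom.isClosedEmbedding (Y := Y) G.ι).isInducing.noetherianSpace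
  have hfin : (D.support : Set YY.left).Finite := by
    show ((D.support : Closeds YY.left) : Set YY.left).Finite
    rw [hsD]
    have h1 : (G.ι ⁻¹' Set.range ι).Finite := by
      refine CurvePoints.finite_of_isClosed (X := G.curve.left) G.dim_eq.le
        (ι.isClosedEmbedding.isClosed_range.preimage G.ι.continuous) fun hη => ?_
      refine notMem_support_ker_of_ne (isMaxComp hL₀ j) hne' ?_
      show Models.genPtOf R YY (L₀ j) ∈ ((L₀ i).ι.ker.support : Set YY.left)
      rw [support_ker, hri]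
      exact hη
    refine (h1.image G.ι).subset ?_
    rintro x ⟨hx, w, rfl⟩
    exact ⟨w, hx, rfl⟩
  have hle : Models.specialFibreIdeal R YY ≤ (L₀ i).ι.ker := by
    have h := fibre_le_prod (X := YY) hL₀ h₀.reg (a := fun l => if l = i then 1 else 0) (fun l => by
      have := mult_pos (isMaxComp hL₀ l) h₀.reg
      split <;> omega)
    rw [Finset.prod_eq_single i (fun l _ hl => by rw [if_neg hl, pow_zero]) (fun h => absurd (Finset.mem_univ i) h),
      if_pos rfl, pow_one] at h
    exact h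
  obtain ⟨x, hxsupp, hDx, hres⟩ := exists_eq_ptIdeal_of_finrank_one (X := YY)
    (hle.trans le_sup_left) hfin hlen
  obtain ⟨a, rfl⟩ : x ∈ Set.range G.ι := by
    have : x ∈ ((D.support : Closeds YY.left) : Set YY.left) := hxsupp.ge rfl
    rw [hsD] at this
    exact this.2
  have hxy : b (G.ι a) = y := by
    have : (G.ι a : Y) ∈ ((D.support : Closeds YY.left) : Set YY.left) := hxsupp.ge rfl
    rw [hsD] at this
    exact hfibre.le this.1
  let φ : G.curve.left ⟶ Z := (G.ι : _ ⟶ Y) ≫ b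
  let Pc : Z.Opens := ⟨{y}ᶜ, hy.isOpen_compl⟩
  haveI : IsIso (b ∣_ Pc) := by
    have h := GrothLib.BlowUp.isIso_off_center hblow
    rwa [show (Scheme.IdealSheafData.vanishingIdeal (⟨{y}, hy⟩ : Closeds Z)).support.compl = Pc from Opens.ext (by
      show ((Scheme.IdealSheafData.vanishingIdeal (⟨{y}, hy⟩ : Closeds Z)).support : Set Z)ᶜ = {y}ᶜ
      rw [Scheme.IdealSheafData.coe_support_vanishingIdeal]
      rfl)] at h
  have hinj : ∀ w w', φ w = φ w' → w = w' := fun w w' h => by
    refine (Scheme.Hom.isClosedEmbedding (Y := Y) G.ι).injective ?_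
    by_cases hw : φ w = y
    · have h1 : ∀ v, φ v = y → (G.ι v : Y) = G.ι a := fun v hv => by
        have : (G.ι v : Y) ∈ ((D.support : Closeds YY.left) : Set YY.left) := by
          rw [hsD]
          exact ⟨hfibre.ge hv, v, rfl⟩
        exact hxsupp.le this
      exact (h1 w hw).trans (h1 w' (h ▸ hw)).symm
    · exact injective_over_open b Pc (show b (G.ι w) ∈ Pc from hw) h
  haveI : IsProper φ := inferInstance
  haveI : LocallyQuasiFinite φ := LocallyQuasiFinite.of_finite_preimage_singleton _ fun z =>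
    Set.Subsingleton.finite fun w hw w' hw' => hinj w w' (hw.trans hw'.symm)
  haveI : IsFinite φ := IsFinite.of_isProper_of_locallyQuasiFinite _
  haveI : IsClosedImmersion (φ ∣_ Pc) := by
    rw [morphismRestrict_comp]
    infer_instance
  have hφa : φ a = y := hxy
  have ha : IsClosed ({a} : Set G.curve.left) := by
    have : ({a} : Set G.curve.left) = φ ⁻¹' {y} := Set.Subset.antisymm (by rintro _ rfl; exact hφa)
      fun w hw => hinj w a (hw.trans hφa.symm)
    rw [this]
    exact hy.preimage φ.continuous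
  have hI : (Scheme.IdealSheafData.vanishingIdeal (⟨{y}, hy⟩ : Closeds Z)).comap φ =
      Scheme.IdealSheafData.vanishingIdeal (⟨{a}, ha⟩ : Closeds G.curve.left) := by
    rw [Scheme.IdealSheafData.comap_comp, hexc]
    have hbot : (Scheme.Hom.ker (Y := Y) G.ι).comap (G.ι : _ ⟶ Y) = ⊥ := by
      rw [eq_bot_iff, ← Scheme.IdealSheafData.map_bot]
      exact Scheme.IdealSheafData.comap_map_le _ _
    have h1 : ι.ker.comap (G.ι : _ ⟶ Y) = (ptIdeal (G.ι a : Y)).comap (G.ι : _ ⟶ Y) := by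
      rw [← show D = ptIdeal (G.ι a : Y) from hDx]
      show _ = Scheme.IdealSheafData.comap ((L₀ i).ι.ker ⊔ (L₀ j).ι.ker : YY.left.IdealSheafData) _
      rw [hkerι, Scheme.IdealSheafData.comap_sup]
      exact (sup_bot_eq _).symm.trans (congrArg _ hbot.symm)
    rw [h1]
    exact comap_ptIdeal (G.ι : _ ⟶ Y) a ha
  have hres' : Function.Surjective (φ.residueFieldMap a) := by
    rw [Scheme.residueFieldMap_comp]
    intro v
    obtain ⟨w, rfl⟩ := GrothLib.AffDom.residueFieldMap_surjective (G.ι : _ ⟶ Y) a v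
    obtain ⟨r, hr⟩ := hres w
    refine ⟨Z.residue (b (G.ι a)) (Models.stalkHom R (Over.mk p) (b (G.ι a)) r), (ConcreteCategory.comp_apply _ _ _).trans (congrArg (G.ι.residueFieldMap a) (Eq.trans ?_ hr))⟩
    refine (ConcreteCategory.congr_hom (Scheme.residue_residueFieldMap b (G.ι a)) _).trans ?_
    refine congrArg (Y.residue (G.ι a)) ?_
    refine (b.germ_stalkMap_apply ⊤ (G.ι a) trivial (Coh.toGlobal p r)).trans ?_
    rfl
  haveI hφci : IsClosedImmersion φ := isClosedImmersion_of_point φ hy ha hφa hI hres'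
  let Γ' : ArSurf.VertComp R (Over.mk p) := ⟨G.curve, φ, hφci, G.isIntegral, G.dim_eq, by
    show (G.ι ≫ b) ≫ p = _
    rw [Category.assoc]
    exact G.w⟩
  have hfill : Models.specialFibreSet R (Over.mk p) ⊆ Set.range Γ'.ι.base := by
    intro z hz
    by_cases hzy : z = y
    · exact ⟨a, hφa.trans hzy.symm⟩
    obtain ⟨w, hw⟩ := (b ∣_ Pc).surjective (⟨z, hzy⟩ : Pc.toScheme)
    have hwz : b w.1 = z := (morphismRestrict_base_coe b Pc w).symm.trans (congrArg Subtype.val hw)
    obtain ⟨l, hl⟩ := exists_mem_range (X := YY) hL₀ (x := w.1) (by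
      show p (b w.1) = _
      rw [hwz]
      exact hz)
    rcases hall l with rfl | rfl
    · exact absurd (hwz ▸ hfibre.le (hri.le hl) : z = y) hzy
    · obtain ⟨v, hv⟩ := hl
      exact ⟨v, (congrArg b hv).trans hwz⟩
  obtain ⟨e₁, he₁⟩ := exists_iso_line_of_wdeg_one (X := YY) G hej (hwd j)
  refine ⟨fun D' => ?_, exists_fibre_iso hC hf hH0 hg0 hZ Γ' hfill (hh1 j).1 (hwd j) e₁ he₁⟩
  haveI : IsProper (Over.mk p).hom := hZ.proper
  haveI : Flat (Over.mk p).hom := hZ.flat
  haveI : IsLocallyNoetherian (Over.mk p).left := inferInstanceAs (IsLocallyNoetherian Z)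
  exact not_isExcCurve_of_irreducible (X := Over.mk p) hZ.reg
    (exists_single_of_fill (X := Over.mk p) hZ.reg Γ' hfill) rfl D'

/-- An exceptional curve upstairs not contracted on a minimal model forces a line as closed fibre. -/
theorem fibre_line_of_seq (hC : topologicalKrullDim C = 1) (hf : IsProper f) (hH0 : IsIso f.appTop)
    {W X : Scheme.{u}} {r : W ⟶ X} (hr : Models.IsContractionSeq r) :
    ∀ {p : X ⟶ Spec (CommRingCat.of R)} {gX : C ⟶ X}, IsMData f X p gX →
      (∀ Γ : ArSurf.VertComp R (Over.mk p), ¬ Models.IsExcCurve Γ.ι) →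
      ∀ {q : W ⟶ Spec (CommRingCat.of R)}, r ≫ p = q →
      ∀ Γ : ArSurf.VertComp R (Over.mk q), Models.IsExcCurve Γ.ι → (¬ ∃ x : X, Set.range (Γ.ι ≫ r) = {x}) →
      ∃ e' : Models.specialFibre R X p ≅ CohB1.ProjSpace 1 (ResidueField R),
        e'.hom ≫ CohB1.ProjSpace.toSpec 1 (ResidueField R) =
          pullback.snd p (Spec.map (CommRingCat.ofHom (algebraMap R (ResidueField R)))) := by
  induction hr with
  | @iso Y X e =>
    intro p gX hX hmin q hq Γ hΓ _
    exfalso
    haveI := hX.isNoetherian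
    haveI : IsClosedImmersion (Y := Y) Γ.ι := Γ.isClosedImmersion
    haveI : IsIso (e.hom ∣_ (⊤ : X.Opens)) := inferInstance
    refine hmin ⟨Γ.curve, Γ.ι ≫ e.hom, inferInstanceAs (IsClosedImmersion (Γ.ι ≫ e.hom)), Γ.isIntegral,
      Γ.dim_eq, ?_⟩ (isExcCurve_comp_of_iso_over (Y := Y) Γ.ι e.hom ⊤ (fun _ => trivial) hΓ)
    show (Γ.ι ≫ e.hom) ≫ p = _
    rw [Category.assoc, hq]
    exact Γ.w
  | @step Y Z X E ι b r hι hE hb hr ih =>
    intro p gX hX hmin q hq Γ hΓ hnot
    haveI := hι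
    obtain ⟨g₁, h₁, -⟩ := mdata_seq hr hX
    obtain ⟨g₀, h₀, -⟩ := mdata_step h₁ ι b hb
    obtain ⟨-, hbp, y, hy, hrange, hyreg, hd, hblow⟩ := id hb
    haveI := hbp; haveI := hyreg
    haveI := h₁.isNoetherian
    haveI := h₀.isNoetherian
    rw [Category.assoc] at hq
    subst hq
    haveI : IsClosedImmersion (Y := Y) Γ.ι := Γ.isClosedImmersion
    haveI := Γ.isIntegral
    obtain ⟨-, k, _, e, -⟩ := id hE
    have hfibre := GrothLib.ExcP1.range_eq_fibre hy hd hblow ι k e hrange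
    by_cases hsame : Set.range Γ.ι = Set.range ι
    · refine absurd ⟨r y, Set.Subset.antisymm ?_ ?_⟩ hnot
      · rintro _ ⟨w, rfl⟩
        obtain ⟨v, hv⟩ := hsame.le ⟨w, rfl⟩
        show r (b (Γ.ι w)) ∈ ({r y} : Set X)
        rw [show Γ.ι w = ι v from hv.symm, show b (ι v) = y from hrange.le ⟨v, rfl⟩]
        rfl
      · rintro _ rfl
        obtain ⟨v, hv⟩ := hrange.ge (rfl : y = y)
        obtain ⟨w, hw⟩ := hsame.ge ⟨v, rfl⟩
        refine ⟨w, ?_⟩
        show r (b (Γ.ι w)) = r y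
        rw [show Γ.ι w = ι v from hw, show b (ι v) = y from hv]
    by_cases hdisj : Disjoint (Set.range Γ.ι) (Set.range ι)
    · let V : Z.Opens := ⟨{y}ᶜ, hy.isOpen_compl⟩
      haveI : IsIso (b ∣_ V) := by
        have h := GrothLib.BlowUp.isIso_off_center hblow
        rwa [show (Scheme.IdealSheafData.vanishingIdeal (⟨{y}, hy⟩ : Closeds Z)).support.compl = V from Opens.ext (by
          show ((Scheme.IdealSheafData.vanishingIdeal (⟨{y}, hy⟩ : Closeds Z)).support : Set Z)ᶜ = {y}ᶜ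
          rw [Scheme.IdealSheafData.coe_support_vanishingIdeal]
          rfl)] at h
      have hV : ∀ w, b (Γ.ι w) ∈ V := fun w (hw : b (Γ.ι w) = y) =>
        Set.disjoint_left.1 hdisj ⟨w, rfl⟩ (hfibre.ge hw)
      haveI := isClosedImmersion_comp_of_iso_over (Y := Y) Γ.ι b V hV
      let Γ' : ArSurf.VertComp R (Over.mk (r ≫ p)) :=
        ⟨Γ.curve, Γ.ι ≫ b, inferInstanceAs (IsClosedImmersion (Γ.ι ≫ b)), Γ.isIntegral, Γ.dim_eq, by
          show (Γ.ι ≫ b) ≫ r ≫ p = _
          rw [Category.assoc]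
          exact Γ.w⟩
      refine ih hX hmin rfl Γ' (isExcCurve_comp_of_iso_over (Y := Y) Γ.ι b V hV hΓ) fun ⟨x, hx⟩ => hnot ⟨x, ?_⟩
      refine Eq.trans ?_ hx
      rfl
    obtain ⟨hminZ, e', he'⟩ := fibre_line_of_meet hC hf hH0 h₁ ι hE b hb Γ hΓ hsame hdisj
    haveI := isIso_of_seq hr hX hminZ
    haveI : IsIso (pullback.map (r ≫ p) (Spec.map (CommRingCat.ofHom (algebraMap R (ResidueField R)))) p
        (Spec.map (CommRingCat.ofHom (algebraMap R (ResidueField R)))) r (𝟙 _) (𝟙 _) (Category.comp_id _) (Category.id_comp _).symm) :=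
      pullback.map_isIso _ _ _ _ _ _ _ _ _
    refine ⟨(asIso (pullback.map (r ≫ p) (Spec.map (CommRingCat.ofHom (algebraMap R (ResidueField R)))) p
        (Spec.map (CommRingCat.ofHom (algebraMap R (ResidueField R)))) r (𝟙 _) (𝟙 _) (Category.comp_id _) (Category.id_comp _).symm)).symm ≪≫ e', ?_⟩
    rw [Iso.trans_hom, Category.assoc, he', Iso.symm_hom, asIso_inv, IsIso.inv_comp_eq, pullback.lift_snd]
    rfl

/-- A morphism to a minimal model descends along a contraction unless the closed fibre is a line. -/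
theorem exists_desc_or_line (hC : topologicalKrullDim C = 1) (hf : IsProper f) (hH0 : IsIso f.appTop)
    {X : Scheme.{u}} {p : X ⟶ Spec (CommRingCat.of R)} {gX : C ⟶ X} (hX : IsMData f X p gX)
    (hmin : ∀ Γ : ArSurf.VertComp R (Over.mk p), ¬ Models.IsExcCurve Γ.ι)
    {W Y : Scheme.{u}} {r : W ⟶ Y} (hr : Models.IsContractionSeq r) :
    ∀ {q : Y ⟶ Spec (CommRingCat.of R)} {gY : C ⟶ Y}, IsMData f Y q gY →
      ∀ (gW : C ⟶ W), IsMData f W (r ≫ q) gW → gW ≫ r = gY →
      ∀ (h : W ⟶ X), h ≫ p = r ≫ q → gW ≫ h = gX → (∃ b : Y ⟶ X, b ≫ p = q ∧ gY ≫ b = gX) ∨ (∃ e' : Models.specialFibre R X p ≅ CohB1.ProjSpace 1 (ResidueField R),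
        e'.hom ≫ CohB1.ProjSpace.toSpec 1 (ResidueField R) =
          pullback.snd p (Spec.map (CommRingCat.ofHom (algebraMap R (ResidueField R))))) := by
  induction hr with
  | @iso A B e =>
    intro q gY hY gW hW hg h hh hgh
    exact Or.inl ⟨e.inv ≫ h, by rw [Category.assoc, hh, e.inv_hom_id_assoc],
      by rw [← hg, Category.assoc, e.hom_inv_id_assoc, hgh]⟩
  | @step A B D E ι b r hι hE hb hr ih =>
    intro q gY hY gW hW hg h hh hgh
    haveI := hι
    obtain ⟨gB, hB, hgB⟩ := mdata_seq hr hY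
    have hseq := seq_of_hom hC hf hX hW h hh hgh
    obtain ⟨-, hbp, y, hy, hrange, hyreg, hd, hblow⟩ := id hb
    haveI := hyreg
    haveI := hB.isNoetherian
    haveI := hW.isNoetherian
    let WW : Over (Spec (CommRingCat.of R)) := Over.mk ((b ≫ r) ≫ q)
    have hfib : ∀ e, WW.hom (ι e) = closedPoint R := fun e => by
      show (r ≫ q) (b (ι e)) = _
      rw [show b (ι e) = y from hrange.le ⟨e, rfl⟩]
      exact specialFibre_of_isClosed hB hy
    obtain ⟨F, hF, hFr⟩ := exists_vertComp_of_excCurve (X := WW) ι hE hfib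
    by_cases hcon : ∃ x : X, Set.range (F.ι ≫ h) = {x}
    swap
    · exact Or.inr (fibre_line_of_seq hC hf hH0 hseq hX hmin hh F hF hcon)
    obtain ⟨x, hx⟩ := hcon
    obtain ⟨-, k, _, e, -⟩ := id hE
    have hfibre := GrothLib.ExcP1.range_eq_fibre hy hd hblow ι k e hrange
    obtain ⟨e₀, he₀⟩ : ∃ a, (ι ≫ b) a = y := hrange.ge rfl
    have hφ : ∀ a, b a = y → h a = x := fun a ha => by
      obtain ⟨w, hw⟩ : a ∈ Set.range F.ι := hFr ▸ hfibre.ge ha
      exact hx.le ⟨w, congrArg h hw⟩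
    obtain ⟨ψ, hψ, -⟩ := GrothLib.ExcP1.existsUnique_factor hy hd hblow h x ⟨ι e₀, he₀⟩ hφ
    have huniq := GrothLib.ExcP1.existsUnique_factor hy hd hblow (h ≫ p) (closedPoint R) ⟨ι e₀, he₀⟩ fun a ha => by
      rw [hh]
      show (r ≫ q) (b a) = _
      rw [ha]
      exact specialFibre_of_isClosed hB hy
    have hψp : ψ ≫ p = r ≫ q := huniq.unique (by show b ≫ ψ ≫ p = _; rw [reassoc_of% hψ])
      (by show b ≫ r ≫ q = _; rw [hh, Category.assoc])
    obtain ⟨g₀, h₀, hg₀⟩ := mdata_step hB ι b hb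
    have hgW : gW ≫ b = gB := by
      have hpb := isPullback_of_hom hY hB r rfl hgB
      have h1 := hpb.lift_fst (gW ≫ b) (𝟙 C) (by rw [Category.assoc, hg, Category.id_comp])
      have h2 := hpb.lift_snd (gW ≫ b) (𝟙 C) (by rw [Category.assoc, hg, Category.id_comp])
      rw [Category.comp_id] at h2
      rw [h2, Category.id_comp] at h1
      exact h1.symm
    exact ih hY gB hB hgB ψ hψp (by rw [← hgW, Category.assoc, hψ, hgh])

/-- A model maps to every minimal model whose closed fibre is not a line. -/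
theorem exists_hom_or_line (hC : topologicalKrullDim C = 1) (hf : IsProper f) (hH0 : IsIso f.appTop)
    {X : Scheme.{u}} {p : X ⟶ Spec (CommRingCat.of R)} {gX : C ⟶ X} (hX : IsMData f X p gX)
    (hmin : ∀ Γ : ArSurf.VertComp R (Over.mk p), ¬ Models.IsExcCurve Γ.ι) {q : Z ⟶ Spec (CommRingCat.of R)} {g : C ⟶ Z} (hZ : IsMData f Z q g) :
    (∃ b : Z ⟶ X, b ≫ p = q ∧ g ≫ b = gX) ∨ (∃ e' : Models.specialFibre R X p ≅ CohB1.ProjSpace 1 (ResidueField R),
        e'.hom ≫ CohB1.ProjSpace.toSpec 1 (ResidueField R) =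
          pullback.snd p (Spec.map (CommRingCat.ofHom (algebraMap R (ResidueField R))))) := by
  haveI := hX.proper
  haveI := hZ.isNoetherian; haveI := hZ.isIntegral
  haveI := hZ.isOpenImmersion
  obtain ⟨W, r, h, hr, hh, hag⟩ := exists_seq_extend q p hZ.reg (hZ.dim_eq hC hf).le g.opensRange
    ⟨g (genericPoint C), ⟨_, rfl⟩⟩ (g.isoOpensRange.inv ≫ gX) (by
      rw [Category.assoc, hX.pb.w, ← hZ.pb.w, ← Category.assoc]
      congr 1
      rw [Iso.inv_comp_eq]
      exact g.isoOpensRange_hom_ι.symm)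
  obtain ⟨gW, hW, hgW⟩ := mdata_seq hr hZ
  refine exists_desc_or_line hC hf hH0 hX hmin hr hZ gW hW hgW h hh ?_
  have hr' : Set.range gW ⊆ Set.range (r ⁻¹ᵁ g.opensRange).ι := by
    rw [Scheme.Opens.range_ι]
    rintro _ ⟨c, rfl⟩
    exact ⟨c, congrArg (fun m => m c) hgW.symm⟩
  let l := IsOpenImmersion.lift (r ⁻¹ᵁ g.opensRange).ι gW hr'
  have hl : l ≫ (r ⁻¹ᵁ g.opensRange).ι = gW := IsOpenImmersion.lift_fac _ _ _
  have hl' : l ≫ (r ∣_ g.opensRange) = g.isoOpensRange.hom := by
    rw [← cancel_mono g.opensRange.ι, Category.assoc, morphismRestrict_ι, reassoc_of% hl, hgW]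
    exact g.isoOpensRange_hom_ι.symm
  rw [← hl, Category.assoc, hag, reassoc_of% hl', Iso.hom_inv_id_assoc]


/-- Morphisms between minimal models are isomorphisms; otherwise the closed fibre is a line. -/
theorem exists_iso_or_line (hC : topologicalKrullDim C = 1) (hf : IsProper f) (hH0 : IsIso f.appTop)
    {X Y : Scheme.{u}} {p : X ⟶ Spec (CommRingCat.of R)} {q : Y ⟶ Spec (CommRingCat.of R)} {gX : C ⟶ X} {gY : C ⟶ Y}
    (hX : IsMData f X p gX) (hminX : ∀ Γ : ArSurf.VertComp R (Over.mk p), ¬ Models.IsExcCurve Γ.ι)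
    (hY : IsMData f Y q gY) (hminY : ∀ Γ : ArSurf.VertComp R (Over.mk q), ¬ Models.IsExcCurve Γ.ι) :
    (∃ e : Y ≅ X, e.hom ≫ p = q ∧ gY ≫ e.hom = gX) ∨ (∃ e' : Models.specialFibre R X p ≅ CohB1.ProjSpace 1 (ResidueField R),
        e'.hom ≫ CohB1.ProjSpace.toSpec 1 (ResidueField R) =
          pullback.snd p (Spec.map (CommRingCat.ofHom (algebraMap R (ResidueField R))))) := by
  refine (exists_hom_or_line hC hf hH0 hX hminX hY).imp (fun ⟨b, hb, hgb⟩ => ?_) id
  have hseq := seq_of_hom hC hf hX hY b hb hgb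
  haveI := isIso_of_seq hseq hX (by rw [hb]; exact hminY)
  exact ⟨asIso b, hb, hgb⟩

end GrothLib.Contract29
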