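import Groth.Agent.Lib.ArSurf29.Horizontal
import Groth.Agent.Lib.ArSurf29.FibreComponents
import Groth.Agent.Lib.ArSurf29.MinimalEngine
import Groth.Agent.Lib.AmpSpread10.Local
import Groth.Agent.Lib.Euler.AmpleComponents

/-!
# A regular proper surface over a discrete valuation ring carries an ample module
-/

universe u

set_option autoImplicit false
set_option linter.all false
set_option backward.isDefEq.respectTransparency false

open CategoryTheory CategoryTheory.Limits AlgebraicGeometry TopologicalSpace IsLocalRing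
open GrothLib.CartierDescent (stalkIdeal stalkIdeal_eq_top_iff)

noncomputable section

namespace GrothLib.Contract29

variable {R : Type u} [CommRing R] [IsDomain R] [IsDiscreteValuationRing R]
  {X : Over (Spec (CommRingCat.of R))} {n : ℕ} {Γ : Fin n → ArSurf.VertComp R X}
  [Flat X.hom] [IsProper X.hom] [IsLocallyNoetherian X.left]

open GrothLib.ArSurf29 in
/-- A closed point of a component on no other component. -/
theorem exists_point_avoiding (hΓ : Models.IsComponentList R X Γ) (i : Fin n) :
    ∃ z : (Γ i).curve.left, z ≠ genericPoint (Γ i).curve.left ∧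
      ∀ j, j ≠ i → (Γ i).ι z ∉ Set.range ((Γ j).ι.base : (Γ j).curve.left → X.left) := by
  haveI := (Γ i).isIntegral
  haveI := isProper_curve (Γ i)
  let W := (Γ i).curve.left
  haveI := Euler.isNoetherian_of_proper (X := W) (ResidueField R)
  haveI : JacobsonSpace W := LocallyOfFiniteType.jacobsonSpace (W ↘ Spec (CommRingCat.of (ResidueField R)))
  let bad : Set X.left := ⋃ j ∈ {j | j ≠ i}, Set.range ((Γ j).ι.base : (Γ j).curve.left → X.left)
  have hbad : IsClosed bad := (Set.toFinite _).isClosed_biUnion fun j _ => by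
    haveI := (Γ j).isClosedImmersion
    exact (Γ j).ι.isClosedEmbedding.isClosed_range
  obtain ⟨z, hzb, hzc⟩ := nonempty_inter_closedPoints (Z := ((Γ i).ι.base ⁻¹' bad)ᶜ)
    ⟨genericPoint W, fun h => by
      simp only [Set.mem_preimage, bad, Set.mem_iUnion] at h
      obtain ⟨j, hj, h⟩ := h
      exact notMem_range_of_ne hΓ hj h⟩
    (hbad.preimage (Γ i).ι.base.hom.continuous).isOpen_compl.isLocallyClosed
  exact ⟨z, fun h => CurvePoints.genericPoint_not_isClosed (Γ i).dim_eq (h ▸ hzc),
    fun j hj h => hzb (Set.mem_biUnion (show j ∈ {j | j ≠ i} from hj) h)⟩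

open GrothLib.ArSurf29 in
/-- A horizontal prime divisor through a given point of a component. -/
theorem exists_horizontal (hX : Models.IsRegularScheme X.left) (hΓ : Models.IsComponentList R X Γ) (i : Fin n) :
    ∃ D : X.left.IdealSheafData, _root_.BlowUp.IsEffCartierIdeal D ∧
      (∀ j, Models.genPtOf R X (Γ j) ∉ D.support) ∧
      ¬ Disjoint (Set.range ((Γ i).ι.base : (Γ i).curve.left → X.left)) (D.support : Set X.left) := by
  haveI := (Γ i).isClosedImmersion
  haveI := (Γ i).isIntegral
  obtain ⟨z, hz, havoid⟩ := exists_point_avoiding hΓ i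
  let x := (Γ i).ι z
  let ξ := Models.genPtOf R X (Γ i)
  haveI := hX x
  haveI := CMFree.isDomain_of_isRegularLocalRing (X.left.presheaf.stalk x)
  have hgen : ξ ⤳ x := (genericPoint_specializes z).map (Γ i).ι.base.hom.continuous
  have hξx : ξ ≠ x := fun e => hz ((Γ i).ι.isClosedEmbedding.injective e).symm
  let Q := (maximalIdeal (X.left.presheaf.stalk ξ)).comap (X.left.presheaf.stalkSpecializes hgen).hom
  obtain ⟨g, hgm, hgQ⟩ : ∃ g ∈ maximalIdeal (X.left.presheaf.stalk x), g ∉ Q := by
    by_contra h
    push Not at h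
    have hQm : Q = maximalIdeal (X.left.presheaf.stalk x) :=
      le_antisymm (le_maximalIdeal (Ideal.IsPrime.ne_top inferInstance)) h
    have h1 := coheight_add_one_le_of_specializes hgen hξx
    have h2 := ringKrullDim_stalk_eq_height_of_specializes hgen
    change _ = ((Q.height : ℕ∞) : WithBot ℕ∞) at h2
    rw [hQm, maximalIdeal_height_eq_ringKrullDim, ringKrullDim_stalk_eq_coheight,
      ringKrullDim_stalk_eq_coheight] at h2
    have h2' : Order.coheight ξ = Order.coheight x := by exact_mod_cast h2
    have h5 : ringKrullDim (X.left.presheaf.stalk ξ) = 1 := dim_genPt (isMaxComp hΓ i)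
    rw [ringKrullDim_stalk_eq_coheight] at h5
    have h5' : Order.coheight ξ = 1 := by exact_mod_cast h5
    rw [← h2', h5'] at h1
    exact absurd h1 (by decide)
  have hg0 : g ≠ 0 := fun h => hgQ (h ▸ Q.zero_mem)
  obtain ⟨P, hP, -⟩ := Ideal.exists_minimalPrimes_le ((Ideal.span_singleton_le_iff_mem _).2 hgm)
  haveI := hP.1.1
  have hgP : g ∈ P := hP.1.2 (Ideal.mem_span_singleton_self g)
  have hne0 : P.height ≠ 0 := fun h0 =>
    Set.disjoint_left.1 (Ideal.disjoint_nonZeroDivisors_of_mem_minimalPrimes (Ideal.height_eq_zero_iff.1 h0))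
      hgP (mem_nonZeroDivisors_of_ne_zero hg0)
  have hle1 : P.height ≤ 1 := Ideal.height_le_one_of_isPrincipal_of_mem_minimalPrimes _ _ hP
  obtain ⟨x', hx', hPx', -⟩ := CartierDescent.exists_specializes_eq x P
  have hdim : ringKrullDim (X.left.presheaf.stalk x') = 1 := by
    rw [ringKrullDim_stalk_eq_height_of_specializes hx', ← hPx']
    exact_mod_cast le_antisymm hle1 (ENat.one_le_iff_ne_zero.2 hne0)
  have hx'F : x' ∉ Models.specialFibreSet R X := fun hF => by
    obtain ⟨j, rfl⟩ := exists_eq_genPt hΓ hX hdim hF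
    by_cases hj : j = i
    · subst hj
      exact hgQ (show g ∈ Q from (hPx' ▸ hgP :))
    · exact havoid j hj ((mem_range_iff _).2 hx')
  have hc1 : Order.coheight x' = 1 := by
    rw [ringKrullDim_stalk_eq_coheight] at hdim
    exact_mod_cast hdim
  refine ⟨ptIdeal x', ?_, fun j hj => ?_, ?_⟩
  · intro y
    haveI := hX y
    haveI := CMFree.isDomain_of_isRegularLocalRing (X.left.presheaf.stalk y)
    haveI : UniqueFactorizationMonoid (X.left.presheaf.stalk y) := RegUFD.ufd_of_isRegularLocalRing _
    obtain ⟨U, hyU, hU⟩ := GrothLib.BlowUp.exists_cartierOn_of_ufd (ptIdeal x') (fun w hw => by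
      rw [WeakAss.isWeakAssPoint_structure_iff] at hw
      haveI : IsIntegral (ptIdeal x').subscheme :=
        Euler.isIntegral_vanishingIdeal (⟨closure {x'}, isClosed_closure⟩ : Closeds X.left) isIrreducible_singleton.closure
      obtain rfl : genericPoint (ptIdeal x').subscheme = w := hw _ (genericPoint_specializes w)
      rw [show (ptIdeal x').subschemeι (genericPoint (ptIdeal x').subscheme) = x' from gpt_ptIdeal x']
      exact hdim) y
    exact ⟨U, hyU, hU⟩
  · have hsp : x' ⤳ Models.genPtOf R X (Γ j) :=
      specializes_iff_mem_closure.2 ((support_ptIdeal x').le hj)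
    have hne : x' ≠ Models.genPtOf R X (Γ j) := fun e => hx'F (e ▸ genPt_mem_fibre (Γ j))
    have h2 := coheight_add_one_le_of_specializes hsp hne
    have h5 : Order.coheight (Models.genPtOf R X (Γ j)) = 1 := by
      have h5 := dim_genPt (isMaxComp hΓ j)
      rw [ringKrullDim_stalk_eq_coheight] at h5
      exact_mod_cast h5
    rw [hc1, h5] at h2
    exact absurd h2 (by decide)
  · exact Set.not_disjoint_iff.2 ⟨x, ⟨z, rfl⟩, (support_ptIdeal x').ge (specializes_iff_mem_closure.1 hx')⟩

open GrothLib.ArSurf29 in
/-- An invertible module of positive degree on every vertical curve. -/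
theorem exists_inter_pos (hX : Models.IsRegularScheme X.left) (hΓ : Models.IsComponentList R X Γ) :
    ∃ M : X.left.Modules, PicF.IsInvertible M ∧ ∀ Γ' : ArSurf.VertComp R X, 0 < ArSurf.inter R X M Γ' := by
  classical
  choose D hD hgen hmeet using exists_horizontal hX hΓ
  have hI := fun i => IdealModSec.isInvertible_of_isEffCartier (hD i)
  let P : Fin n → Cube.Pic X.left := fun i => (Cube.clsMod (hI i))⁻¹
  refine ⟨HodgeIndex.rep (∏ i, P i), HodgeIndex.isInv_rep _, fun Γ' => ?_⟩
  obtain ⟨j₀, hj₀⟩ := exists_genPt_eq hΓ Γ'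
  rw [inter_eq_icl Γ' (HodgeIndex.isInv_rep _), HodgeIndex.cls_rep, icl_prod]
  have hinv : ∀ i, ClSub.IsInverseOf (HodgeIndex.rep (P i)) (ClSub.idealMod (D i)) := fun i =>
    (Cube.clsMod_eq_one_iff (Ample.isInvertible_tensorMod (HodgeIndex.isInv_rep _) (hI i))).1 (by
      rw [Cube.clsMod_tensorMod (HodgeIndex.isInv_rep _) (hI i), HodgeIndex.cls_rep, inv_mul_cancel])
  have hg : ∀ i, Models.genPtOf R X Γ' ∉ (D i).support := fun i => hj₀ ▸ hgen i j₀
  refine Finset.sum_pos' (fun i _ => inter_nonneg Γ' (hD i) (hg i) (hinv i)) ⟨j₀, Finset.mem_univ _, ?_⟩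
  refine lt_of_le_of_ne (inter_nonneg Γ' (hD j₀) (hg j₀) (hinv j₀)) fun h => hmeet j₀ ?_
  have := (inter_eq_zero_iff Γ' (hD j₀) (hg j₀) (hinv j₀)).1 h.symm
  rwa [range_vertComp_eq (Γ j₀) Γ' hj₀]

end GrothLib.Contract29

namespace GrothLib.Contract29

variable {R : Type u} [CommRing R] [IsDomain R] [IsDiscreteValuationRing R]
  {X : Over (Spec (CommRingCat.of R))} [Flat X.hom] [IsProper X.hom] [IsIntegral X.left]

/-- A regular proper flat integral surface over a discrete valuation ring carries an ample module. -/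
theorem exists_isAmple_of_proper (hX : Models.IsRegularScheme X.left) (hdim : topologicalKrullDim X.left = 2) :
    ∃ L : X.left.Modules, CohB1.IsAmple L := by
  haveI : IsLocallyNoetherian X.left := LocallyOfFiniteType.isLocallyNoetherian X.hom
  haveI : CompactSpace X.left := QuasiCompact.compactSpace_of_compactSpace X.hom
  obtain ⟨n, Γ, hΓ⟩ := ArSurf29.exists_componentList (X := X) hdim
  obtain ⟨M, hM, hpos⟩ := exists_inter_pos hX hΓ
  refine ⟨M, ?_⟩
  let res := Spec.map (CommRingCat.ofHom (residue R))
  let Z := pullback X.hom res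
  let q : Z ⟶ Spec (CommRingCat.of (ResidueField R)) := pullback.snd X.hom res
  let j : Z ⟶ X.left := pullback.fst X.hom res
  haveI : IsClosedImmersion res := IsClosedImmersion.spec_of_surjective _ IsLocalRing.residue_surjective
  haveI : IsClosedImmersion j := MorphismProperty.pullback_fst (P := @IsClosedImmersion) X.hom res inferInstance
  refine AmpSpread10.isAmple_of_closedFibre X.hom hM (j := j) (q := q) (IsPullback.of_hasPullback X.hom res) ?_
  letI : Z.Over (Spec (CommRingCat.of (ResidueField R))) := ⟨q⟩
  haveI : IsProper (Z ↘ Spec (CommRingCat.of (ResidueField R))) := inferInstanceAs (IsProper q)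
  haveI := Euler.isNoetherian_of_proper (X := Z) (ResidueField R)
  have hMZ := Ample.isInvertible_pullback j hM
  have hfib : ∀ z, X.hom (j z) = closedPoint R := fun z => by
    rw [← Scheme.Hom.comp_apply, pullback.condition, Scheme.Hom.comp_apply,
      Subsingleton.elim (q z) (closedPoint (ResidueField R))]
    exact IsLocalRing.comap_closedPoint (residue R)
  have hd : topologicalKrullDim Z ≤ 1 := by
    refine (IsHomeomorph.topologicalKrullDim_eq _ (Homeomorph.Set.univ Z).isHomeomorph).ge.trans ?_
    refine Snapper.dim_le_of_dimLT isClosed_univ (d := 1) fun l _ => ?_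
    by_contra hl
    push Not at hl
    let a := l ⟨l.length, by omega⟩
    let b := l ⟨l.length - 1, by omega⟩
    let d := l ⟨l.length - 2, by omega⟩
    have hba : b < a := l.strictMono (Fin.mk_lt_mk.2 (by omega))
    have hdb : d < b := l.strictMono (Fin.mk_lt_mk.2 (by omega))
    exact ArSurf29.no_chain_four hdim.le (a := genericPoint X.left) (b := j a) (c := j b) (d := j d)
      (genericPoint_specializes _) ((show a ⤳ b from hba.le).map j.continuous)
      ((show b ⤳ d from hdb.le).map j.continuous)
      (fun h => ArSurf29.genericPoint_notMem_fibre' (h ▸ hfib a))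
      (fun h => hba.ne' (j.isClosedEmbedding.injective h)) (fun h => hdb.ne' (j.isClosedEmbedding.injective h))
  refine (Euler.isAmple_iff_deg_pos_components (ResidueField R) hd hMZ).2 fun C hC hC1 => ?_
  rw [show (Z.irreducibleComponentIdeal C hC).radical =
      Scheme.IdealSheafData.vanishingIdeal ⟨C, isClosed_of_mem_irreducibleComponents C hC⟩ from by
    rw [← Scheme.IdealSheafData.vanishingIdeal_support]; rfl]
  let T : Closeds Z := ⟨C, isClosed_of_mem_irreducibleComponents C hC⟩
  let i := (Scheme.IdealSheafData.vanishingIdeal T).subschemeι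
  haveI := Euler.isIntegral_vanishingIdeal T hC.1
  have hrange : Set.range i = C := by
    rw [Scheme.IdealSheafData.range_subschemeι, Scheme.IdealSheafData.coe_support_vanishingIdeal]; rfl
  let Γ' : ArSurf.VertComp R X :=
    ⟨Over.mk (i ≫ q), i ≫ j, inferInstanceAs (IsClosedImmersion (i ≫ j)), Euler.isIntegral_vanishingIdeal T hC.1, (Euler.homeomorph_range_dim i hrange).trans hC1, by
      rw [Category.assoc, pullback.condition]; rfl⟩
  have h := hpos Γ'
  rw [ArSurf29.inter_eq_deg Γ' hM] at h
  letI : (Scheme.IdealSheafData.vanishingIdeal T).subscheme.Over (Spec (CommRingCat.of (ResidueField R))) := ⟨i ≫ q⟩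
  exact lt_of_lt_of_eq h (Euler.deg_of_iso (ResidueField R) ((Scheme.Modules.pullbackComp i j).app M).symm 1)

end GrothLib.Contract29
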