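import Groth.Agent.Lib.Contract29.ArSurf
import Groth.Agent.Lib.ArSurf29.MinimalEngine
import Groth.Agent.Lib.ArSurf29.Spread
import Groth.Agent.Lib.ArSurf29.GlobalFun
import Groth.Agent.Lib.ArSurf29.FactorBlowUp

/-!
# Relatively minimal arithmetic surfaces and localization of the base
-/

universe u

set_option linter.all false
set_option backward.isDefEq.respectTransparency false

open CategoryTheory CategoryTheory.Limits AlgebraicGeometry Opposite TopologicalSpace IsLocalRing
open GrothLib.CartierDescent (stalkIdeal stalkIdeal_comap)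

noncomputable section

namespace GrothLib.Contract29

/-- Exceptional curves pass to the target of a flat monomorphism with the same local rings. -/
theorem isExcCurve_comp_preimmersion {E Z X : Scheme.{u}} [IsLocallyNoetherian X] [IsIntegral X]
    (j : E ⟶ Z) [IsClosedImmersion j] (a : Z ⟶ X) [IsPreimmersion a] [Flat a] [IsIntegral Z] [IsLocallyNoetherian Z]
    [IsClosedImmersion (j ≫ a)] (h : Models.IsExcCurve j) : Models.IsExcCurve (j ≫ a) := by
  have hker : j.ker = (j ≫ a).ker.comap a := AlgSp.ker_comap_of_flat (ArSurf29.isPullback_comp_mono j a)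
  obtain ⟨hE, k, _, e, ⟨t⟩⟩ := h
  have hcart : _root_.BlowUp.IsEffCartierIdeal (j ≫ a).ker := by
    refine ArSurf29.isEffCartierIdeal_of_stalks _ fun x => ?_
    by_cases hx : x ∈ Set.range (j ≫ a)
    · obtain ⟨w, rfl⟩ := hx
      obtain ⟨γ, hγ0, hγ⟩ := CartierDescent.exists_stalk_generator hE (j w)
      rw [hker, stalkIdeal_comap] at hγ
      haveI := ArSurf29.isIso_stalkMap_of_flat_preimmersion a (j w)
      let ε := (asIso (a.stalkMap (j w))).commRingCatIsoToRingEquiv
      refine ⟨ε.symm γ, fun h0 => nonZeroDivisors.ne_zero hγ0 (by simpa using congrArg ε h0), ?_⟩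
      rw [show stalkIdeal (j ≫ a).ker ((j ≫ a) w) =
          ((stalkIdeal (j ≫ a).ker (a (j w))).map (a.stalkMap (j w)).hom).map ε.symm.toRingHom from by
        rw [Ideal.map_map, show ε.symm.toRingHom.comp (a.stalkMap (j w)).hom = RingHom.id _ from
          RingHom.ext fun z => ε.symm_apply_apply z, Ideal.map_id]
        rfl, hγ, Ideal.map_span, Set.image_singleton]
      rfl
    · refine ⟨1, one_ne_zero, ?_⟩
      rw [Ideal.span_singleton_one, CartierDescent.stalkIdeal_eq_top_iff]
      intro h
      have h' : x ∈ closure (Set.range (j ≫ a)) := (Scheme.Hom.support_ker (j ≫ a)).le h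
      rw [(j ≫ a).isClosedEmbedding.isClosed_range.closure_eq] at h'
      exact hx h'
  obtain ⟨p⟩ := HodgeIndex.nonempty_pullback_idealMod (j ≫ a) j (𝟙 E) a (by simp) hker
    (IdealModSec.isInvertible_of_isEffCartier hcart) (IdealModSec.isInvertible_of_isEffCartier hE)
  refine ⟨hcart, k, inferInstance, e, ⟨?_⟩⟩
  exact eqToIso (by rw [← Category.assoc]) ≪≫ ((Scheme.Modules.pullbackComp (e.hom ≫ j) a).app _).symm ≪≫
    (Scheme.Modules.pullback (e.hom ≫ j)).mapIso p ≪≫ t

section Localize

variable {R : Type u} [CommRing R] [IsDedekindDomain R]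

/-- The base change of a scheme over `R` to a localization of `R` at a nonzero prime. -/
abbrev locMap (p : Ideal R) [p.IsPrime] :
    Spec (CommRingCat.of (Localization.AtPrime p)) ⟶ Spec (CommRingCat.of R) :=
  Spec.map (CommRingCat.ofHom (algebraMap R (Localization.AtPrime p)))

instance (p : Ideal R) [p.IsPrime] : IsPreimmersion (locMap p) := IsPreimmersion.of_isLocalization p.primeCompl

instance (p : Ideal R) [p.IsPrime] : Flat (locMap p) := Flat.SpecMap_iff.2
  (RingHom.flat_algebraMap_iff.2 (IsLocalization.flat _ p.primeCompl))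

theorem isMaximal_of_prime_ne_bot {p : Ideal R} [p.IsPrime] (hp : p ≠ ⊥) : p.IsMaximal :=
  ‹p.IsPrime›.isMaximal hp

variable {X : Over (Spec (CommRingCat.of R))} (p : Ideal R) [p.IsPrime]
  [IsDiscreteValuationRing (Localization.AtPrime p)]

theorem not_isExcCurve_localization (hp : p ≠ ⊥) (hX : ArSurf.IsArithSurface R X)
    (m : Neron.IsRelMinimalRegularModel R X)
    [IsIntegral (pullback X.hom (locMap p))]
    (Γ : ArSurf.VertComp (Localization.AtPrime p) (Over.mk (pullback.snd X.hom (locMap p)))) :
    ¬ Models.IsExcCurve Γ.ι := by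
  intro hE
  haveI := hX.2.1
  obtain ⟨n, i, hi, hw⟩ := hX.2.2.2.2
  haveI := hi
  haveI := Chow.isProper_toBase n (Spec (CommRingCat.of R))
  haveI : IsProper X.hom := hw ▸ inferInstance
  haveI : IsLocallyNoetherian X.left := LocallyOfFiniteType.isLocallyNoetherian X.hom
  haveI : IsLocallyNoetherian (pullback X.hom (locMap p)) :=
    LocallyOfFiniteType.isLocallyNoetherian (pullback.snd X.hom (locMap p))
  haveI : IsClosedImmersion (Y := pullback X.hom (locMap p)) Γ.ι := Γ.isClosedImmersion
  haveI := Γ.isIntegral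
  let R' := Localization.AtPrime p
  haveI : p.IsMaximal := isMaximal_of_prime_ne_bot hp
  have hfac : (Γ.ι ≫ pullback.fst X.hom (locMap p)) ≫ X.hom =
      Γ.curve.hom ≫ Spec.map (CommRingCat.ofHom (algebraMap R (ResidueField R'))) := by
    rw [Category.assoc, pullback.condition, ← Category.assoc,
      show Γ.ι ≫ pullback.snd X.hom (locMap p) = _ from Γ.w, Category.assoc, ← Spec.map_comp,
      ← CommRingCat.ofHom_comp]
    rfl
  haveI : IsClosedImmersion (Spec.map (CommRingCat.ofHom (algebraMap R (ResidueField R')))) := by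
    refine IsClosedImmersion.spec_of_surjective _ fun a => ?_
    obtain ⟨b, rfl⟩ := IsLocalRing.residue_surjective a
    obtain ⟨q, hq⟩ := (IsLocalization.AtPrime.equivQuotMaximalIdeal p R').surjective (Ideal.Quotient.mk _ b)
    obtain ⟨c, rfl⟩ := Ideal.Quotient.mk_surjective q
    exact ⟨c, hq⟩
  haveI : IsProper (Over.mk (pullback.snd X.hom (locMap p))).hom :=
    inferInstanceAs (IsProper (pullback.snd X.hom (locMap p)))
  haveI : IsProper Γ.curve.hom := ArSurf29.isProper_curve (X := Over.mk (pullback.snd X.hom (locMap p))) Γ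
  haveI : IsProper ((Γ.ι ≫ pullback.fst X.hom (locMap p)) ≫ X.hom) := by rw [hfac]; infer_instance
  haveI : IsProper (Γ.ι ≫ pullback.fst X.hom (locMap p)) := IsProper.of_comp _ X.hom
  haveI : IsClosedImmersion (Γ.ι ≫ pullback.fst X.hom (locMap p)) :=
    IsClosedImmersion.of_isPreimmersion _ (Scheme.Hom.isClosedMap _).isClosed_range
  have h' := isExcCurve_comp_preimmersion (Z := pullback X.hom (locMap p)) Γ.ι (pullback.fst X.hom (locMap p)) hE
  refine not_isExcCurve_of_relMinimal hX m (p := (⟨p, inferInstance⟩ : PrimeSpectrum R)) _ hp (fun a => ?_) h'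
  rw [← Scheme.Hom.comp_apply, hfac, Scheme.Hom.comp_apply]
  refine PrimeSpectrum.ext ?_
  rw [Subsingleton.elim (Γ.curve.hom a) (closedPoint (ResidueField R'))]
  show (maximalIdeal (ResidueField R')).comap ((residue R').comp (algebraMap R R')) = p
  rw [← Ideal.comap_comap, show (maximalIdeal (ResidueField R')).comap (residue R') = maximalIdeal R' from
    IsLocalRing.maximalIdeal_comap (residue R')]
  exact IsLocalization.AtPrime.comap_maximalIdeal R' p

end Localize

end GrothLib.Contract29
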