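import Groth.Agent.Lib.Contract29.Generators
import Groth.Agent.Lib.BlowUp.Affine
import Groth.Agent.Lib.DivPart.Basic
import Groth.Agent.Lib.CartierDescent.Normal
import Groth.Agent.Lib.Euler.Coh

/-!
# Ideals of the base on a scheme over it
-/

universe u

set_option linter.all false
set_option backward.isDefEq.respectTransparency false

open CategoryTheory CategoryTheory.Limits AlgebraicGeometry Opposite TopologicalSpace
open GrothLib.InvExt (fres)
open GrothLib.RatSing29 (gOn)
open GrothLib.CartierDescent (stalkIdeal stalkIdeal_eq stalkIdeal_eq_top_iff stalkIdeal_comap)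

noncomputable section

namespace GrothLib.Contract29

variable {A : Type u} [CommRing A] {X : Scheme.{u}} [X.Over (Spec (CommRingCat.of A))]

/-- The extension of an ideal of the base. -/
def ext (X : Scheme.{u}) [X.Over (Spec (CommRingCat.of A))] (L : Ideal A) : X.IdealSheafData :=
  (GrothLib.BlowUp.idealSheaf L).comap (X ↘ Spec (CommRingCat.of A))

theorem ideal_ext (L : Ideal A) (U : X.affineOpens) :
    (ext X L).ideal U = Ideal.span ((fun r => gOn X r U.1) '' (L : Set A)) := by
  refine (GrothLib.BlowUp.ideal_comap_eq_map _ _ ⟨⊤, isAffineOpen_top _⟩ U (fun _ _ => trivial)).trans ?_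
  rw [GrothLib.BlowUp.ideal_idealSheaf_top, Ideal.map_map]
  rfl

theorem ext_span (S : Set A) (U : X.affineOpens) :
    (ext X (Ideal.span S)).ideal U = Ideal.span ((fun r => gOn X r U.1) '' S) := by
  rw [ideal_ext]
  exact Ideal.map_span (gHom X U.1) S

theorem ext_mono {L L' : Ideal A} (h : L ≤ L') : ext X L ≤ ext X L' := fun U => by
  show (ext X L).ideal U ≤ (ext X L').ideal U
  rw [ideal_ext, ideal_ext]
  exact Ideal.span_mono (Set.image_mono h)

theorem mem_support_ext (L : Ideal A) (x : X) :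
    x ∈ (ext X L).support ↔ L ≤ ((X ↘ Spec (CommRingCat.of A)) x).asIdeal := by
  rw [ext, Scheme.IdealSheafData.support_comap]
  show (X ↘ Spec (CommRingCat.of A)) x ∈ (GrothLib.BlowUp.idealSheaf L).support ↔ _
  rw [GrothLib.BlowUp.idealSheaf, ← SetLike.mem_coe, Scheme.IdealSheafData.coe_support_ofIdealTop]
  simp only [Scheme.mem_zeroLocus_iff, SetLike.mem_coe]
  constructor
  · intro h r hr
    by_contra hn
    refine h _ (Ideal.mem_map_of_mem _ hr) ?_
    rw [basicOpen_eq_of_affine]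
    exact hn
  · intro h z hz hmem
    obtain ⟨r, hr, rfl⟩ : ∃ r ∈ L, (Scheme.ΓSpecIso (CommRingCat.of A)).inv r = z :=
      (Ideal.mem_map_iff_of_surjective _ (ConcreteCategory.bijective_of_isIso (Scheme.ΓSpecIso (CommRingCat.of A)).inv).2).1 hz
    rw [basicOpen_eq_of_affine] at hmem
    exact hmem (h hr)

variable {E : Scheme.{u}} (j : E ⟶ X) [IsClosedImmersion j] (J : Ideal A)
  (hfib : Set.range j = {x | J ≤ ((X ↘ Spec (CommRingCat.of A)) x).asIdeal})
include hfib

theorem exists_pow_le [IsNoetherianRing A] [IsProper (X ↘ Spec (CommRingCat.of A))] :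
    ∃ N, ∀ U : X.affineOpens, j.ker.ideal U ^ N ≤ Ideal.span ((fun r => gOn X r U.1) '' (J : Set A)) := by
  haveI : IsNoetherianRing (CommRingCat.of A) := ‹IsNoetherianRing A›
  haveI := LocallyOfFiniteType.isLocallyNoetherian (X ↘ Spec (CommRingCat.of A))
  haveI : CompactSpace X := (quasiCompact_iff_compactSpace (X ↘ Spec (CommRingCat.of A))).1 inferInstance
  have hle : j.ker ≤ (ext X J).radical := by
    rw [← Scheme.IdealSheafData.vanishingIdeal_support]
    refine Scheme.IdealSheafData.le_support_iff_le_vanishingIdeal.1 fun x hx => ?_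
    refine (Scheme.Hom.support_ker j).ge ?_
    rw [j.isClosedEmbedding.isClosed_range.closure_eq, hfib]
    exact (mem_support_ext J x).1 hx
  obtain ⟨T, hT⟩ := isCompact_univ.elim_finite_subcover (fun U : X.affineOpens => (U.1 : Set X))
    (fun U => U.1.2) (fun x _ => by
      obtain ⟨U, hx, -⟩ := GrothLib.BlowUp.exists_affine_mem_le (W := (⊤ : X.Opens)) (x := x) trivial
      exact Set.mem_iUnion.2 ⟨U, hx⟩)
  have h1 : ∀ U : X.affineOpens, ∃ N, j.ker.ideal U ^ N ≤ (ext X J).ideal U := fun U => by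
    haveI : IsNoetherianRing Γ(X, U.1) := IsLocallyNoetherian.component_noetherian U
    refine Ideal.exists_pow_le_of_le_radical_of_fg ((hle U).trans (le_of_eq ?_)) (IsNoetherian.noetherian _)
    simp
  choose N hN using h1
  refine ⟨T.sup N, fun U => ?_⟩
  have h2 : j.ker ^ T.sup N ≤ ext X J := by
    refine Scheme.IdealSheafData.le_of_iSup_eq_top (fun U : T => U.1) (top_unique fun x _ => ?_) fun U => ?_
    · obtain ⟨U, hU, hxU⟩ := Set.mem_iUnion₂.1 (hT (Set.mem_univ x))
      exact Opens.mem_iSup.2 ⟨⟨U, hU⟩, hxU⟩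
    · rw [RatSing29.ideal_pow_eq]
      exact (Ideal.pow_le_pow_right (Finset.le_sup U.2)).trans (hN U.1)
  have h3 := h2 U
  rwa [RatSing29.ideal_pow_eq, ideal_ext] at h3

variable [J.IsMaximal] [Nonempty E] [IsReduced E]

theorem mem_iff (r : A) : r ∈ J ↔ j.app ⊤ (gOn X r ⊤) = 0 := by
  have hzero : ∀ r ∈ J, j.app ⊤ (gOn X r ⊤) = 0 := fun r hr => by
    rw [← basicOpen_eq_bot_iff, ← Scheme.preimage_basicOpen, eq_bot_iff]
    intro p hp
    have hJ : J ≤ ((X ↘ Spec (CommRingCat.of A)) (j p)).asIdeal := hfib.le ⟨p, rfl⟩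
    rw [gOn_top] at hp
    have hp' : j p ∈ (X ↘ Spec (CommRingCat.of A)) ⁻¹ᵁ
        (Spec (CommRingCat.of A)).basicOpen ((Scheme.ΓSpecIso (CommRingCat.of A)).inv r) := by
      rw [Scheme.preimage_basicOpen]; exact hp
    rw [basicOpen_eq_of_affine] at hp'
    exact hp' (hJ hr)
  refine ⟨hzero r, fun h => ?_⟩
  by_contra hr
  obtain ⟨c, z, hz, e⟩ := ‹J.IsMaximal›.exists_inv hr
  have e1 : j.app ⊤ (gHom X ⊤ (c * r + z)) = j.app ⊤ (gHom X ⊤ (1 : A)) := by rw [e]
  simp only [map_add, map_mul, map_one, gHom_apply] at e1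
  rw [h, hzero z hz, mul_zero, add_zero] at e1
  haveI : Nonempty (⊤ : E.Opens) := ⟨⟨Classical.arbitrary E, trivial⟩⟩
  exact zero_ne_one (α := Γ(E, ⊤)) e1

theorem ext_le_ker : ext X J ≤ j.ker := fun U => by
  show (ext X J).ideal U ≤ j.ker.ideal U
  rw [ideal_ext, Ideal.span_le]
  rintro _ ⟨r, hr, rfl⟩
  rw [SetLike.mem_coe, Scheme.Hom.ker_apply, RingHom.mem_ker]
  have h := (mem_iff j J hfib r).1 hr
  have e := congr($(j.naturality (homOfLE (le_top : U.1 ≤ ⊤)).op) (gOn X r ⊤))
  simp only [CommRingCat.comp_apply, h, map_zero] at e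
  show j.app U.1 (gOn X r U.1) = 0
  rw [← fres_gOn r (le_top : U.1 ≤ ⊤)]
  exact e

/-- The divisor is cut out by `J` once two elements of `J` generate it along itself. -/
theorem ext_eq_ker {ι : Type*} (s : ι → A) (hs : ∀ i, s i ∈ J) (hgen : ∀ p, ∃ i, GenAt j (s i) p) :
    ext X J = j.ker := by
  refine le_antisymm (ext_le_ker j J hfib) (DivPart.le_of_stalkIdeal fun x => ?_)
  by_cases hx : x ∈ Set.range j
  · obtain ⟨p, rfl⟩ := hx
    obtain ⟨i, U, hpU, hU⟩ := hgen p
    rw [stalkIdeal_eq _ U hpU, stalkIdeal_eq _ U hpU, hU, ideal_ext]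
    exact Ideal.map_mono (Ideal.span_mono (Set.singleton_subset_iff.2 ⟨s i, hs i, rfl⟩))
  · rw [(stalkIdeal_eq_top_iff (ext X J) x).2 fun h => hx (hfib.ge ((mem_support_ext J x).1 h))]
    exact le_top

end GrothLib.Contract29
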