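import Groth.Agent.Lib.Contract29.Finite
import Groth.Agent.Lib.BlowUpProper.Basic
import Groth.Agent.Lib.ArSurf29.FactorBlowUpIso
import Groth.Agent.Lib.ArSurf29.Horizontal
import Mathlib.RingTheory.Algebraic.Integral

/-!
# A contraction is the blow-up of the point
-/

universe u

set_option linter.all false
set_option backward.isDefEq.respectTransparency false

open CategoryTheory CategoryTheory.Limits AlgebraicGeometry Opposite TopologicalSpace
open GrothLib.CartierDescent (stalkIdeal stalkIdeal_eq stalkIdeal_eq_top_iff)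

noncomputable section

namespace GrothLib.Contract29

theorem mem_nonZeroDivisors_germ {X : Scheme.{u}} {I : X.IdealSheafData} (hI : _root_.BlowUp.IsEffCartierIdeal I)
    (U : X.affineOpens) (s : Γ(X, U.1)) (hs : I.ideal U = Ideal.span {s}) (x : X) (hx : x ∈ U.1) :
    X.presheaf.germ U.1 x hx s ∈ nonZeroDivisors (X.presheaf.stalk x) := by
  obtain ⟨V, hV, t, ht, htI⟩ := hI x
  letI : Algebra Γ(X, V.1) (X.presheaf.stalk x) := X.presheaf.algebra_section_stalk (⟨x, hV⟩ : V.1)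
  haveI : IsLocalization.AtPrime (X.presheaf.stalk x) (V.2.primeIdealOf ⟨x, hV⟩).asIdeal :=
    V.2.isLocalization_stalk ⟨x, hV⟩
  have hT : X.presheaf.germ V.1 x hV t ∈ nonZeroDivisors (X.presheaf.stalk x) :=
    GrothLib.BlowUp.mem_nonZeroDivisors_of_flat (algebraMap Γ(X, V.1) (X.presheaf.stalk x))
      (RingHom.flat_algebraMap_iff.2 (IsLocalization.flat _ (V.2.primeIdealOf ⟨x, hV⟩).asIdeal.primeCompl)) ht
  have e := (stalkIdeal_eq I U hx).symm.trans (stalkIdeal_eq I V hV)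
  rw [hs, htI, Ideal.map_span, Ideal.map_span, Set.image_singleton, Set.image_singleton] at e
  obtain ⟨v, hv⟩ := Ideal.mem_span_singleton'.1 (e.ge (Ideal.mem_span_singleton_self _))
  exact (mul_mem_nonZeroDivisors.1 (show v * X.presheaf.germ U.1 x hx s ∈ nonZeroDivisors _ by
    show v * (X.presheaf.germ U.1 x hx).hom s ∈ _
    rw [hv]; exact hT)).2

theorem mem_nonZeroDivisors_of_ideal_eq {X : Scheme.{u}} {I : X.IdealSheafData}
    (hI : _root_.BlowUp.IsEffCartierIdeal I) (U : X.affineOpens) (s : Γ(X, U.1))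
    (hs : I.ideal U = Ideal.span {s}) : s ∈ nonZeroDivisors Γ(X, U.1) := by
  rw [mem_nonZeroDivisors_iff_right]
  refine fun a ha => TopCat.Presheaf.section_ext X.sheaf U.1 a 0 fun x hx => ?_
  show X.presheaf.germ U.1 x hx a = X.presheaf.germ U.1 x hx 0
  rw [map_zero]
  refine (mem_nonZeroDivisors_iff_right.1 (mem_nonZeroDivisors_germ hI U s hs x hx)) _ ?_
  rw [← map_mul, ha, map_zero]

theorem mem_of_mem_pow {A C : Type*} [CommRing A] [CommRing C] (ψ : A →+* C) (J : Ideal A) (t φ : C)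
    (hJ : ∀ x ∈ J, ∃ a b : A, ψ x = (ψ a + ψ b * φ) * t) (m : ℕ) :
    ∀ x ∈ J ^ m, ∃ P : Polynomial A, ψ x = P.eval₂ ψ φ * t ^ m := by
  induction m with
  | zero => exact fun x _ => ⟨Polynomial.C x, by simp⟩
  | succ m ih =>
    intro x hx
    rw [pow_succ] at hx
    refine Submodule.mul_induction_on hx (fun u hu v hv => ?_) fun u v hu hv => ?_
    · obtain ⟨P, hP⟩ := ih u hu
      obtain ⟨a, b, hab⟩ := hJ v hv
      refine ⟨P * (Polynomial.C a + Polynomial.C b * Polynomial.X), ?_⟩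
      rw [map_mul, hP, hab, Polynomial.eval₂_mul, Polynomial.eval₂_add, Polynomial.eval₂_mul, Polynomial.eval₂_C,
        Polynomial.eval₂_C, Polynomial.eval₂_X]
      ring
    · obtain ⟨P, hP⟩ := hu
      obtain ⟨Q, hQ⟩ := hv
      exact ⟨P + Q, by rw [map_add, hP, hQ, Polynomial.eval₂_add, add_mul]⟩

theorem eq_zero_or_isUnit {A R : Type*} [CommRing A] [CommRing R] [IsDomain R] (J : Ideal A) [J.IsMaximal]
    (χ : A →+* R) (hχ : ∀ x ∈ J, χ x = 0) (τ : R) (P : Polynomial A) (hP : P.map (Ideal.Quotient.mk J) ≠ 0)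
    (h : P.eval₂ χ τ = 0) : τ = 0 ∨ IsUnit τ := by
  letI : Field (A ⧸ J) := Ideal.Quotient.field J
  letI : Algebra (A ⧸ J) R := (Ideal.Quotient.lift J χ hχ).toAlgebra
  rcases eq_or_ne τ 0 with h0 | h0
  · exact Or.inl h0
  have ha : IsAlgebraic (A ⧸ J) τ := ⟨_, hP, by
    rw [Polynomial.aeval_def, Polynomial.eval₂_map]; exact h⟩
  obtain ⟨r, hr, hdvd⟩ := ha.exists_nonzero_dvd (mem_nonZeroDivisors_of_ne_zero h0)
  exact Or.inr (isUnit_of_dvd_unit hdvd (hr.isUnit.map _))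

/-- An isomorphism over an open restricts to isomorphisms over smaller opens. -/
theorem isIso_restrict_of_le {X B : Scheme.{u}} (h : X ⟶ B) {U O : B.Opens} [IsIso (h ∣_ U)] (hO : O ≤ U) :
    IsIso (h ∣_ O) := by
  have e : U.ι ''ᵁ (U.ι ⁻¹ᵁ O) = O := by
    rw [Scheme.Hom.image_preimage_eq_opensRange_inf, Scheme.Opens.opensRange_ι]
    exact inf_eq_right.2 hO
  have h1 : MorphismProperty.isomorphisms Scheme (h ∣_ U ∣_ U.ι ⁻¹ᵁ O) :=
    IsZariskiLocalAtTarget.restrict (P := MorphismProperty.isomorphisms Scheme)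
      (show MorphismProperty.isomorphisms Scheme (h ∣_ U) from ‹_›) _
  rw [(MorphismProperty.isomorphisms Scheme).arrow_mk_iso_iff (morphismRestrictRestrict h U _)] at h1
  rwa [(MorphismProperty.isomorphisms Scheme).arrow_mk_iso_iff (morphismRestrictEq h e)] at h1

theorem isIso_app_of_restrict {X B : Scheme.{u}} (h : X ⟶ B) (O : B.Opens) [IsIso (h ∣_ O)] :
    IsIso (h.app O) := by
  have h1 : IsIso (h ∣_ O).appTop := inferInstance
  rw [morphismRestrict_appTop] at h1
  haveI := h1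
  have h2 : IsIso (h.app (O.ι ''ᵁ ⊤)) :=
    IsIso.of_isIso_comp_right _ (X.presheaf.map (eqToHom (image_morphismRestrict_preimage h O ⊤)).op)
  rwa [Scheme.Opens.ι_image_top] at h2

variable {X X' B : Scheme.{u}} {k : Type u} [Field k] (j : CohB1.ProjSpace 1 k ⟶ X) [IsClosedImmersion j]
  (b : X ⟶ X') (c : B ⟶ X') (h : X ⟶ B) (hh : h ≫ c = b)
  (hj : _root_.BlowUp.IsEffCartierIdeal j.ker)
  {y : X'} (hy : IsClosed ({y} : Set X')) (hfib : Set.range j = b ⁻¹' {y})
  (hker : (Scheme.IdealSheafData.vanishingIdeal ⟨{y}, hy⟩).comap b = j.ker) (W : X'.affineOpens) (hyW : y ∈ W.1)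
  [hmax : ((Scheme.IdealSheafData.vanishingIdeal ⟨{y}, hy⟩).ideal W).IsMaximal]
  (s : Fin (1 + 1) → Γ(X', W.1))
  (hs : (Scheme.IdealSheafData.vanishingIdeal ⟨{y}, hy⟩).ideal W = Ideal.span (Set.range s))
  (T : TwoCharts c (Scheme.IdealSheafData.vanishingIdeal ⟨{y}, hy⟩) W s)
  (hsingle : ∀ i, ¬ ∀ p, GenB j b W (s i) p) (hfin : IsFinite h)
include hh hker hfin

theorem app_chart (i : Fin (1 + 1)) (r : Γ(X', W.1)) :
    h.app (T.V i).1 (c.appLE W.1 (T.V i).1 (T.le i) r) =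
      b.appLE W.1 (h ⁻¹ᵁ (T.V i).1) (preimage_le j b c h hh hy hker W s T i) r := by
  rw [Scheme.Hom.app_eq_appLE]
  subst hh
  rw [← CommRingCat.comp_apply, Scheme.Hom.appLE_comp_appLE]

theorem ideal_preimage (i : Fin (1 + 1)) :
    j.ker.ideal ⟨h ⁻¹ᵁ (T.V i).1, (T.V i).2.preimage h⟩ =
      Ideal.span {h.app (T.V i).1 (c.appLE W.1 (T.V i).1 (T.le i) (s i))} := by
  rw [app_chart j b c h hh hy hker W s T hfin]
  exact ideal_chart j b c h hh hy hker W s T i ⟨_, (T.V i).2.preimage h⟩ le_rfl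

include hj hfib hyW hs hsingle hmax

/-- The comparison is injective modulo the equation of the exceptional divisor. -/
theorem mem_span_of_app_mem (i l : Fin (1 + 1)) (hil : ∀ a, a = i ∨ a = l) (e : Γ(B, (T.V i).1))
    (he : h.app (T.V i).1 e ∈ j.ker.ideal ⟨h ⁻¹ᵁ (T.V i).1, (T.V i).2.preimage h⟩) :
    e ∈ Ideal.span {c.appLE W.1 (T.V i).1 (T.le i) (s i)} := by
  let J := (Scheme.IdealSheafData.vanishingIdeal ⟨{y}, hy⟩).ideal W
  let ψ := (c.appLE W.1 (T.V i).1 (T.le i)).hom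
  have hψJ : ∀ x ∈ J, ψ x ∈ Ideal.span {ψ (s i)} := fun x hx => by
    rw [show Ideal.span {ψ (s i)} = (((Scheme.IdealSheafData.vanishingIdeal ⟨{y}, hy⟩).comap c).ideal (T.V i)) from
      (T.gen i).2.symm, GrothLib.BlowUp.ideal_comap_eq_map _ c W (T.V i) (T.le i)]
    exact Ideal.mem_map_of_mem _ hx
  obtain ⟨φ, hφ⟩ := Ideal.mem_span_singleton'.1 (hψJ (s l) (hs.ge (Ideal.subset_span ⟨l, rfl⟩)))
  have hJ : ∀ x ∈ J, ∃ a a' : Γ(X', W.1), ψ x = (ψ a + ψ a' * φ) * ψ (s i) := fun x hx => by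
    obtain ⟨α, rfl⟩ := Ideal.mem_span_range_iff_exists_fun.1 (hs.le hx)
    have key : ∀ a, ∃ u v : Γ(X', W.1), ψ (α a * s a) = (ψ u + ψ v * φ) * ψ (s i) := fun a => by
      rcases hil a with rfl | rfl
      · exact ⟨α a, 0, by rw [map_mul, map_zero, zero_mul, add_zero]⟩
      · exact ⟨0, α a, by rw [map_mul, map_zero, zero_add, mul_assoc, hφ]⟩
    obtain ⟨u, v, e0⟩ := key 0
    obtain ⟨u', v', e1⟩ := key 1
    refine ⟨u + u', v + v', ?_⟩
    rw [Fin.sum_univ_two, map_add, e0, e1, map_add, map_add]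
    ring
  obtain ⟨m, x, hx, hxe⟩ := T.num i e
  obtain ⟨P, hP⟩ := mem_of_mem_pow ψ J (ψ (s i)) φ hJ m x hx
  have he' : e = P.eval₂ ψ φ :=
    (mul_cancel_right_mem_nonZeroDivisors (pow_mem (T.gen i).1 m)).1 (hxe.symm.trans hP)
  by_cases hP0 : P.map (Ideal.Quotient.mk J) = 0
  · let q := Ideal.Quotient.mk (Ideal.span {ψ (s i)})
    rw [← Ideal.Quotient.eq_zero_iff_mem, he']
    show q _ = 0
    rw [Polynomial.hom_eval₂, show q.comp ψ = (Ideal.Quotient.lift J (q.comp ψ) fun x hx =>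
      Ideal.Quotient.eq_zero_iff_mem.2 (hψJ x hx)).comp (Ideal.Quotient.mk J) from rfl, ← Polynomial.eval₂_map, hP0,
      Polynomial.eval₂_zero]
  exfalso
  haveI : IsIntegral (CohB1.ProjSpace 1 k) := ProjDim.isIntegral_proj _ 1
  let D : X.affineOpens := ⟨h ⁻¹ᵁ (T.V i).1, (T.V i).2.preimage h⟩
  let η := genericPoint (CohB1.ProjSpace 1 k)
  have hgen : ∀ a, h (j η) ∈ (T.V a).1 := fun a => by
    obtain ⟨a', ha'⟩ : ∃ a', a' ≠ a := exists_ne a
    obtain ⟨p, hp⟩ := exists_notMem_chart j b c h hh hy hfib hker W hyW s T hsingle a'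
    obtain ⟨a'', ha''⟩ := exists_mem_chart j b c h hh hy hfib hker W hyW s T p
    have : a'' = a := by
      have hne : a'' ≠ a' := fun e => hp (e ▸ ha'')
      revert ha' hne
      fin_cases a <;> fin_cases a' <;> fin_cases a'' <;> simp
    subst this
    exact ((((genericPoint_spec (CohB1.ProjSpace 1 k)).specializes trivial).map j.continuous).map h.continuous).mem_open
      (T.V a'').1.2 ha''
  haveI : Nonempty (j ⁻¹ᵁ D.1 : (CohB1.ProjSpace 1 k).Opens) := ⟨⟨η, hgen i⟩⟩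
  let χ : Γ(B, (T.V i).1) →+* Γ(CohB1.ProjSpace 1 k, j ⁻¹ᵁ D.1) :=
    (j.app D.1).hom.comp (h.app (T.V i).1).hom
  have hχ0 : ∀ z, h.app (T.V i).1 z ∈ j.ker.ideal D ↔ χ z = 0 := fun z => by
    rw [Scheme.Hom.ker_apply, RingHom.mem_ker]; rfl
  have hχs : χ (ψ (s i)) = 0 := (hχ0 _).1 (by
    rw [ideal_preimage j b c h hh hy hker W s T hfin i]
    exact Ideal.mem_span_singleton_self _)
  have hχJ : ∀ x ∈ J, (χ.comp ψ) x = 0 := fun x hx => by
    obtain ⟨z, hz⟩ := Ideal.mem_span_singleton'.1 (hψJ x hx)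
    show χ (ψ x) = 0
    rw [← hz, map_mul, hχs, mul_zero]
  have h0 : P.eval₂ (χ.comp ψ) (χ φ) = 0 := by
    rw [← Polynomial.hom_eval₂, ← he']
    exact (hχ0 e).1 he
  rcases eq_zero_or_isUnit J (χ.comp ψ) hχJ (χ φ) P hP0 h0 with hτ | hτ
  · have hxi : j η ∈ h ⁻¹ᵁ (T.V i).1 := hgen i
    have hxl : j η ∈ h ⁻¹ᵁ (T.V l).1 := hgen l
    let Dl : X.affineOpens := ⟨h ⁻¹ᵁ (T.V l).1, (T.V l).2.preimage h⟩
    have e1 : stalkIdeal j.ker (j η) = Ideal.span {X.presheaf.germ D.1 _ hxi (h.app (T.V i).1 (ψ (s i)))} := by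
      rw [stalkIdeal_eq _ D hxi, ideal_preimage j b c h hh hy hker W s T hfin i, Ideal.map_span, Set.image_singleton]
    have e2 : stalkIdeal j.ker (j η) = Ideal.span {X.presheaf.germ D.1 _ hxi (h.app (T.V i).1 (ψ (s l)))} := by
      rw [stalkIdeal_eq _ Dl hxl, ideal_preimage j b c h hh hy hker W s T hfin l, Ideal.map_span,
        Set.image_singleton, app_chart j b c h hh hy hker W s T hfin]
      show Ideal.span {(X.presheaf.germ Dl.1 _ hxl).hom _} = Ideal.span {X.presheaf.germ D.1 _ hxi (h.app (T.V i).1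
        (c.appLE W.1 (T.V i).1 (T.le i) (s l)))}
      rw [app_chart j b c h hh hy hker W s T hfin]
      simp [Scheme.Hom.appLE, D, Dl]
    set σ := X.presheaf.germ D.1 _ hxi (h.app (T.V i).1 (ψ (s i))) with hσ
    obtain ⟨u, hu⟩ : ∃ u, u * σ = X.presheaf.germ D.1 _ hxi (h.app (T.V i).1 φ) := by
      refine Ideal.mem_span_singleton'.1 ?_
      rw [← e1, stalkIdeal_eq _ D hxi]
      exact Ideal.mem_map_of_mem _ ((hχ0 φ).2 hτ)
    obtain ⟨v, hv⟩ := Ideal.mem_span_singleton'.1 (e2.le (e1.ge (Ideal.mem_span_singleton_self σ)))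
    rw [← hφ, map_mul, map_mul, ← hu, ← hσ] at hv
    have hunit : IsUnit σ := by
      refine IsUnit.of_mul_eq_one (v * u) ((mul_cancel_right_mem_nonZeroDivisors
        (mem_nonZeroDivisors_germ hj D _ (ideal_preimage j b c h hh hy hker W s T hfin i) _ hxi)).1 ?_)
      calc σ * (v * u) * σ = v * (u * σ * σ) := by ring
        _ = σ := hv
        _ = 1 * σ := (one_mul σ).symm
    exact (stalkIdeal_eq_top_iff j.ker (j η)).1 (e1.trans (Ideal.span_singleton_eq_top.2 hunit))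
      ((Scheme.Hom.support_ker j).ge (subset_closure ⟨η, rfl⟩))
  · obtain ⟨p, hp⟩ := exists_notMem_chart j b c h hh hy hfib hker W hyW s T hsingle l
    obtain ⟨a, ha⟩ := exists_mem_chart j b c h hh hy hfib hker W hyW s T p
    rcases hil a with rfl | rfl
    · refine hp (T.overlap l a φ hφ.symm ?_)
      have hpE : p ∈ (CohB1.ProjSpace 1 k).basicOpen (χ φ) := by
        rw [Scheme.basicOpen_of_isUnit _ hτ]; exact ha
      show p ∈ j ⁻¹ᵁ (h ⁻¹ᵁ B.basicOpen φ)
      rw [Scheme.preimage_basicOpen, Scheme.preimage_basicOpen]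
      exact hpE
    · exact hp ha

/-- The comparison is bijective on sections over a chart. -/
theorem bijective_app_chart (i l : Fin (1 + 1)) (hil : ∀ a, a = i ∨ a = l)
    (hiso : IsIso (h ∣_ c ⁻¹ᵁ (⟨{y}ᶜ, hy.isOpen_compl⟩ : X'.Opens))) :
    Function.Bijective (h.app (T.V i).1) := by
  let t := c.appLE W.1 (T.V i).1 (T.le i) (s i)
  let V := (T.V i).1
  have hD : IsAffineOpen (h ⁻¹ᵁ V) := (T.V i).2.preimage h
  have hid := ideal_preimage j b c h hh hy hker W s T hfin i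
  have ht : h.app V t ∈ nonZeroDivisors Γ(X, h ⁻¹ᵁ V) := mem_nonZeroDivisors_of_ideal_eq hj ⟨_, hD⟩ _ hid
  have hOle : B.basicOpen t ≤ c ⁻¹ᵁ (⟨{y}ᶜ, hy.isOpen_compl⟩ : X'.Opens) := by
    intro z hz (hzy : c z = y)
    have hzV : z ∈ V := B.basicOpen_le t hz
    have h1 : y ∈ (Scheme.IdealSheafData.vanishingIdeal ⟨{y}, hy⟩).support := by
      rw [← SetLike.mem_coe, Scheme.IdealSheafData.coe_support_vanishingIdeal]; exact Set.mem_singleton y
    rw [Scheme.IdealSheafData.mem_support_iff_of_mem hyW, Scheme.mem_zeroLocus_iff] at h1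
    refine h1 (s i) (hs.ge (Ideal.subset_span ⟨i, rfl⟩)) ?_
    rw [← hzy]
    show z ∈ c ⁻¹ᵁ X'.basicOpen (s i)
    rw [Scheme.preimage_basicOpen]
    have : B.basicOpen t ≤ B.basicOpen (c.app W.1 (s i)) := by
      simp only [t, Scheme.Hom.appLE, CommRingCat.comp_apply]
      erw [Scheme.basicOpen_res]
      exact inf_le_right
    exact this hz
  haveI := hiso
  haveI := isIso_restrict_of_le h hOle
  haveI := isIso_app_of_restrict h (B.basicOpen t)
  have hbijO := ConcreteCategory.bijective_of_isIso (h.app (B.basicOpen t))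
  have hnat : ∀ z, X.presheaf.map (homOfLE (h.preimage_mono (B.basicOpen_le t))).op (h.app V z) =
      h.app (B.basicOpen t) (B.presheaf.map (homOfLE (B.basicOpen_le t)).op z) := fun z =>
    congr($(h.naturality (homOfLE (B.basicOpen_le t)).op) z).symm
  constructor
  · rw [injective_iff_map_eq_zero]
    intro z hz
    have h0 : B.presheaf.map (homOfLE (B.basicOpen_le t)).op z = 0 :=
      hbijO.1 (by rw [← hnat, hz, map_zero, map_zero])
    obtain ⟨n, hn⟩ := exists_pow_mul_eq_zero_of_res_basicOpen_eq_zero_of_isAffineOpen B (T.V i).2 z t h0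
    exact (mem_nonZeroDivisors_iff_left.1 (pow_mem (T.gen i).1 n)) z hn
  · intro d
    have key : ∃ (N : ℕ) (z : Γ(B, V)), h.app V z = h.app V t ^ N * d := by
      obtain ⟨e, he⟩ := hbijO.2 (X.presheaf.map (homOfLE (h.preimage_mono (B.basicOpen_le t))).op d)
      letI : Algebra Γ(B, V) Γ(B, B.basicOpen t) := (B.presheaf.map (homOfLE (B.basicOpen_le t)).op).hom.toAlgebra
      haveI := (T.V i).2.isLocalization_basicOpen t
      obtain ⟨⟨z, ⟨-, N, rfl⟩⟩, hz⟩ := IsLocalization.surj (Submonoid.powers t) e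
      have h1 : X.presheaf.map (homOfLE (h.preimage_mono (B.basicOpen_le t))).op (h.app V z - h.app V t ^ N * d) = 0 := by
        rw [map_sub, map_mul, ← map_pow, hnat, hnat, ← he, sub_eq_zero, ← map_mul]
        exact congrArg _ (hz.symm.trans (mul_comm e _))
      have h2 : X.presheaf.map (homOfLE (X.basicOpen_le (h.app V t))).op (h.app V z - h.app V t ^ N * d) = 0 := by
        have := congrArg (X.presheaf.map (eqToHom (Scheme.preimage_basicOpen h t).symm).op) h1
        rw [map_zero, ← CommRingCat.comp_apply (X.presheaf.map _) (X.presheaf.map _), ← Functor.map_comp] at this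
        exact this
      obtain ⟨n, hn⟩ := exists_pow_mul_eq_zero_of_res_basicOpen_eq_zero_of_isAffineOpen X hD _ _ h2
      exact ⟨N, z, sub_eq_zero.1 ((mem_nonZeroDivisors_iff_left.1 (pow_mem ht n)) _ hn)⟩
    obtain ⟨N, z, hz⟩ := key
    induction N generalizing z with
    | zero => exact ⟨z, by rw [hz, pow_zero, one_mul]⟩
    | succ N ih =>
      have hmem : z ∈ Ideal.span {t} := mem_span_of_app_mem j b c h hh hj hy hfib hker W hyW s hs T hsingle hfin i l hil z
        (by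
          rw [hid, hz, pow_succ, mul_comm (h.app V t ^ N), mul_assoc]
          exact Ideal.mul_mem_right _ _ (Ideal.mem_span_singleton_self _))
      obtain ⟨z', rfl⟩ := Ideal.mem_span_singleton'.1 hmem
      refine ih z' ((mul_cancel_right_mem_nonZeroDivisors ht).1 ?_)
      rw [← map_mul, hz]
      ring

end GrothLib.Contract29

namespace GrothLib.Contract29

/-- A proper map which is the point blow-up's candidate is the blow-up. -/
theorem isBlowUp_of_generators {X X' : Scheme.{u}} [IsLocallyNoetherian X'] {k : Type u} [Field k]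
    (j : CohB1.ProjSpace 1 k ⟶ X) [IsClosedImmersion j] (b : X ⟶ X') [IsProper b]
    (hj : _root_.BlowUp.IsEffCartierIdeal j.ker) {y : X'} (hy : IsClosed ({y} : Set X'))
    (hfib : Set.range j = b ⁻¹' {y})
    (hker : (Scheme.IdealSheafData.vanishingIdeal ⟨{y}, hy⟩).comap b = j.ker) (W : X'.affineOpens) (hyW : y ∈ W.1)
    [((Scheme.IdealSheafData.vanishingIdeal ⟨{y}, hy⟩).ideal W).IsMaximal]
    (s : Fin (1 + 1) → Γ(X', W.1))
    (hs : (Scheme.IdealSheafData.vanishingIdeal ⟨{y}, hy⟩).ideal W = Ideal.span (Set.range s))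
    (hsingle : ∀ i, ¬ ∀ p, GenB j b W (s i) p)
    (hpunct : IsIso (b ∣_ (⟨{y}ᶜ, hy.isOpen_compl⟩ : X'.Opens))) :
    _root_.BlowUp.IsBlowUp b (Scheme.IdealSheafData.vanishingIdeal ⟨{y}, hy⟩) := by
  let I := Scheme.IdealSheafData.vanishingIdeal (X := X') ⟨{y}, hy⟩
  let P : X'.Opens := ⟨{y}ᶜ, hy.isOpen_compl⟩
  obtain ⟨B, c, hc⟩ := GrothLib.BlowUp.exists_isBlowUp X' I
  haveI : IsProper c := GrothLib.BlowUpProper.isProper_of_isBlowUp hc
  obtain ⟨h, hh, -⟩ := hc.2 X b (show _root_.BlowUp.IsEffCartierIdeal (I.comap b) from hker.symm ▸ hj)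
  obtain ⟨T⟩ := exists_twoCharts hc W s hs
  have hinj : ∀ x x', x ∉ Set.range j → b x = b x' → x = x' := fun x x' hx hxx' => by
    have hxP : x ∈ b ⁻¹ᵁ P := fun e => hx (hfib.ge e)
    have hx'P : x' ∈ b ⁻¹ᵁ P := by show b x' ∈ P; rw [← hxx']; exact hxP
    haveI := hpunct
    have := (b ∣_ P).isOpenEmbedding.injective (a₁ := ⟨x, hxP⟩) (a₂ := ⟨x', hx'P⟩)
      (Subtype.ext (by rw [morphismRestrict_base_coe, morphismRestrict_base_coe]; exact hxx'))
    exact congrArg Subtype.val this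
  have hfin := isFinite_comparison j b c h hh hy hfib hker W hyW s T hsingle hinj
  have hcP : IsIso (c ∣_ P) := by
    have hle : P ≤ I.support.compl := fun x hx (hx' : x ∈ I.support) => hx (by
      rw [← SetLike.mem_coe, Scheme.IdealSheafData.coe_support_vanishingIdeal] at hx'
      exact hx')
    haveI := GrothLib.BlowUp.isIso_off_center hc
    exact isIso_restrict_of_le c hle
  have hiso : IsIso (h ∣_ c ⁻¹ᵁ P) := by
    subst hh
    haveI := hcP
    haveI : IsIso ((h ∣_ c ⁻¹ᵁ P) ≫ (c ∣_ P)) := by rw [← morphismRestrict_comp]; exact hpunct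
    exact IsIso.of_isIso_comp_right _ (c ∣_ P)
  have hV : ∀ i, IsIso (h ∣_ (T.V i).1) := fun i => by
    obtain ⟨l, hl⟩ : ∃ l, ∀ a, a = i ∨ a = l := by
      fin_cases i
      · exact ⟨1, fun a => by fin_cases a <;> simp⟩
      · exact ⟨0, fun a => by fin_cases a <;> simp⟩
    have hb := bijective_app_chart j b c h hh hj hy hfib hker W hyW s hs T hsingle hfin i l hl hiso
    haveI : IsIso (h.app (T.V i).1) := (ConcreteCategory.isIso_iff_bijective _).2 hb
    haveI : IsAffine (T.V i).1.toScheme := (T.V i).2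
    haveI : IsAffine (h ⁻¹ᵁ (T.V i).1).toScheme := (T.V i).2.preimage h
    refine (HasAffineProperty.iff_of_isAffine (P := MorphismProperty.isomorphisms Scheme)).2 ⟨inferInstance, ?_⟩
    haveI : IsIso (h.app ((T.V i).1.ι ''ᵁ ⊤)) := by rwa [Scheme.Opens.ι_image_top]
    show IsIso (h ∣_ (T.V i).1).appTop
    rw [morphismRestrict_appTop]
    infer_instance
  haveI : IsIso h := by
    refine IsZariskiLocalAtTarget.of_iSup_eq_top (P := MorphismProperty.isomorphisms Scheme)
      (fun o : Option (Fin (1 + 1)) => o.elim (c ⁻¹ᵁ P) fun i => (T.V i).1) (top_unique fun z _ => ?_) fun o => ?_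
    · by_cases hz : c z = y
      · obtain ⟨i, hi⟩ := T.cover z (hz ▸ hyW)
        exact Opens.mem_iSup.2 ⟨some i, hi⟩
      · exact Opens.mem_iSup.2 ⟨none, hz⟩
    · cases o with
      | none => exact hiso
      | some i => exact hV i
  rw [← hh]
  exact ArSurf29.isBlowUp_iso_comp hc h

end GrothLib.Contract29
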