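import Groth.Agent.Lib.CurveMult.GenusFinite
import Groth.Agent.Lib.Contract29.Chart
import Groth.Agent.Lib.Euler.Section
import Groth.Agent.Lib.Kodaira.BoundProper
import Groth.Agent.Lib.FinGen9.Basic

/-!
# Euler characteristics under finite birational maps of curves
-/

universe u

set_option autoImplicit false
set_option linter.all false
set_option backward.isDefEq.respectTransparency false

open CategoryTheory CategoryTheory.Limits AlgebraicGeometry TopologicalSpace

noncomputable section

namespace GrothLib.Contract29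

variable {A Z : Scheme.{u}}

theorem bijective_app_of_le (φ : A ⟶ Z) (U : Z.Opens) [IsIso (φ ∣_ U)] {T : Z.Opens} (hT : T ≤ U) :
    Function.Bijective (φ.app T).hom := by
  obtain ⟨T', rfl⟩ : ∃ T' : U.toScheme.Opens, U.ι ''ᵁ T' = T :=
    ⟨U.ι ⁻¹ᵁ T, by rw [Scheme.Hom.image_preimage_eq_opensRange_inf, Scheme.Opens.opensRange_ι, inf_eq_right.2 hT]⟩
  have h1 := ConcreteCategory.bijective_of_isIso ((φ ∣_ U).app T')
  rw [morphismRestrict_app] at h1
  let m := A.presheaf.map (eqToHom (image_morphismRestrict_preimage φ U T')).op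
  refine ⟨fun a b hab => h1.1 (congrArg m.hom hab), fun y => ?_⟩
  obtain ⟨s, hs⟩ := h1.2 (m.hom y)
  exact ⟨s, (ConcreteCategory.bijective_of_isIso m).1 hs⟩

theorem isDominant_of_iso_over (φ : A ⟶ Z) [IrreducibleSpace Z] (U : Z.Opens) [IsIso (φ ∣_ U)]
    (hU : (U : Set Z).Nonempty) : IsDominant φ := by
  refine ⟨Dense.mono (fun z hz => ?_) (U.2.dense hU)⟩
  obtain ⟨a, ha⟩ := (φ ∣_ U).homeomorph.surjective ⟨z, hz⟩
  exact ⟨a.1, (morphismRestrict_base_coe φ U a).symm.trans (congrArg Subtype.val ha)⟩

/-- A finite birational map of curves raises the Euler characteristic, strictly unless it is an isomorphism. -/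
theorem euler_le_of_birational (k : Type u) [Field k] [A.Over (Spec (CommRingCat.of k))]
    [Z.Over (Spec (CommRingCat.of k))] [IsProper (Z ↘ Spec (CommRingCat.of k))] [IsIntegral Z]
    (hd : topologicalKrullDim Z ≤ 1) (φ : A ⟶ Z) [IsFinite φ]
    (hφ : φ ≫ Z ↘ Spec (CommRingCat.of k) = A ↘ Spec (CommRingCat.of k))
    (U : Z.Opens) (hU : (U : Set Z).Nonempty) [IsIso (φ ∣_ U)] :
    Curv2.euler k Z (Coh.structureModule Z) ≤ Curv2.euler k A (Coh.structureModule A) ∧
    (Curv2.euler k A (Coh.structureModule A) = Curv2.euler k Z (Coh.structureModule Z) → IsIso φ) := by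
  haveI := Euler.isNoetherian_of_proper (X := Z) k
  haveI : IsProper (A ↘ Spec (CommRingCat.of k)) := hφ ▸ inferInstance
  haveI := Euler.isNoetherian_of_proper (X := A) k
  haveI := isDominant_of_iso_over φ U hU
  haveI : Mono (ClSub.unitToPush φ) := Kodaira.mono_unitToPush φ
  haveI := Cohom.isQuasicoherent_structureModule A
  have hη : genericPoint Z ∈ U := ((genericPoint_spec Z).mem_open_set_iff U.2).2 (by simpa using hU)
  obtain ⟨q, hq, -, hiso⟩ := Euler.exists_cokernel_data k hd (ClSub.unitToPush φ) (Euler.isCoh_of_isInvertible Euler.isInvertible_structure)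
    (FinGen9.isCoh_push φ (Euler.isCoh_of_isInvertible Euler.isInvertible_structure))
    (CurveMult.GenusFinite.stalkLin_surjective_of_app _ hη fun T hT _ => (bijective_app_of_le φ U hT).2)
  have he := Snapper.euler_pushforward φ hφ (Coh.structureModule A)
  refine ⟨?_, fun h => ?_⟩
  · rw [← he]
    refine le_trans ?_ hq.ge
    omega
  · haveI := hiso (by
      have h1 : Curv2.euler k Z ((Scheme.Modules.pushforward φ).obj (Coh.structureModule A)) =
          Curv2.euler k Z (Coh.structureModule Z) + q := hq
      rw [he, h] at h1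
      omega)
    exact CurveMult.GenusFinite.isIso_of_app_bijective φ fun V =>
      ConcreteCategory.bijective_of_isIso ((ClSub.unitToPush φ).app V)

end GrothLib.Contract29
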