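import Groth.Agent.Lib.Contract29.BirEuler
import Groth.Agent.Lib.ArSurf29.MinimalEngine
import Groth.Agent.Lib.ArSurf29.GenusZeroComp
import Groth.Agent.Lib.ArSurf29.Inter

/-!
# Following a component of large genus through contractions
-/

universe u

set_option autoImplicit false
set_option linter.all false
set_option backward.isDefEq.respectTransparency false

open CategoryTheory CategoryTheory.Limits AlgebraicGeometry TopologicalSpace IsLocalRing

noncomputable section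

namespace GrothLib.Contract29

open GrothLib.ArSurf29
open GrothLib.Cube (clsMod)

variable {R : Type u} [CommRing R] [IsDomain R] [IsDiscreteValuationRing R]

/-- A finite birational map of a curve onto a vertical component, over the residue field. -/
def HasCover (Γ' : Scheme.{u}) [Γ'.Over (Spec (CommRingCat.of (ResidueField R)))] {X : Over (Spec (CommRingCat.of R))}
    (Γ : ArSurf.VertComp R X) : Prop :=
  ∃ (ν : Γ' ⟶ Γ.curve.left) (U : Γ.curve.left.Opens), IsFinite ν ∧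
    ν ≫ Γ.curve.hom = Γ' ↘ Spec (CommRingCat.of (ResidueField R)) ∧ (U : Set Γ.curve.left).Nonempty ∧ IsIso (ν ∣_ U)

/-- An exceptional curve is not covered birationally by a curve of negative Euler characteristic. -/
theorem not_isExcCurve_of_cover (Γ' : Scheme.{u}) [Γ'.Over (Spec (CommRingCat.of (ResidueField R)))]
    (heu : Curv2.euler (ResidueField R) Γ' (Coh.structureModule Γ') < 0) {X : Over (Spec (CommRingCat.of R))}
    [IsProper X.hom] [IsLocallyNoetherian X.left] (Γ : ArSurf.VertComp R X) (hc : HasCover Γ' Γ) :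
    ¬ Models.IsExcCurve Γ.ι := fun hΓ => by
  obtain ⟨ν, U, hfin, hν, hU, hiso⟩ := hc
  haveI := hfin
  haveI := hiso
  haveI := Γ.isIntegral
  haveI := isProper_curve Γ
  have h := (euler_le_of_birational (ResidueField R) Γ.dim_eq.le ν hν U hU).1
  have hI := IdealModSec.isInvertible_of_isEffCartier hΓ.1
  have hL : ClSub.IsInverseOf (HodgeIndex.rep (clsMod hI)⁻¹) (ClSub.idealMod Γ.ι.ker) :=
    (Cube.clsMod_eq_one_iff (Ample.isInvertible_tensorMod (HodgeIndex.isInv_rep _) hI)).1 (by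
      rw [Cube.clsMod_tensorMod (HodgeIndex.isInv_rep _) hI, HodgeIndex.cls_rep, inv_mul_cancel])
  have h1 := (h1_inter_of_isExcCurve Γ hΓ.1 hL hΓ).1
  haveI := Cohom.isQuasicoherent_structureModule Γ.curve.left
  rw [Euler.euler_eq_sub (ResidueField R) Γ.dim_eq.le] at h
  change (Models.wdeg R X Γ : ℤ) - (Models.h1 R X Γ : ℤ) ≤ _ at h
  have h2 : 0 < Models.wdeg R X Γ := wdeg_pos Γ
  omega

variable {C : Scheme.{u}} {f : C ⟶ Spec (CommRingCat.of (FractionRing R))} [IsIntegral C]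

/-- The image of a component not contracted by a contraction, with the induced finite birational map. -/
theorem exists_cover_step (hC : topologicalKrullDim C = 1) (hf : IsProper f)
    {Y Z E : Scheme.{u}} (ι : E ⟶ Y) [IsClosedImmersion ι] (hE : Models.IsExcCurve ι) (b : Y ⟶ Z)
    (hb : Models.IsContractionOf ι b) {p : Z ⟶ Spec (CommRingCat.of R)} {g : C ⟶ Z} (hZ : IsMData f Z p g)
    (Γ : ArSurf.VertComp R (Over.mk (b ≫ p))) (hΓ : ¬ Models.IsExcCurve Γ.ι) :
    ∃ (Γ₁ : ArSurf.VertComp R (Over.mk p)) (φ : Γ.curve.left ⟶ Γ₁.curve.left) (O : Γ₁.curve.left.Opens),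
      IsFinite φ ∧ φ ≫ Γ₁.curve.hom = Γ.curve.hom ∧ (O : Set Γ₁.curve.left).Nonempty ∧ IsIso (φ ∣_ O) := by
  obtain ⟨g₀, h₀, -⟩ := mdata_step hZ ι b hb
  obtain ⟨-, hbp, y, hy, hrange, hyreg, hd, hblow⟩ := id hb
  haveI := hbp; haveI := hyreg
  haveI := hZ.isNoetherian
  haveI := h₀.isNoetherian
  haveI : IsClosedImmersion (Y := Y) Γ.ι := Γ.isClosedImmersion
  haveI := Γ.isIntegral
  obtain ⟨-, k, _, e, -⟩ := id hE
  have hfibre := GrothLib.ExcP1.range_eq_fibre hy hd hblow ι k e hrange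
  let V : Z.Opens := ⟨{y}ᶜ, hy.isOpen_compl⟩
  haveI : IsIso (b ∣_ V) := by
    have h := GrothLib.BlowUp.isIso_off_center hblow
    rwa [show (Scheme.IdealSheafData.vanishingIdeal (⟨{y}, hy⟩ : Closeds Z)).support.compl = V from Opens.ext (by
      show ((Scheme.IdealSheafData.vanishingIdeal (⟨{y}, hy⟩ : Closeds Z)).support : Set Z)ᶜ = {y}ᶜ
      rw [Scheme.IdealSheafData.coe_support_vanishingIdeal]
      rfl)] at h
  -- the generic point is not in the exceptional curve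
  let η := genericPoint Γ.curve.left
  have hηE : b (Γ.ι η) ≠ y := fun h => by
    have hfib : ∀ w, (Over.mk (b ≫ p)).hom (ι w) = closedPoint R := fun w => by
      show p (b (ι w)) = _
      rw [show b (ι w) = y from hrange.le ⟨w, rfl⟩]
      exact specialFibre_of_isClosed hZ hy
    obtain ⟨F, hF, hFr⟩ := exists_vertComp_of_excCurve (X := Over.mk (b ≫ p)) ι hE hfib
    haveI : IsClosedImmersion (Y := Y) F.ι := F.isClosedImmersion
    haveI := F.isIntegral
    obtain ⟨w, hw⟩ : Γ.ι η ∈ Set.range F.ι := hFr.ge (hfibre.ge h)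
    have hwη : w = genericPoint F.curve.left := by
      by_contra hne
      refine CurvePoints.genericPoint_not_isClosed (X := Γ.curve.left) Γ.dim_eq ?_
      rw [(Γ.ι : _ ⟶ Y).isClosedEmbedding.isClosed_iff_image_isClosed, Set.image_singleton]
      have h' := (F.ι : _ ⟶ Y).isClosedEmbedding.isClosedMap _ (CurvePoints.isClosed_singleton F.dim_eq.le hne)
      rw [Set.image_singleton] at h'
      exact hw ▸ h'
    refine hΓ (isExcCurve_of_range_eq (Y := Y) F.ι _ hF (range_vertComp_eq Γ F ?_))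
    rw [Models.genPtOf, Models.genPtOf, ← hwη]
    exact hw.symm
  let z := b (Γ.ι η)
  have hzV : z ∈ V := hηE
  have hinj : ∀ a a' : Y, b a = b a' → b a ∈ V → a = a' := fun a a' h ha => by
    have h' := (b ∣_ V).homeomorph.injective (a₁ := ⟨a, ha⟩) (a₂ := ⟨a', show b a' ∈ V from h ▸ ha⟩)
      (Subtype.ext ((morphismRestrict_base_coe b V (⟨a, ha⟩ : ↥(b ⁻¹ᵁ V))).trans
        (h.trans (morphismRestrict_base_coe b V (⟨a', show b a' ∈ V from h ▸ ha⟩ : ↥(b ⁻¹ᵁ V))).symm)))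
    exact congrArg Subtype.val h'
  have hzc : ¬ IsClosed ({z} : Set Z) := fun hz => by
    refine CurvePoints.genericPoint_not_isClosed (X := Γ.curve.left) Γ.dim_eq ?_
    rw [show ({η} : Set Γ.curve.left) = (fun w => b (Γ.ι w)) ⁻¹' {z} from Set.ext fun w => ⟨by rintro rfl; rfl,
      fun hw => (Γ.ι : _ ⟶ Y).isClosedEmbedding.injective (hinj _ _ hw (by rw [show b (Γ.ι w) = z from hw]; exact hzV))⟩]
    exact hz.preimage (b.continuous.comp (Γ.ι : _ ⟶ Y).continuous)
  -- the component through its image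
  haveI : IsProper (Over.mk p).hom := hZ.proper
  haveI : Flat (Over.mk p).hom := hZ.flat
  haveI : IsLocallyNoetherian (Over.mk p).left := inferInstanceAs (IsLocallyNoetherian Z)
  haveI : IsIntegral (Over.mk p).left := hZ.isIntegral
  obtain ⟨n, L₀, hL₀⟩ := exists_componentList (X := Over.mk p) (hZ.dim_eq hC hf)
  obtain ⟨i, w, hw⟩ := exists_mem_range hL₀ (x := z) (range_subset_fibre Γ ⟨η, rfl⟩)
  let Γ₁ := L₀ i
  haveI : IsClosedImmersion (Y := Z) Γ₁.ι := Γ₁.isClosedImmersion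
  haveI := Γ₁.isIntegral
  obtain rfl : w = genericPoint Γ₁.curve.left := by
    by_contra hne
    have h' := (Γ₁.ι : _ ⟶ Z).isClosedEmbedding.isClosedMap _ (CurvePoints.isClosed_singleton Γ₁.dim_eq.le hne)
    rw [Set.image_singleton] at h'
    exact hzc (hw ▸ h')
  have hle : (Γ₁.ι : _ ⟶ Z).ker ≤ ((Γ.ι : _ ⟶ Y) ≫ b).ker := by
    rw [SchImage.ker_eq_vanishingIdeal, SchImage.ker_eq_vanishingIdeal]
    refine Scheme.IdealSheafData.vanishingIdeal_antimono ?_
    refine closure_minimal ?_ isClosed_closure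
    rintro _ ⟨a, rfl⟩
    refine closure_mono ?_ (image_closure_subset_closure_image (b.continuous.comp (Γ.ι : _ ⟶ Y).continuous)
      ⟨a, (genericPoint_closure Γ.curve.left).ge trivial, rfl⟩)
    rintro _ ⟨_, rfl, rfl⟩
    exact ⟨_, hw⟩
  let φ : Γ.curve.left ⟶ Γ₁.curve.left := IsClosedImmersion.lift (Z := Z) Γ₁.ι ((Γ.ι : _ ⟶ Y) ≫ b) hle
  have hφ : φ ≫ Γ₁.ι = (Γ.ι : _ ⟶ Y) ≫ b := IsClosedImmersion.lift_fac _ _ _
  have hφk : φ ≫ Γ₁.curve.hom = Γ.curve.hom := by
    haveI : IsClosedImmersion (Spec.map (CommRingCat.ofHom (residue R))) :=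
      IsClosedImmersion.spec_of_surjective _ residue_surjective
    rw [← cancel_mono (Spec.map (CommRingCat.ofHom (residue R))), Category.assoc, ← Γ₁.w]
    show φ ≫ Γ₁.ι ≫ p = _
    rw [reassoc_of% hφ]
    exact Γ.w
  haveI : IsProper (Over.mk (b ≫ p)).hom := h₀.proper
  haveI : IsProper Γ.curve.hom := isProper_curve Γ
  haveI : IsProper Γ₁.curve.hom := isProper_curve Γ₁
  haveI : IsProper φ := by
    haveI : IsProper (φ ≫ Γ₁.curve.hom) := hφk ▸ inferInstance
    exact IsProper.of_comp φ Γ₁.curve.hom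
  have hφη : φ η = genericPoint Γ₁.curve.left := (Γ₁.ι : _ ⟶ Z).isClosedEmbedding.injective (by
    rw [← Scheme.Hom.comp_apply, hφ]
    exact hw.symm)
  have hsurj : Function.Surjective φ := fun t => by
    have hmem : genericPoint Γ₁.curve.left ∈ Set.range φ := ⟨η, hφη⟩
    have h : closure {genericPoint Γ₁.curve.left} ⊆ Set.range φ :=
      closure_minimal (Set.singleton_subset_iff.2 hmem) φ.isClosedMap.isClosed_range
    rw [genericPoint_closure] at h
    exact h (Set.mem_univ t)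
  let O : Γ₁.curve.left.Opens := (Γ₁.ι : _ ⟶ Z) ⁻¹ᵁ V
  have hηO : genericPoint Γ₁.curve.left ∈ O := by
    show Γ₁.ι (genericPoint Γ₁.curve.left) ∈ V
    rw [hw]
    exact hzV
  have hiso : IsIso (φ ∣_ O) := by
    haveI h1 : IsClosedImmersion ((φ ≫ (Γ₁.ι : _ ⟶ Z)) ∣_ V) := by
      rw [hφ, morphismRestrict_comp]
      haveI : IsClosedImmersion ((Γ.ι : _ ⟶ Y) ∣_ (b ⁻¹ᵁ V)) := IsZariskiLocalAtTarget.restrict ‹_› _
      infer_instance
    rw [morphismRestrict_comp] at h1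
    haveI := h1
    haveI : IsClosedImmersion (φ ∣_ O) := IsClosedImmersion.of_comp (φ ∣_ O) ((Γ₁.ι : _ ⟶ Z) ∣_ V)
    haveI : Surjective (φ ∣_ O) := IsZariskiLocalAtTarget.restrict (P := @Surjective) ⟨hsurj⟩ O
    exact isIso_of_isClosedImmersion_of_surjective (φ ∣_ O)
  refine ⟨Γ₁, φ, O, ?_, hφk, ⟨_, hηO⟩, hiso⟩
  haveI : IsProper (Γ₁.curve.left ↘ Spec (CommRingCat.of (ResidueField R))) := isProper_curve Γ₁
  exact CurveMult.GenusFinite.isFinite_of_birational (ResidueField R) Γ₁.dim_eq.le φ hφk O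
    (O.2.dense ⟨_, hηO⟩) ((φ ⁻¹ᵁ O).2.dense ⟨η, show φ η ∈ O from hφη ▸ hηO⟩) hiso

/-- The composite of two finite birational maps is one. -/
theorem hasCover_comp {Γ' : Scheme.{u}} [Γ'.Over (Spec (CommRingCat.of (ResidueField R)))]
    {X X₁ : Over (Spec (CommRingCat.of R))} (Γ : ArSurf.VertComp R X) (Γ₁ : ArSurf.VertComp R X₁)
    (φ : Γ.curve.left ⟶ Γ₁.curve.left) [IsFinite φ] (hφ : φ ≫ Γ₁.curve.hom = Γ.curve.hom)
    (O : Γ₁.curve.left.Opens) (hO : (O : Set Γ₁.curve.left).Nonempty) [IsIso (φ ∣_ O)] (h : HasCover Γ' Γ) :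
    HasCover Γ' Γ₁ := by
  obtain ⟨ν, U, hfin, hν, hU, hiso⟩ := h
  haveI := hfin
  haveI := hiso
  haveI := Γ.isIntegral
  haveI := Γ₁.isIntegral
  let W : Γ₁.curve.left.Opens :=
    ⟨(O : Set Γ₁.curve.left) ∩ (φ '' (U : Set Γ.curve.left)ᶜ)ᶜ, O.2.inter (φ.isClosedMap _ U.2.isClosed_compl).isOpen_compl⟩
  have hWU : φ ⁻¹ᵁ W ≤ U := fun a ha => by
    by_contra hn
    exact ha.2 ⟨a, hn, rfl⟩
  haveI : IsIso (φ ∣_ W) := isIso_restrict_of_le φ (U := O) fun _ hw => hw.1
  haveI : IsIso (ν ∣_ (φ ⁻¹ᵁ W)) := isIso_restrict_of_le ν hWU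
  refine ⟨ν ≫ φ, W, inferInstance, by rw [Category.assoc, hφ, hν], ?_, by rw [morphismRestrict_comp]; infer_instance⟩
  obtain ⟨t, ht⟩ := hO
  haveI := isDominant_of_iso_over φ O ⟨t, ht⟩
  have hηO : genericPoint Γ₁.curve.left ∈ O := ((genericPoint_spec _).mem_open_set_iff O.2).2 ⟨t, trivial, ht⟩
  have hηU : genericPoint Γ.curve.left ∈ U := ((genericPoint_spec _).mem_open_set_iff U.2).2 (by simpa using hU)
  refine ⟨genericPoint Γ₁.curve.left, hηO, ?_⟩
  rintro ⟨a, ha, hφa⟩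
  have hφη : φ (genericPoint Γ.curve.left) = genericPoint Γ₁.curve.left := by
    have h1 := (genericPoint_spec Γ.curve.left).image φ.continuous
    rw [Set.image_univ, φ.denseRange.closure_range] at h1
    exact h1.eq (genericPoint_spec _)
  have haO : φ a ∈ O := hφa ▸ hηO
  have := (φ ∣_ O).homeomorph.injective (a₁ := ⟨a, haO⟩) (a₂ := ⟨genericPoint Γ.curve.left, show φ _ ∈ O from hφη ▸ hηO⟩)
    (Subtype.ext ((morphismRestrict_base_coe φ O _).trans ((hφa.trans hφη.symm).trans (morphismRestrict_base_coe φ O (⟨genericPoint Γ.curve.left, show φ _ ∈ O from hφη ▸ hηO⟩ : ↥(φ ⁻¹ᵁ O))).symm)))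
  have ea : a = genericPoint Γ.curve.left := congrArg Subtype.val this
  subst ea
  exact ha hηU

/-- Following a component through a sequence of contractions. -/
theorem exists_cover_of_seq (hC : topologicalKrullDim C = 1) (hf : IsProper f) (Γ' : Scheme.{u})
    [Γ'.Over (Spec (CommRingCat.of (ResidueField R)))]
    (heu : Curv2.euler (ResidueField R) Γ' (Coh.structureModule Γ') < 0) {Y X : Scheme.{u}} {r : Y ⟶ X}
    (hr : Models.IsContractionSeq r) :
    ∀ {p : X ⟶ Spec (CommRingCat.of R)} {gX : C ⟶ X}, IsMData f X p gX →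
      ∀ {q : Y ⟶ Spec (CommRingCat.of R)}, r ≫ p = q → ∀ Γ : ArSurf.VertComp R (Over.mk q), HasCover Γ' Γ →
      ∃ Γ₀ : ArSurf.VertComp R (Over.mk p), HasCover Γ' Γ₀ := by
  induction hr with
  | @iso Y X e =>
    intro p gX hX q hq Γ h
    haveI : IsClosedImmersion (Y := Y) Γ.ι := Γ.isClosedImmersion
    refine ⟨⟨Γ.curve, (Γ.ι : _ ⟶ Y) ≫ e.hom, inferInstanceAs (IsClosedImmersion ((Γ.ι : _ ⟶ Y) ≫ e.hom)), Γ.isIntegral, Γ.dim_eq, ?_⟩, h⟩
    show ((Γ.ι : _ ⟶ Y) ≫ e.hom) ≫ p = _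
    rw [Category.assoc, hq]
    exact Γ.w
  | @step Y Z X E ι b r hι hE hb hr ih =>
    intro p gX hX q hq Γ h
    haveI := hι
    obtain ⟨g₁, h₁, -⟩ := mdata_seq hr hX
    obtain ⟨g₀, h₀, -⟩ := mdata_step h₁ ι b hb
    rw [Category.assoc] at hq
    subst hq
    haveI : IsProper (Over.mk (b ≫ r ≫ p)).hom := h₀.proper
    haveI := h₀.isNoetherian
    haveI : IsLocallyNoetherian (Over.mk (b ≫ r ≫ p)).left := inferInstanceAs (IsLocallyNoetherian Y)
    obtain ⟨Γ₁, φ, O, hfin, hφ, hO, hiso⟩ := exists_cover_step hC hf ι hE b hb h₁ Γ (not_isExcCurve_of_cover Γ' heu Γ h)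
    haveI := hfin
    haveI := hiso
    exact ih hX rfl Γ₁ (hasCover_comp Γ Γ₁ φ hφ O hO h)

end GrothLib.Contract29
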