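import Groth.Agent.Lib.Contract29.Point
import Groth.Agent.Lib.ExcP1.Universal
import Mathlib.RingTheory.Ideal.KrullsHeightTheorem
import Mathlib.RingTheory.RegularLocalRing.Defs

/-!
# The image point of an exceptional line is regular of dimension two
-/

universe u

set_option linter.all false
set_option backward.isDefEq.respectTransparency false

open CategoryTheory CategoryTheory.Limits AlgebraicGeometry Opposite TopologicalSpace IsLocalRing
open GrothLib.CartierDescent (stalkIdeal stalkIdeal_eq)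
open GrothLib.RatSing29 (gOn)

noncomputable section

namespace GrothLib.Contract29

theorem exists_prime_chain {O : Type*} [CommRing O] [IsNoetherianRing O] [IsLocalRing O] (f : O)
    (hf : f ∈ nonZeroDivisors O) (hp : (Ideal.span {f}).IsPrime) (hne : Ideal.span {f} ≠ maximalIdeal O) :
    ∃ q p : PrimeSpectrum O, q.asIdeal < p.asIdeal ∧ f ∉ p.asIdeal := by
  obtain ⟨p0, hp0, hle⟩ := Ideal.exists_minimalPrimes_le (bot_le : (⊥ : Ideal O) ≤ Ideal.span {f})
  have hfp0 : f ∉ p0 := fun h => notMem_nonZeroDivisors_of_mem_mem_minimalPrimes h hp0 hf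
  haveI := hp0.1.1
  have hfm : Ideal.span {f} ≤ maximalIdeal O := le_maximalIdeal hp.ne_top
  obtain ⟨x, hxm, hxf⟩ := SetLike.exists_of_lt (lt_of_le_of_ne hfm hne)
  have hsup : p0 ⊔ Ideal.span {x} ≤ maximalIdeal O :=
    sup_le (hle.trans hfm) ((Ideal.span_singleton_le_iff_mem _).2 hxm)
  obtain ⟨p, hp', hpm⟩ := Ideal.exists_minimalPrimes_le hsup
  haveI := hp'.1.1
  have hx : x ∈ p := hp'.1.2 (Ideal.mem_sup_right (Ideal.mem_span_singleton_self x))
  have hp0p : p0 ≤ p := le_sup_left.trans hp'.1.2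
  refine ⟨⟨p0, inferInstance⟩, ⟨p, inferInstance⟩, lt_of_le_of_ne hp0p fun h => hxf (hle (by rw [show p0 = p from h]; exact hx)), fun hfp => ?_⟩
  have hsp : Ideal.span {f} ≤ p := (Ideal.span_singleton_le_iff_mem _).2 hfp
  have hsur : Function.Surjective (Ideal.Quotient.mk p0) := Ideal.Quotient.mk_surjective
  have hker : RingHom.ker (Ideal.Quotient.mk p0) = p0 := Ideal.mk_ker
  haveI := Ideal.map_isPrime_of_surjective hsur (I := p) (hker.trans_le hp0p)
  haveI := Ideal.map_isPrime_of_surjective hsur (I := Ideal.span {f}) (hker.trans_le hle)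
  haveI : (p0.map (Ideal.Quotient.mk p0)).IsPrime := Ideal.map_isPrime_of_surjective hsur hker.le
  have back : ∀ I : Ideal O, p0 ≤ I → (I.map (Ideal.Quotient.mk p0)).comap (Ideal.Quotient.mk p0) = I := fun I hI => by
    rw [Ideal.comap_map_of_surjective _ hsur]
    exact sup_eq_left.2 (hker.trans_le hI)
  have hlt : ∀ I I' : Ideal O, p0 ≤ I → I < I' →
      I.map (Ideal.Quotient.mk p0) < I'.map (Ideal.Quotient.mk p0) := fun I I' hI hII =>
    lt_of_le_of_ne (Ideal.map_mono hII.le) fun e => hII.ne (by rw [← back I hI, e, back I' (hI.trans hII.le)])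
  rcases hsp.lt_or_eq with hlt' | heq
  · have h1 := Ideal.height_add_one_le_of_lt_of_isPrime (hlt p0 _ le_rfl (lt_of_le_of_ne hle fun h =>
      hfp0 (h ▸ Ideal.mem_span_singleton_self f)))
    have h2 := Ideal.height_add_one_le_of_lt_of_isPrime (hlt _ p hle hlt')
    have h3 := Ideal.map_height_le_one_of_mem_minimalPrimes hp'
    have h4 : ((p0.map (Ideal.Quotient.mk p0)).height + 1) + 1 ≤ 1 :=
      ((add_le_add h1 le_rfl).trans h2).trans h3
    generalize (p0.map (Ideal.Quotient.mk p0)).height = n at h4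
    induction n with
    | top => exact absurd h4 (by simp)
    | coe n => norm_cast at h4
  · exact hxf (heq ▸ hx)

variable {A : Type u} [CommRing A] {X : Scheme.{u}} [IsLocallyNoetherian X] {k : Type u} [Field k]
  (j : CohB1.ProjSpace 1 k ⟶ X) [IsClosedImmersion j] (hj : _root_.BlowUp.IsEffCartierIdeal j.ker)
include hj

theorem exists_three_points :
    ∃ η z e : X, η ⤳ z ∧ z ⤳ e ∧ η ≠ z ∧ z ∉ Set.range j ∧ η ∉ Set.range j ∧ e ∈ Set.range j := by
  haveI : IsIntegral (CohB1.ProjSpace 1 k) := ProjDim.isIntegral_proj _ 1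
  obtain ⟨c, hc⟩ := ExcP1.exists_ne_genericPoint k
  obtain ⟨U, hU, s, hs, hI⟩ := hj (j c)
  let f : X.presheaf.stalk (j c) := X.presheaf.germ U.1 (j c) hU s
  letI : Algebra Γ(X, U.1) (X.presheaf.stalk (j c)) := X.presheaf.algebra_section_stalk (⟨j c, hU⟩ : U.1)
  haveI : IsLocalization.AtPrime (X.presheaf.stalk (j c)) (U.2.primeIdealOf ⟨j c, hU⟩).asIdeal :=
    U.2.isLocalization_stalk ⟨j c, hU⟩
  have hf : f ∈ nonZeroDivisors (X.presheaf.stalk (j c)) :=
    GrothLib.BlowUp.mem_nonZeroDivisors_of_flat (algebraMap Γ(X, U.1) (X.presheaf.stalk (j c)))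
      (RingHom.flat_algebraMap_iff.2 (IsLocalization.flat _ (U.2.primeIdealOf ⟨j c, hU⟩).asIdeal.primeCompl)) hs
  have hker : RingHom.ker (j.stalkMap c).hom = Ideal.span {f} := by
    rw [ArSurf29.ker_stalkMap_eq_stalkIdeal j c, stalkIdeal_eq _ U hU, hI, Ideal.map_span, Set.image_singleton]
  have hp : (Ideal.span {f}).IsPrime := hker ▸ RingHom.ker_isPrime _
  have hne : Ideal.span {f} ≠ maximalIdeal (X.presheaf.stalk (j c)) := by
    intro h
    haveI : (Ideal.span {f}).IsMaximal := h ▸ maximalIdeal.isMaximal _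
    have hsurj := j.stalkMap_surjective c
    have hfield : IsField ((CohB1.ProjSpace 1 k).presheaf.stalk c) := by
      haveI : (RingHom.ker (j.stalkMap c).hom).IsMaximal := hker.symm ▸ ‹_›
      exact MulEquiv.isField ((Ideal.Quotient.maximal_ideal_iff_isField_quotient _).1 this)
        (RingHom.quotientKerEquivOfSurjective hsurj).toMulEquiv.symm
    refine hc (((genericPoint_spec (CohB1.ProjSpace 1 k)).specializes trivial).antisymm ?_).eq.symm
    obtain ⟨z, hz, hz'⟩ : ∃ P, (CohB1.ProjSpace 1 k).fromSpecStalk c P = genericPoint (CohB1.ProjSpace 1 k) ∧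
        P = closedPoint ((CohB1.ProjSpace 1 k).presheaf.stalk c) := by
      have hmem : genericPoint (CohB1.ProjSpace 1 k) ∈ Set.range ((CohB1.ProjSpace 1 k).fromSpecStalk c) := by
        rw [Scheme.range_fromSpecStalk]
        exact (genericPoint_spec (CohB1.ProjSpace 1 k)).specializes trivial
      obtain ⟨P, hP⟩ := hmem
      letI := hfield.toField
      exact ⟨P, hP, Subsingleton.elim (α := PrimeSpectrum ((CohB1.ProjSpace 1 k).presheaf.stalk c)) _ _⟩
    rw [← hz, hz', Scheme.fromSpecStalk_closedPoint]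
  obtain ⟨q, p, hqp, hfp⟩ := exists_prime_chain f hf hp hne
  let F := X.fromSpecStalk (j c)
  have hspec : ∀ P : PrimeSpectrum (X.presheaf.stalk (j c)), F P ⤳ j c := fun P => by
    have h : F P ∈ Set.range (X.fromSpecStalk (j c)) := ⟨P, rfl⟩
    rw [Scheme.range_fromSpecStalk] at h
    exact h
  have hoff : ∀ P : PrimeSpectrum (X.presheaf.stalk (j c)), f ∉ P.asIdeal → F P ∉ Set.range j := by
    intro P hP hr
    have h1 : F P ∈ j.ker.support :=
      (Scheme.Hom.support_ker j).ge (subset_closure hr)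
    have hPU : F P ∈ U.1 := (hspec P).mem_open U.1.2 hU
    rw [Scheme.IdealSheafData.mem_support_iff_of_mem hPU, hI, Scheme.mem_zeroLocus_iff] at h1
    refine h1 s (Ideal.mem_span_singleton_self s) ?_
    show P ∈ F ⁻¹ᵁ X.basicOpen s
    rw [Scheme.preimage_basicOpen, Scheme.fromSpecStalk_app hU, CommRingCat.comp_apply, CommRingCat.comp_apply,
      Scheme.basicOpen_res]
    refine ⟨(hspec P).mem_open U.1.2 hU, ?_⟩
    rw [basicOpen_eq_of_affine]
    exact hP
  refine ⟨F q, F p, j c, ?_, hspec p, fun h => hqp.ne ?_, hoff p hfp, hoff q (fun h => hfp (hqp.le h)), ⟨c, rfl⟩⟩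
  · exact ((PrimeSpectrum.le_iff_specializes q p).1 hqp.le).map F.continuous
  · exact congrArg PrimeSpectrum.asIdeal (F.isEmbedding.injective h)

variable [IsNoetherianRing A] (φ : X ⟶ Spec (CommRingCat.of A)) (J : Ideal A) [J.IsMaximal]
  (hfib : Set.range j = {x | J ≤ (φ x).asIdeal})
  (hinj : ∀ x x', x ∉ Set.range j → φ x = φ x' → x = x')
include hfib hinj

theorem two_le_height : 2 ≤ J.height := by
  obtain ⟨η, z, e, h1, h2, hne, hz, hη, he⟩ := exists_three_points j hj
  have he' : J = (φ e).asIdeal := ‹J.IsMaximal›.eq_of_le (φ e).isPrime.ne_top (hfib.le he)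
  have l1 : (φ η).asIdeal < (φ z).asIdeal :=
    lt_of_le_of_ne ((PrimeSpectrum.le_iff_specializes _ _).2 (h1.map φ.continuous))
      fun h => hne (hinj η z hη (PrimeSpectrum.ext h))
  have l2 : (φ z).asIdeal < J := by
    rw [he']
    exact lt_of_le_of_ne ((PrimeSpectrum.le_iff_specializes _ _).2 (h2.map φ.continuous))
      fun h => hz ((hinj z e hz (PrimeSpectrum.ext h)).symm ▸ he)
  have t1 := Ideal.height_add_one_le_of_lt_of_isPrime l1
  have t2 := Ideal.height_add_one_le_of_lt_of_isPrime l2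
  calc (2 : ℕ∞) = 0 + 1 + 1 := by norm_num
    _ ≤ (φ η).asIdeal.height + 1 + 1 := by gcongr; exact zero_le
    _ ≤ _ := (add_le_add t1 le_rfl).trans t2

/-- A point with two local generators of its ideal under an exceptional line is regular of dimension two. -/
theorem regular_of_two_generators (s : Fin (1 + 1) → A) (hs : ∀ i, s i ∈ J) (a : A) (ha : a ∉ J)
    (hgen : ∀ r ∈ J, a * r ∈ Ideal.span (Set.range s)) (O : Type u) [CommRing O] [Algebra A O]
    [IsLocalization.AtPrime O J] [IsLocalRing O] :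
    IsRegularLocalRing O ∧ ringKrullDim O = 2 := by
  classical
  haveI : IsNoetherianRing O := IsLocalization.isNoetherianRing J.primeCompl O inferInstance
  have hm : maximalIdeal O = Ideal.span (Set.range fun i => algebraMap A O (s i)) := by
    rw [← IsLocalization.AtPrime.map_eq_maximalIdeal J O]
    refine le_antisymm (Ideal.map_le_iff_le_comap.2 fun r hr => ?_) (Ideal.span_le.2 ?_)
    · have hu : IsUnit (algebraMap A O a) := IsLocalization.map_units O (⟨a, ha⟩ : J.primeCompl)
      have h := Ideal.mem_map_of_mem (algebraMap A O) (hgen r hr)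
      rw [Ideal.map_span, ← Set.range_comp, map_mul] at h
      exact (Ideal.unit_mul_mem_iff_mem _ hu).1 h
    · rintro _ ⟨i, rfl⟩
      exact Ideal.mem_map_of_mem _ (hs i)
  have hle : ((maximalIdeal O).spanFinrank : WithBot ℕ∞) ≤ 2 := by
    have : (maximalIdeal O).spanFinrank ≤ 2 := by
      rw [hm]
      refine (Submodule.spanFinrank_span_le_ncard_of_finite (Set.finite_range _)).trans ?_
      rw [← Set.image_univ]
      refine (Set.ncard_image_le Set.finite_univ).trans ?_
      simp [Set.ncard_univ]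
    exact_mod_cast this
  have hdim : (2 : WithBot ℕ∞) ≤ ringKrullDim O := by
    rw [IsLocalization.AtPrime.ringKrullDim_eq_height J O]
    exact WithBot.coe_le_coe.2 (two_le_height j hj φ J hfib hinj)
  refine ⟨IsRegularLocalRing.of_spanFinrank_maximalIdeal_le O (hle.trans hdim), le_antisymm ?_ hdim⟩
  exact (ringKrullDim_le_spanFinrank_maximalIdeal O).trans hle

end GrothLib.Contract29
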