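import Groth.Agent.Lib.Contract29.Chart
import Groth.Agent.Lib.Contract29.Dim

/-!
# A proper map contracting an exceptional line is a contraction
-/

universe u

set_option linter.all false
set_option backward.isDefEq.respectTransparency false

open CategoryTheory CategoryTheory.Limits AlgebraicGeometry Opposite TopologicalSpace
open GrothLib.CartierDescent (stalkIdeal stalkIdeal_eq stalkIdeal_eq_top_iff stalkIdeal_comap)
open GrothLib.RatSing29 (gOn)

noncomputable section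

namespace GrothLib.Contract29

theorem toGlobal_appLE {X₁ X' : Scheme.{u}} (W : X'.affineOpens) (φ : X₁ ⟶ X')
    (f : X₁ ⟶ Spec (CommRingCat.of Γ(X', W.1))) (hf : f ≫ W.2.fromSpec = φ) (r : Γ(X', W.1)) (V : X₁.Opens)
    (hV : V ≤ φ ⁻¹ᵁ W.1) :
    letI : X₁.Over (Spec (CommRingCat.of Γ(X', W.1))) := ⟨f⟩
    gOn X₁ r V = φ.appLE W.1 V hV r := by
  subst hf
  letI : X₁.Over (Spec (CommRingCat.of Γ(X', W.1))) := ⟨f⟩
  rw [← Scheme.Hom.appLE_comp_appLE f W.2.fromSpec W.1 ⊤ V W.2.fromSpec_preimage_self.ge le_top,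
    Nagata6.appLE_fromSpec]
  rfl

variable {X X' : Scheme.{u}}

/-- A proper map with trivial direct image collapsing exactly an exceptional line contracts it. -/
theorem isContractionOf_of_collapse {E : Scheme.{u}} [IsNoetherian X'] (ι : E ⟶ X) [IsClosedImmersion ι]
    (hE : Models.IsExcCurve ι) (b : X ⟶ X') [IsProper b] (happ : ∀ V, IsIso (b.app V)) (y : X')
    (hy : IsClosed ({y} : Set X')) (hfibι : Set.range ι = b ⁻¹' {y})
    (hpunct : IsIso (b ∣_ (⟨{y}ᶜ, hy.isOpen_compl⟩ : X'.Opens))) : Models.IsContractionOf ι b := by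
  obtain ⟨hcart, k, _, e, ⟨t⟩⟩ := hE
  let j : CohB1.ProjSpace 1 k ⟶ X := e.hom ≫ ι
  have hjker : j.ker = ι.ker := Scheme.Hom.ker_comp_of_isIso e.hom ι
  have hj : _root_.BlowUp.IsEffCartierIdeal j.ker := hjker.symm ▸ hcart
  have hfib : Set.range j = b ⁻¹' {y} := by
    rw [← hfibι]
    show Set.range (ι ∘ e.hom) = Set.range ι
    exact e.hom.surjective.range_comp ι
  haveI : IsIntegral (CohB1.ProjSpace 1 k) := ProjDim.isIntegral_proj _ 1
  let η := genericPoint (CohB1.ProjSpace 1 k)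
  haveI : IsLocallyNoetherian X := LocallyOfFiniteType.isLocallyNoetherian b
  let I := Scheme.IdealSheafData.vanishingIdeal (X := X') ⟨{y}, hy⟩
  obtain ⟨W, hyW, -⟩ := GrothLib.BlowUp.exists_affine_mem_le (W := (⊤ : X'.Opens)) (x := y) trivial
  let A := Γ(X', W.1)
  haveI : IsNoetherianRing A := IsLocallyNoetherian.component_noetherian W
  let J := (W.2.primeIdealOf ⟨y, hyW⟩).asIdeal
  obtain ⟨hIJ, hJmax⟩ := ExcP1.vanishingIdeal_point_ideal hy W hyW
  haveI : J.IsMaximal := hJmax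
  let X₁ : Scheme.{u} := (b ⁻¹ᵁ W.1).toScheme
  let κ : X₁ ⟶ X := (b ⁻¹ᵁ W.1).ι
  let f : X₁ ⟶ Spec (CommRingCat.of A) := (b ∣_ W.1) ≫ W.2.isoSpec.hom
  letI : X₁.Over (Spec (CommRingCat.of A)) := ⟨f⟩
  haveI : IsProper (b ∣_ W.1) := IsZariskiLocalAtTarget.restrict ‹IsProper b› W.1
  haveI : IsProper f := inferInstanceAs (IsProper ((b ∣_ W.1) ≫ W.2.isoSpec.hom))
  have hfsp : f ≫ W.2.fromSpec = κ ≫ b := by
    show ((b ∣_ W.1) ≫ W.2.isoSpec.hom) ≫ W.2.fromSpec = _
    rw [Category.assoc, IsAffineOpen.isoSpec_hom_fromSpec]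
    exact morphismRestrict_ι b W.1
  have hfapp : ∀ V, IsIso (f.app V) := fun V => by
    show IsIso (((b ∣_ W.1) ≫ W.2.isoSpec.hom).app V)
    rw [Scheme.Hom.comp_app, morphismRestrict_app]
    haveI := happ (W.1.ι ''ᵁ (W.2.isoSpec.hom ⁻¹ᵁ V))
    infer_instance
  have hr : Set.range j ⊆ Set.range κ := by
    rw [Scheme.Opens.range_ι]
    intro x hx
    show b x ∈ W.1
    rw [show b x = y from hfib.le hx]
    exact hyW
  let j₁ := IsOpenImmersion.lift κ j hr
  have hj₁ : j₁ ≫ κ = j := IsOpenImmersion.lift_fac _ _ _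
  haveI : IsClosedImmersion (j₁ ≫ κ) := by rw [hj₁]; infer_instance
  haveI : IsClosedImmersion j₁ := IsClosedImmersion.of_comp j₁ κ
  have hcart₁ := isEffCartier_restrict κ j j₁ hj₁ hj
  obtain ⟨t₁⟩ := nonempty_gr_one_restrict κ j j₁ hj₁ hj
  have hfy : ∀ z : X₁, J ≤ (f z).asIdeal ↔ b (κ z) = y := fun z => by
    have hval : W.2.fromSpec (f z) = b (κ z) := congrArg (fun φ => φ z) hfsp
    constructor
    · intro h
      rw [← hval, ← PrimeSpectrum.ext (hJmax.eq_of_le (f z).isPrime.ne_top h)]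
      exact W.2.fromSpec_primeIdealOf ⟨y, hyW⟩
    · intro h
      rw [show f z = W.2.primeIdealOf ⟨y, hyW⟩ from W.2.fromSpec.isOpenEmbedding.injective
        (hval.trans (h.trans (W.2.fromSpec_primeIdealOf ⟨y, hyW⟩).symm))]
  have hj₁κ : ∀ p, κ (j₁ p) = j p := fun p => congrArg (fun φ => φ p) hj₁
  have hfib₁ : Set.range j₁ = {z | J ≤ (f z).asIdeal} := by
    ext z
    rw [Set.mem_setOf_eq, hfy]
    refine ⟨?_, fun h => ?_⟩
    · rintro ⟨p, rfl⟩
      rw [hj₁κ]
      exact hfib.le ⟨p, rfl⟩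
    · obtain ⟨p, hp⟩ := hfib.ge h
      exact ⟨p, κ.isOpenEmbedding.injective ((hj₁κ p).trans hp)⟩
  obtain ⟨s, hsJ, hsingle, hext, a, ha, hgen⟩ := exists_point_generators f hfapp j₁ hcart₁
    (t₁ ≪≫ eqToIso (by rw [Gr, pow_one, hjker]) ≪≫ t) J hfib₁
  -- the pullback of the point is the line
  have hker : I.comap b = j.ker := by
    have h1 : (I.comap b).comap κ = j.ker.comap κ := by
      rw [ker_comap_openImmersion κ j j₁ hj₁, ← hext, ext]
      show _ = (GrothLib.BlowUp.idealSheaf J).comap f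
      rw [← Scheme.IdealSheafData.comap_comp, ← hfsp, Scheme.IdealSheafData.comap_comp, Nagata6.comap_fromSpec, hIJ]
    have key : ∀ x, stalkIdeal (I.comap b) x = stalkIdeal j.ker x := fun x => by
      by_cases hx : x ∈ b ⁻¹ᵁ W.1
      · have h2 := congrArg (fun K => stalkIdeal K (⟨x, hx⟩ : X₁)) h1
        rw [stalkIdeal_comap (I.comap b) κ, stalkIdeal_comap j.ker κ] at h2
        have hbij := ConcreteCategory.bijective_of_isIso (κ.stalkMap (⟨x, hx⟩ : X₁))
        have h3 := congrArg (Ideal.comap (κ.stalkMap (⟨x, hx⟩ : X₁)).hom) h2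
        rw [Ideal.comap_map_of_bijective _ hbij, Ideal.comap_map_of_bijective _ hbij] at h3
        exact h3
      · have hxy : b x ≠ y := fun e => hx (show b x ∈ W.1 from e ▸ hyW)
        rw [(stalkIdeal_eq_top_iff _ _).2, (stalkIdeal_eq_top_iff _ _).2]
        · intro h
          have h' : x ∈ closure (Set.range j) := (Scheme.Hom.support_ker j).le h
          rw [j.isClosedEmbedding.isClosed_range.closure_eq, hfib] at h'
          exact hxy h'
        · intro h
          rw [Scheme.IdealSheafData.support_comap] at h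
          have h' : b x ∈ I.support := h
          rw [← SetLike.mem_coe, Scheme.IdealSheafData.coe_support_vanishingIdeal] at h'
          exact hxy h'
    exact le_antisymm (DivPart.le_of_stalkIdeal fun x => (key x).le) (DivPart.le_of_stalkIdeal fun x => (key x).ge)
  -- shrink the chart
  have hya : y ∈ X'.basicOpen a := by
    have hmem : W.2.primeIdealOf ⟨y, hyW⟩ ∈ W.2.fromSpec ⁻¹ᵁ X'.basicOpen a := by
      rw [W.2.fromSpec_preimage_basicOpen]
      exact ha
    have h : W.2.fromSpec (W.2.primeIdealOf ⟨y, hyW⟩) ∈ X'.basicOpen a := hmem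
    rwa [W.2.fromSpec_primeIdealOf] at h
  let W' : X'.affineOpens := ⟨X'.basicOpen a, W.2.basicOpen a⟩
  let res := (X'.presheaf.map (homOfLE (X'.basicOpen_le a)).op).hom
  let s' : Fin (1 + 1) → Γ(X', W'.1) := fun i => res (s i)
  have hI' : I.ideal W' = J.map res := by
    rw [show J = I.ideal W from hIJ.symm]
    exact (I.map_ideal (U := W') (V := W) (X'.basicOpen_le a)).symm
  have hs' : I.ideal W' = Ideal.span (Set.range s') := by
    rw [hI']
    refine le_antisymm (Ideal.map_le_iff_le_comap.2 fun r hr => ?_) (Ideal.span_le.2 ?_)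
    · have h := Ideal.mem_map_of_mem res (hgen r hr)
      rw [Ideal.map_span, ← Set.range_comp, map_mul] at h
      exact (Ideal.unit_mul_mem_iff_mem _ (RingedSpace.isUnit_res_basicOpen X'.toRingedSpace a)).1 h
    · rintro _ ⟨i, rfl⟩
      exact Ideal.mem_map_of_mem _ (hsJ i)
  haveI : (I.ideal W').IsMaximal := by
    obtain ⟨h1, h2⟩ := ExcP1.vanishingIdeal_point_ideal hy W' hya
    exact h1.symm ▸ h2
  have hblow : _root_.BlowUp.IsBlowUp b I := by
    refine isBlowUp_of_generators j b hj hy hfib hker W' hya s' hs' (fun i hall => hsingle (s i) (hsJ i) fun p => ?_) hpunct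
    obtain ⟨U, hU, hpU, hUs⟩ := hall p
    have hUW : U.1 ≤ b ⁻¹ᵁ W.1 := hU.trans (b.preimage_mono (X'.basicOpen_le a))
    let U₁ : X₁.affineOpens := ⟨κ ⁻¹ᵁ U.1, by
      refine U.2.preimage_of_isOpenImmersion κ ?_
      rw [Scheme.Opens.opensRange_ι]; exact hUW⟩
    refine ⟨U₁, show κ (j₁ p) ∈ U.1 from (hj₁κ p).symm ▸ hpU, ?_⟩
    rw [← ker_comap_openImmersion κ j j₁ hj₁, GrothLib.BlowUp.ideal_comap_eq_map _ κ U U₁ le_rfl, hUs,
      Ideal.map_span, Set.image_singleton]
    congr 2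
    rw [toGlobal_appLE W (κ ≫ b) f hfsp (s i) U₁.1 ((κ.preimage_mono hUW).trans le_rfl),
      ← Scheme.Hom.appLE_comp_appLE κ b W.1 U.1 U₁.1 hUW le_rfl]
    show (κ.appLE U.1 U₁.1 le_rfl) (b.appLE W'.1 U.1 hU (X'.presheaf.map (homOfLE (X'.basicOpen_le a)).op (s i))) = _
    rw [← CommRingCat.comp_apply (X'.presheaf.map _) (b.appLE _ _ _), Scheme.Hom.map_appLE]
    rfl
  letI : Algebra A (X'.presheaf.stalk y) := X'.presheaf.algebra_section_stalk (⟨y, hyW⟩ : W.1)
  haveI : IsLocalization.AtPrime (X'.presheaf.stalk y) J := W.2.isLocalization_stalk ⟨y, hyW⟩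
  haveI : IsLocallyNoetherian X₁ := LocallyOfFiniteType.isLocallyNoetherian f
  have hinj : ∀ x x', x ∉ Set.range j₁ → f x = f x' → x = x' := fun x x' hx h => by
    have h' : b (κ x) = b (κ x') :=
      (congrArg (fun φ => φ x) hfsp).symm.trans ((congrArg W.2.fromSpec h).trans (congrArg (fun φ => φ x') hfsp))
    let P : X'.Opens := ⟨{y}ᶜ, hy.isOpen_compl⟩
    have hxP : κ x ∈ b ⁻¹ᵁ P := fun e => hx (hfib₁.ge ((hfy x).2 e))
    have hx'P : κ x' ∈ b ⁻¹ᵁ P := by show b (κ x') ∈ P; rw [← h']; exact hxP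
    haveI := hpunct
    have := (b ∣_ P).isOpenEmbedding.injective (a₁ := ⟨κ x, hxP⟩) (a₂ := ⟨κ x', hx'P⟩)
      (Subtype.ext (by rw [morphismRestrict_base_coe, morphismRestrict_base_coe]; exact h'))
    exact κ.isOpenEmbedding.injective (congrArg Subtype.val this :)
  obtain ⟨hreg, hdim⟩ := regular_of_two_generators j₁ hcart₁ f J hfib₁ hinj s hsJ a ha hgen (X'.presheaf.stalk y)
  refine ⟨inferInstance, inferInstance, y, hy, ?_, hreg, hdim, hblow⟩
  refine Set.eq_singleton_iff_unique_mem.2 ⟨⟨e.hom η, ?_⟩, ?_⟩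
  · show b (ι (e.hom η)) = y
    exact hfibι.le ⟨_, rfl⟩
  · rintro _ ⟨q, rfl⟩
    show b (ι q) = y
    exact hfibι.le ⟨q, rfl⟩

end GrothLib.Contract29
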