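import Groth.Agent.Lib.Nagata6.Charts
import Groth.Agent.Lib.BlowUp.Universal
import Groth.Agent.Lib.CurvePoints.Basic
import Groth.Agent.Lib.ProjDim.Const
import Groth.Agent.Lib.Chow.Prod
import Groth.Agent.S10829
import Groth.Prelude.Def_ModelsG
import Mathlib.AlgebraicGeometry.ZariskisMainTheorem

/-!
# Comparing a contraction with the blow-up of the point
-/

universe u

set_option linter.all false
set_option backward.isDefEq.respectTransparency false

open CategoryTheory CategoryTheory.Limits AlgebraicGeometry Opposite TopologicalSpace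

noncomputable section

namespace GrothLib.Contract29

/-- Charts of a blow-up at the two generators of the ideal on an affine open. -/
structure TwoCharts {B X' : Scheme.{u}} (c : B ⟶ X') (I : X'.IdealSheafData) (W : X'.affineOpens)
    (s : Fin (1 + 1) → Γ(X', W.1)) where
  /-- the charts -/
  V : Fin (1 + 1) → B.affineOpens
  le : ∀ i, (V i).1 ≤ c ⁻¹ᵁ W.1
  gen : ∀ i, c.appLE W.1 (V i).1 (le i) (s i) ∈ nonZeroDivisors Γ(B, (V i).1) ∧
    (I.comap c).ideal (V i) = Ideal.span {c.appLE W.1 (V i).1 (le i) (s i)}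
  num : ∀ i (k : Γ(B, (V i).1)), ∃ (m : ℕ) (x : Γ(X', W.1)), x ∈ I.ideal W ^ m ∧
    c.appLE W.1 (V i).1 (le i) x = k * c.appLE W.1 (V i).1 (le i) (s i) ^ m
  cover : ∀ z, c z ∈ W.1 → ∃ i, z ∈ (V i).1
  overlap : ∀ i l (φ : Γ(B, (V l).1)),
    c.appLE W.1 (V l).1 (le l) (s i) = φ * c.appLE W.1 (V l).1 (le l) (s l) → B.basicOpen φ ≤ (V i).1

theorem exists_twoCharts {B X' : Scheme.{u}} {c : B ⟶ X'} {I : X'.IdealSheafData} (hc : _root_.BlowUp.IsBlowUp c I)
    (W : X'.affineOpens) (s : Fin (1 + 1) → Γ(X', W.1)) (hs : I.ideal W = Ideal.span (Set.range s)) :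
    Nonempty (TwoCharts c I W s) := by
  obtain ⟨V, hV, h1, h2, h3, h4⟩ := Nagata6.exists_charts hc W
  let g : Fin (1 + 1) → I.ideal W := fun i => ⟨s i, hs.ge (Ideal.subset_span ⟨i, rfl⟩)⟩
  refine ⟨⟨fun i => V (g i), fun i => hV (g i), fun i => h1 (g i), fun i => h2 (g i), fun z hz => ?_,
    fun i l φ => h4 (g i) (g l) φ⟩⟩
  obtain ⟨f, hzf⟩ := h3 z hz
  let ψ := (c.appLE W.1 (V f).1 (hV f)).hom
  have hφ : ∀ i, ∃ φ : Γ(B, (V f).1), φ * ψ (f : Γ(X', W.1)) = ψ (s i) := fun i => Ideal.mem_span_singleton'.1 <| by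
    rw [show Ideal.span {ψ (f : Γ(X', W.1))} = (I.comap c).ideal (V f) from (h1 f).2.symm,
      GrothLib.BlowUp.ideal_comap_eq_map I c W (V f) (hV f)]
    exact Ideal.mem_map_of_mem _ (g i).2
  choose φ hφ using hφ
  obtain ⟨α, hα⟩ := Ideal.mem_span_range_iff_exists_fun.1 (hs.le f.2)
  have h1' : ψ (α 0) * φ 0 + ψ (α 1) * φ 1 = 1 := by
    refine (mul_cancel_right_mem_nonZeroDivisors (h1 f).1).1 ?_
    show (ψ (α 0) * φ 0 + ψ (α 1) * φ 1) * ψ f = 1 * ψ f
    rw [add_mul, mul_assoc, mul_assoc, hφ, hφ, one_mul, ← map_mul, ← map_mul, ← map_add]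
    congr 1
    rw [← hα, Fin.sum_univ_two]
  have hu : IsUnit (B.presheaf.germ (V f).1 z hzf (ψ (α 0) * φ 0 + ψ (α 1) * φ 1)) := by
    rw [h1', map_one]; exact isUnit_one
  rw [map_add, map_mul, map_mul] at hu
  rcases IsLocalRing.isUnit_or_isUnit_of_isUnit_add hu with h | h
  · exact ⟨0, h4 (g 0) f (φ 0) (hφ 0).symm ((Scheme.mem_basicOpen _ _ _ hzf).2 (isUnit_of_mul_isUnit_right h))⟩
  · exact ⟨1, h4 (g 1) f (φ 1) (hφ 1).symm ((Scheme.mem_basicOpen _ _ _ hzf).2 (isUnit_of_mul_isUnit_right h))⟩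

variable {X X' B : Scheme.{u}} {k : Type u} [Field k] (j : CohB1.ProjSpace 1 k ⟶ X) [IsClosedImmersion j]
  (b : X ⟶ X') (c : B ⟶ X') (h : X ⟶ B) (hh : h ≫ c = b)

/-- An element of the base generates the ideal of the line near a point. -/
def GenB (W : X'.affineOpens) (r : Γ(X', W.1)) (p : CohB1.ProjSpace 1 k) : Prop :=
  ∃ (U : X.affineOpens) (hU : U.1 ≤ b ⁻¹ᵁ W.1), j p ∈ U.1 ∧ j.ker.ideal U = Ideal.span {b.appLE W.1 U.1 hU r}

variable {y : X'} (hy : IsClosed ({y} : Set X')) (hfib : Set.range j = b ⁻¹' {y})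
  (hker : (Scheme.IdealSheafData.vanishingIdeal ⟨{y}, hy⟩).comap b = j.ker) (W : X'.affineOpens) (hyW : y ∈ W.1)
  (s : Fin (1 + 1) → Γ(X', W.1)) (T : TwoCharts c (Scheme.IdealSheafData.vanishingIdeal ⟨{y}, hy⟩) W s)
  (hsingle : ∀ i, ¬ ∀ p, GenB j b W (s i) p)
include hh hker

theorem preimage_le (i : Fin (1 + 1)) : h ⁻¹ᵁ (T.V i).1 ≤ b ⁻¹ᵁ W.1 := by
  rw [← hh, Scheme.Hom.comp_preimage]
  exact h.preimage_mono (T.le i)

theorem ideal_chart (i : Fin (1 + 1)) (U : X.affineOpens) (hU : U.1 ≤ h ⁻¹ᵁ (T.V i).1) :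
    j.ker.ideal U = Ideal.span {b.appLE W.1 U.1 (hU.trans (preimage_le j b c h hh hy hker W s T i)) (s i)} := by
  have e : j.ker = ((Scheme.IdealSheafData.vanishingIdeal ⟨{y}, hy⟩).comap c).comap h := by
    rw [← Scheme.IdealSheafData.comap_comp, hh, hker]
  rw [e, GrothLib.BlowUp.ideal_comap_eq_map _ h (T.V i) U hU, (T.gen i).2, Ideal.map_span, Set.image_singleton]
  congr 2
  subst hh
  rw [← CommRingCat.comp_apply, Scheme.Hom.appLE_comp_appLE]

theorem genB_of_mem (i : Fin (1 + 1)) (p : CohB1.ProjSpace 1 k) (hp : h (j p) ∈ (T.V i).1) :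
    GenB j b W (s i) p := by
  obtain ⟨U, hpU, hU⟩ := GrothLib.BlowUp.exists_affine_mem_le (W := h ⁻¹ᵁ (T.V i).1) hp
  exact ⟨U, hU.trans (preimage_le j b c h hh hy hker W s T i), hpU, ideal_chart j b c h hh hy hker W s T i U hU⟩

include hfib hyW in
theorem exists_mem_chart (p : CohB1.ProjSpace 1 k) : ∃ i, h (j p) ∈ (T.V i).1 :=
  T.cover _ (by
    rw [← Scheme.Hom.comp_apply h c, hh]
    exact (show b (j p) = y from hfib.le ⟨p, rfl⟩).symm ▸ hyW)

include hfib hyW hsingle in
theorem exists_notMem_chart (i : Fin (1 + 1)) : ∃ p, h (j p) ∉ (T.V i).1 := by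
  by_contra hc
  push Not at hc
  exact hsingle i fun p => genB_of_mem j b c h hh hy hker W s T i p (hc p)

include hfib hyW T hsingle in
/-- The comparison map is finite. -/
theorem isFinite_comparison [IsProper b] [IsProper c]
    (hinj : ∀ x x', x ∉ Set.range j → b x = b x' → x = x') : IsFinite h := by
  haveI : IsProper (h ≫ c) := hh.symm ▸ ‹IsProper b›
  haveI : IsProper h := IsProper.of_comp h c
  haveI : IsIntegral (CohB1.ProjSpace 1 k) := ProjDim.isIntegral_proj _ 1
  have hd : topologicalKrullDim (CohB1.ProjSpace 1 k) ≤ 1 := by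
    rw [Groth.Agent.S10829.result k 1]; norm_num
  haveI := Chow.isProper_toSpec 1 k
  haveI : IsNoetherian (CohB1.ProjSpace 1 k) := by
    haveI := LocallyOfFiniteType.isLocallyNoetherian (CohB1.ProjSpace.toSpec 1 k)
    haveI : CompactSpace (CohB1.ProjSpace 1 k) :=
      QuasiCompact.compactSpace_of_compactSpace (CohB1.ProjSpace.toSpec 1 k)
    exact ⟨⟩
  have hfin : ∀ z : B, (j ⁻¹' (h ⁻¹' {z})).Finite := by
    intro z
    let η := genericPoint (CohB1.ProjSpace 1 k)
    by_cases hz : IsClosed ({z} : Set B)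
    · refine CurvePoints.finite_of_isClosed hd ((hz.preimage h.continuous).preimage j.continuous) fun hη => ?_
      have hall : ∀ p, h (j p) = z := fun p =>
        ((((genericPoint_spec (CohB1.ProjSpace 1 k)).specializes trivial).map j.continuous).map h.continuous).mem_closed
          hz (hη : h (j η) ∈ ({z} : Set B))
      obtain ⟨i, hi⟩ := exists_mem_chart j b c h hh hy hfib hker W hyW s T η
      obtain ⟨p, hp⟩ := exists_notMem_chart j b c h hh hy hfib hker W hyW s T hsingle i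
      rw [hall η] at hi
      rw [hall p] at hp
      exact hp hi
    · refine (Set.finite_singleton η).subset fun p hp => ?_
      by_contra hpη
      refine hz ?_
      have hpc : IsClosed ({p} : Set (CohB1.ProjSpace 1 k)) := CurvePoints.isClosed_singleton hd hpη
      have := h.isClosedMap _ (j.isClosedEmbedding.isClosedMap _ hpc)
      rwa [Set.image_singleton, Set.image_singleton, show h (j p) = z from hp] at this
  haveI : LocallyQuasiFinite h := by
    refine LocallyQuasiFinite.of_finite_preimage_singleton _ fun z => ?_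
    have hsub : h ⁻¹' {z} ⊆ j '' (j ⁻¹' (h ⁻¹' {z})) ∪ (h ⁻¹' {z} \ Set.range j) := by
      intro x hx
      by_cases hxj : x ∈ Set.range j
      · obtain ⟨p, rfl⟩ := hxj
        exact Or.inl ⟨p, hx, rfl⟩
      · exact Or.inr ⟨hx, hxj⟩
    refine (((hfin z).image j).union ?_).subset hsub
    refine Set.Subsingleton.finite fun x hx x' hx' => hinj x x' hx.2 ?_
    rw [← hh, Scheme.Hom.comp_apply, Scheme.Hom.comp_apply, show h x = z from hx.1, show h x' = z from hx'.1]
  exact IsFinite.of_isProper_of_locallyQuasiFinite h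

end GrothLib.Contract29
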