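import Groth.Agent.Lib.Contract29.Collapse
import Groth.Agent.Lib.Semiample.Criterion
import Groth.Agent.Lib.CurvePoints.Basic
import Groth.Agent.Lib.Euler.AmpleIff
import Groth.Agent.Lib.ArSurf29.Inter

/-!
# The map of a globally generated module and the curves it contracts
-/

universe u

set_option autoImplicit false
set_option linter.all false
set_option backward.isDefEq.respectTransparency false

open CategoryTheory CategoryTheory.Limits AlgebraicGeometry TopologicalSpace IsLocalRing
open GrothLib.Cube (clsMod)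

noncomputable section

namespace GrothLib.Contract29

/-- Invertible modules are trivial on schemes mapping to one point. -/
theorem pull_eq_one_of_const {W P : Scheme.{u}} (h : W ⟶ P) {x : P} (hx : ∀ w, h w = x) {M : P.Modules}
    (hM : PicF.IsInvertible M) : Cube.pull h (clsMod hM) = 1 := by
  obtain ⟨U, hxU, ⟨φ⟩⟩ := hM x
  have hr : Set.range h.base ⊆ Set.range U.ι.base := by
    rw [Scheme.Opens.range_ι]
    rintro _ ⟨w, rfl⟩
    exact (hx w).symm ▸ hxU
  rw [← IsOpenImmersion.lift_fac U.ι h hr, ← Cube.pull_comp]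
  have h1 : Cube.pull U.ι (clsMod hM) = 1 := by
    rw [← Cube.clsMod_pullback U.ι hM]
    exact (Cube.clsMod_eq_one_iff _).2 ⟨((Scheme.Modules.restrictFunctorIsoPullback U.ι).app M).symm ≪≫ φ⟩
  rw [h1, map_one]

/-- A closed map from an integral curve is constant or has finite fibres. -/
theorem finite_preimage_of_not_const {E P : Scheme.{u}} [IsIntegral E] [IsNoetherian E]
    (hd : topologicalKrullDim E ≤ 1) (h : E ⟶ P) [UniversallyClosed h]
    (hc : ¬ ∃ x, Set.range h = {x}) (z : P) : (h ⁻¹' {z}).Finite := by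
  let η := genericPoint E
  by_cases hη : h η = z
  · refine (Set.finite_singleton η).subset fun a ha => ?_
    by_contra hne
    have hzc : IsClosed ({z} : Set P) := by
      rw [← show h '' {a} = {z} by rw [Set.image_singleton]; exact congrArg _ ha]
      exact h.isClosedMap _ (CurvePoints.isClosed_singleton hd hne)
    refine hc ⟨z, Set.Subset.antisymm ?_ (Set.singleton_subset_iff.2 ⟨η, hη⟩)⟩
    rintro _ ⟨w, rfl⟩
    exact Set.mem_singleton_iff.1 ((show z ⤳ h w from hη ▸ (genericPoint_specializes w).map h.continuous).mem_closed hzc rfl)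
  · rcases Set.eq_empty_or_nonempty (h ⁻¹' {z}) with he | ⟨a, ha⟩
    · rw [he]; exact Set.finite_empty
    have hne : a ≠ η := fun e => hη (e ▸ ha)
    have hzc : IsClosed ({z} : Set P) := by
      rw [← show h '' {a} = {z} by rw [Set.image_singleton]; exact congrArg _ ha]
      exact h.isClosedMap _ (CurvePoints.isClosed_singleton hd hne)
    exact CurvePoints.finite_of_isClosed hd (hzc.preimage h.continuous) fun h' => hη h'

/-- A globally generated invertible module comes from a map to projective space. -/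
theorem exists_map_of_gg {A : Type u} [CommRing A] {X : Scheme.{u}} (p : X ⟶ Spec (CommRingCat.of A))
    [CompactSpace X] {L : X.Modules} (hL : PicF.IsInvertible L) (hgg : Curv2.IsGloballyGenerated L) :
    ∃ (n : ℕ) (φ : X ⟶ CohB1.ProjSpace n A), φ ≫ CohB1.ProjSpace.toSpec n A = p ∧
      Cube.pull φ (clsMod (Ample.isAmple_twistProjSpace_one n A).1) = clsMod hL := by
  obtain ⟨c, ⟨e⟩⟩ := Ample.exists_cocycle hL
  obtain ⟨n, a, ha⟩ := Semiample.exists_sections c (Ample.isGloballyGenerated_of_iso e hgg)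
  let σ : Fin (n + 1) → ProjUP.Γm (c.twist 1) := fun i => a i
  have hσ : ⨆ i, c.locus (Ample.ProjMap.sec c (Iso.refl _) σ i) = ⊤ := ha
  let D := Ample.ProjMap.dataOfSections c (Iso.refl _) σ hσ p
  refine ⟨n, D.map, D.map_toSpec, ?_⟩
  obtain ⟨τ, -⟩ := Ample.ProjMap.exists_iso_pullback_map c (Iso.refl _) σ hσ p
  rw [← Cube.clsMod_pullback D.map]
  exact (Cube.clsMod_eq_iff _ hL).2 ⟨τ ≪≫ e.symm⟩

variable {R : Type u} [CommRing R] [IsDomain R] [IsDiscreteValuationRing R]
  {X : Over (Spec (CommRingCat.of R))} [IsProper X.hom]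

/-- A vertical curve is contracted by a map when the pullback of an ample module is trivial on it, and conversely. -/
theorem trivial_iff_contracted (Γ : ArSurf.VertComp R X) {P : Scheme.{u}} (φ : X.left ⟶ P) [IsProper φ]
    {H : P.Modules} (hH : CohB1.IsAmple H) {L : X.left.Modules} (hL : PicF.IsInvertible L)
    (hφ : Cube.pull φ (clsMod hH.1) = clsMod hL) :
    Nonempty ((Scheme.Modules.pullback Γ.ι).obj L ≅ Coh.structureModule Γ.curve.left) ↔
      ∃ x : P, Set.range (Γ.ι ≫ φ) = {x} := by
  haveI := Γ.isClosedImmersion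
  haveI := Γ.isIntegral
  haveI := ArSurf29.isProper_curve Γ
  haveI := Euler.isNoetherian_of_proper (X := Γ.curve.left) (ResidueField R)
  have hcls : clsMod (Kleiman.isInv_pullback Γ.ι hL) = Cube.pull (Γ.ι ≫ φ) (clsMod hH.1) := by
    rw [Cube.clsMod_pullback Γ.ι hL, ← hφ, Cube.pull_comp]
  constructor
  · intro htriv
    by_contra hc
    haveI : UniversallyClosed (Γ.ι ≫ φ) := inferInstance
    haveI : LocallyQuasiFinite (Γ.ι ≫ φ) := LocallyQuasiFinite.of_finite_preimage_singleton _ fun z =>
      finite_preimage_of_not_const Γ.dim_eq.le (Γ.ι ≫ φ) hc z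
    haveI : IsFinite (Γ.ι ≫ φ) := IsFinite.of_isProper_of_locallyQuasiFinite _
    have hA := Ample.isAmple_pullback_of_isAffineHom (Γ.ι ≫ φ) hH
    have hpos := (Euler.isAmple_iff_deg_pos (ResidueField R) Γ.dim_eq hA.1).1 hA
    obtain ⟨e⟩ : Nonempty ((Scheme.Modules.pullback (Γ.ι ≫ φ)).obj H ≅ (Scheme.Modules.pullback Γ.ι).obj L) :=
      (Cube.clsMod_eq_iff hA.1 (Kleiman.isInv_pullback Γ.ι hL)).1 ((Cube.clsMod_pullback (Γ.ι ≫ φ) hH.1).trans hcls.symm)
    obtain ⟨t⟩ := htriv
    rw [Euler.deg_of_iso _ (e ≪≫ t) 1, Euler.deg_structure] at hpos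
    exact lt_irrefl 0 hpos
  · rintro ⟨x, hx⟩
    exact (Cube.clsMod_eq_one_iff _).1
      (hcls.trans (pull_eq_one_of_const (Γ.ι ≫ φ) (fun w => hx.le ⟨w, rfl⟩) hH.1))

end GrothLib.Contract29
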