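import Groth.Agent.Lib.Contract29.Sections

/-!
# The maximal ideal of the point under an exceptional line
-/

universe u

set_option linter.all false
set_option backward.isDefEq.respectTransparency false

open CategoryTheory CategoryTheory.Limits AlgebraicGeometry Opposite TopologicalSpace
open GrothLib.InvExt (mres fres IsGen)
open GrothLib.IdealModSec (val val_injective val_smul val_mres exists_val_eq)
open GrothLib.RatSing29 (gOn)
open GrothLib.Cube (clsMod)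

noncomputable section

namespace GrothLib.Contract29

variable {X : Scheme.{u}} {A : Type u} [CommRing A] [X.Over (Spec (CommRingCat.of A))]

variable (X) in
/-- The functions given by the base, as a ring homomorphism. -/
def gHom (W : X.Opens) : A →+* Γ(X, W) :=
  (X.presheaf.map (homOfLE (le_top : W ≤ ⊤)).op).hom.comp (Coh.toGlobal (X ↘ Spec (CommRingCat.of A)))

theorem gHom_apply (W : X.Opens) (r : A) : gHom X W r = gOn X r W := rfl

theorem gOn_top (r : A) : gOn X r ⊤ = Coh.toGlobal (X ↘ Spec (CommRingCat.of A)) r := by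
  show X.presheaf.map (𝟙 (op ⊤)) _ = _
  rw [CategoryTheory.Functor.map_id]
  rfl

variable {E : Scheme.{u}} (j : E ⟶ X) [IsClosedImmersion j]

theorem exists_val_top {r : A} (hr : j.app ⊤ (gOn X r ⊤) = 0) :
    ∃ x : Γ(ClSub.idealMod (j.ker ^ 1), ⊤), val (j.ker ^ 1) ⊤ x = gOn X r ⊤ := by
  have key : ∀ I : X.IdealSheafData, I = j.ker → ∃ x : Γ(ClSub.idealMod I, ⊤), val I ⊤ x = gOn X r ⊤ := by
    rintro _ rfl
    exact (IdealModSec.app_kernel (ClSub.toSubscheme j.ker) ⊤).2 (gOn X r ⊤) ((app_eq_zero_iff j _).2 hr)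
  exact key _ (pow_one _)

theorem app_val_pow_one (x : Γ(ClSub.idealMod (j.ker ^ 1), ⊤)) : j.app ⊤ (val (j.ker ^ 1) ⊤ x) = 0 := by
  have key : ∀ I : X.IdealSheafData, I = j.ker → ∀ x : Γ(ClSub.idealMod I, ⊤), j.app ⊤ (val I ⊤ x) = 0 := by
    rintro _ rfl x
    exact (app_eq_zero_iff j _).1 (IdealModSec.app_val _ ⊤ x)
  exact key _ (pow_one _) x

theorem exists_of_app_eq_zero [IsNoetherianRing A] {S : ShortComplex X.Modules} (hS : S.ShortExact)
    (m : Γ(S.X₂, ⊤)) (hm : S.g.app ⊤ m = 0) : ∃ q, S.f.app ⊤ q = m := by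
  let m' : Coh.HH X S.X₂ 0 := (ProjCoh.H0top _).symm m
  have h : Cohom.hhMap A S.g 0 m' = 0 := by
    apply (ProjCoh.H0top _).injective
    rw [Cohom.hhMap_apply, map_zero]
    refine (ProjCoh.H0top_map ((QCoh.toAbFun X).map S.g) m').trans ?_
    rw [AddEquiv.apply_symm_apply]
    exact hm
  obtain ⟨q, hq⟩ := (Cohom.exact₂ (A := A) hS 0 m').1 h
  refine ⟨ProjCoh.H0top _ q, ?_⟩
  rw [← show ProjCoh.H0top _ m' = m from AddEquiv.apply_symm_apply _ _, ← hq, Cohom.hhMap_apply]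
  exact (ProjCoh.H0top_map ((QCoh.toAbFun X).map S.f) q).symm

section Line

variable {k : Type u} [Field k] (j : CohB1.ProjSpace 1 k ⟶ X) [IsClosedImmersion j]
  (hj : _root_.BlowUp.IsEffCartierIdeal j.ker) (t : Gr j 1 ≅ Twist.twistProjSpace 1 k 1)
include hj t

theorem subsingleton_H1_gr (m : ℕ) : Subsingleton (Coh.HH (CohB1.ProjSpace 1 k) (Gr j m) 1) := by
  refine subsingleton_H1_of_cls k (Ample.isInvertible_pullback j (isInvertible_pow j hj m)) m ?_
  rw [cls_gr j hj m]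
  exact congrArg (· ^ m) ((Cube.clsMod_eq_iff _ _).2 ⟨t⟩)

variable [IsNoetherianRing A] [IsProper (X ↘ Spec (CommRingCat.of A))] (J : Ideal A) {N : ℕ}
  (hN : ∀ U : X.affineOpens, j.ker.ideal U ^ N ≤ Ideal.span ((fun r => gOn X r U.1) '' (J : Set A)))
  (hJ : ∀ r, r ∈ J ↔ j.app ⊤ (gOn X r ⊤) = 0)
  (hA : Function.Surjective (Coh.toGlobal (X ↘ Spec (CommRingCat.of A))))
include hN hJ hA

/-- Two elements generate the ideal near the line and the point modulo the square, no single one does. -/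
theorem exists_generators :
    ∃ s : Fin (1 + 1) → A, (∀ i, s i ∈ J) ∧ (∀ p, ∃ i, GenAt j (s i) p) ∧ (∀ a ∈ J, ¬ ∀ p, GenAt j a p) ∧
      ∀ r ∈ J, ∃ (c : Fin (1 + 1) → A) (q : Γ(ClSub.idealMod (j.ker ^ (1 + 1)), ⊤)),
        val (j.ker ^ (1 + 1)) ⊤ q = gOn X (r - c 0 * s 0 - c 1 * s 1) ⊤ := by
  have hH := subsingleton_H1_gr j hj t
  obtain ⟨θ, w, hS⟩ := exists_seq j hj 1
  have hθ := surjective_gr j hj J hN hH (fun r hr => (hJ r).1 hr) 1 hS
  have htb : ∀ W, Function.Bijective (t.inv.app W) := fun W =>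
    ConcreteCategory.bijective_of_isIso ((Scheme.Modules.toPresheaf _).map t.inv |>.app (op W))
  let S : Fin (1 + 1) → Γ(Gr j 1, j ⁻¹ᵁ ⊤) := fun i => t.inv.app ⊤ (coord k i)
  have hSgen : ∀ p, ∃ (i : Fin (1 + 1)) (W : (CohB1.ProjSpace 1 k).Opens), p ∈ W ∧
      IsGen (Gr j 1) W (mres (Gr j 1) (le_top : W ≤ j ⁻¹ᵁ ⊤) (S i)) := fun p => by
    obtain ⟨i, W, hp, h⟩ := exists_gen_coord k p
    refine ⟨i, W, hp, ?_⟩
    have := h.map t.inv fun V _ => htb V
    rwa [← InvExt.mres_app] at this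
  choose x hx using fun i => hθ (S i)
  choose s hs using fun i => hA (val (j.ker ^ 1) ⊤ (x i))
  have hxs : ∀ i, val (j.ker ^ 1) ⊤ (x i) = gOn X (s i) ⊤ := fun i => by rw [gOn_top]; exact (hs i).symm
  have hsJ : ∀ i, s i ∈ J := fun i => (hJ _).2 (by rw [← hxs]; exact app_val_pow_one j (x i))
  have hcov : ∀ p, ∃ (y : Γ(ClSub.idealMod (j.ker ^ 1), ⊤)) (W : (CohB1.ProjSpace 1 k).Opens), p ∈ W ∧
      IsGen (Gr j 1) W (mres (Gr j 1) (le_top : W ≤ j ⁻¹ᵁ ⊤) (down j (θ.app ⊤ y))) := fun p => by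
    obtain ⟨i, W, hp, h⟩ := hSgen p
    exact ⟨x i, W, hp, by rw [show down j (θ.app ⊤ (x i)) = S i from hx i]; exact h⟩
  refine ⟨s, hsJ, fun p => ?_, fun a ha hall => ?_, fun r hr => ?_⟩
  · obtain ⟨i, W, hp, h⟩ := hSgen p
    exact ⟨i, genAt_of_isGen j hj θ (s i) (x i) (hxs i) p hp
      (by rw [show down j (θ.app ⊤ (x i)) = S i from hx i]; exact h)⟩
  · obtain ⟨y, hy⟩ := exists_val_top j ((hJ a).1 ha)
    have hg : IsGen (Gr j 1) ⊤ (down j (θ.app ⊤ y)) := isGen_of_genAt j hj θ a y hy hcov hall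
    exact not_isGen_twist k _ (hg.map t.hom fun V _ =>
      ConcreteCategory.bijective_of_isIso ((Scheme.Modules.toPresheaf _).map t.hom |>.app (op V)))
  · obtain ⟨y, hy⟩ := exists_val_top j ((hJ r).1 hr)
    obtain ⟨d, hd⟩ := exists_eq_coord k (t.hom.app ⊤ (down j (θ.app ⊤ y)))
    choose d' hd' using fun i => surjective_app j hj J hN hH (fun r hr => (hJ r).1 hr) (d i)
    choose c hc using fun i => hA (d' i)
    have hcd : ∀ i, j.app ⊤ (gOn X (c i) ⊤) = d i := fun i => by rw [gOn_top, hc, hd']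
    let m : Γ(ClSub.idealMod (j.ker ^ 1), ⊤) := y - gOn X (c 0) ⊤ • x 0 - gOn X (c 1) ⊤ • x 1
    have hval : val (j.ker ^ 1) ⊤ m = gOn X (r - c 0 * s 0 - c 1 * s 1) ⊤ := by
      have e : gOn X (r - c 0 * s 0 - c 1 * s 1) ⊤ =
          gOn X r ⊤ - gOn X (c 0) ⊤ * gOn X (s 0) ⊤ - gOn X (c 1) ⊤ * gOn X (s 1) ⊤ := by
        simp only [← gHom_apply, map_sub, map_mul]
      rw [e, ← hy, ← hxs 0, ← hxs 1, ← val_smul, ← val_smul]
      exact (map_sub ((ClSub.idealModι _).app ⊤).hom _ _).trans (congrArg (· - _) (map_sub _ _ _))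
    have h0 : θ.app ⊤ m = 0 := by
      have h1 : t.hom.app ⊤ (down j (θ.app ⊤ y)) =
          t.hom.app ⊤ (d 0 • (show Γ(Gr j 1, (⊤ : (CohB1.ProjSpace 1 k).Opens)) from S 0)) + t.hom.app ⊤ (d 1 • (show Γ(Gr j 1, (⊤ : (CohB1.ProjSpace 1 k).Opens)) from S 1)) := by
        rw [hd, Scheme.Modules.Hom.app_smul, Scheme.Modules.Hom.app_smul]
        have e : ∀ i, t.hom.app ⊤ (S i) = coord k i := fun i =>
          congrArg (fun φ : Twist.twistProjSpace 1 k 1 ⟶ Twist.twistProjSpace 1 k 1 => φ.app ⊤ (coord k i)) t.inv_hom_id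
        rw [e, e]
      rw [← map_add] at h1
      have h2 := (ConcreteCategory.bijective_of_isIso
        ((Scheme.Modules.toPresheaf _).map t.hom |>.app (op (⊤ : (CohB1.ProjSpace 1 k).Opens)))).1 h1
      show θ.app ⊤ (y - gOn X (c 0) ⊤ • x 0 - gOn X (c 1) ⊤ • x 1) = 0
      rw [map_sub, map_sub, Scheme.Modules.Hom.app_smul, Scheme.Modules.Hom.app_smul, sub_sub, sub_eq_zero]
      refine Eq.trans (h2 : down j (θ.app ⊤ y) = _) ?_
      show _ = j.app ⊤ (gOn X (c 0) ⊤) • down j (θ.app ⊤ (x 0)) + j.app ⊤ (gOn X (c 1) ⊤) • down j (θ.app ⊤ (x 1))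
      rw [hcd, hcd, show down j (θ.app ⊤ (x 0)) = S 0 from hx 0, show down j (θ.app ⊤ (x 1)) = S 1 from hx 1]
    obtain ⟨q, hq⟩ := exists_of_app_eq_zero (A := A) hS m h0
    exact ⟨c, q, ((val_idealIncl (pow_succ_le j.ker 1) ⊤ q).symm.trans (congrArg _ hq)).trans hval⟩

end Line

end GrothLib.Contract29
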