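import Groth.Agent.Lib.Contract29.CompTrace
import Groth.Agent.Lib.Contract29.GenusZeroMin
import Groth.Agent.Lib.ArSurf29.RedFibre
import Groth.Agent.Lib.ArSurf29.GenusFormula
import Groth.Agent.Lib.ArSurf29.Global
import Mathlib.AlgebraicGeometry.Morphisms.Smooth

/-!
# A minimal model with a component of full genus is smooth
-/

universe u

set_option autoImplicit false
set_option linter.all false
set_option backward.isDefEq.respectTransparency false

open CategoryTheory CategoryTheory.Limits AlgebraicGeometry TopologicalSpace IsLocalRing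

noncomputable section

namespace GrothLib.Contract29

open GrothLib.ArSurf29

variable {R : Type u} [CommRing R] [IsDomain R] [IsDiscreteValuationRing R]
  {C : Scheme.{u}} {f : C ⟶ Spec (CommRingCat.of (FractionRing R))} [IsIntegral C]
  {Z : Scheme.{u}} {p : Z ⟶ Spec (CommRingCat.of R)} {g : C ⟶ Z}

/-- A reduced irreducible closed fibre is its only component. -/
theorem exists_fibre_iso_single (hZ : IsMData f Z p g) {Γ : Fin 1 → ArSurf.VertComp R (Over.mk p)}
    (hΓ : Models.IsComponentList R (Over.mk p) Γ) (hm : Models.mult R (Over.mk p) (Γ 0) = 1) :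
    ∃ ε : Models.specialFibre R Z p ≅ (Γ 0).curve.left,
      ε.hom ≫ (Γ 0).curve.hom = pullback.snd p (Spec.map (CommRingCat.ofHom (algebraMap R (ResidueField R)))) := by
  let ZZ : Over (Spec (CommRingCat.of R)) := Over.mk p
  haveI := hZ.isNoetherian
  haveI : IsProper ZZ.hom := hZ.proper
  haveI : Flat ZZ.hom := hZ.flat
  haveI : IsLocallyNoetherian ZZ.left := inferInstanceAs (IsLocallyNoetherian Z)
  haveI : IsIntegral ZZ.left := hZ.isIntegral
  let Γ₀ := Γ 0
  have hfib : Models.specialFibreIdeal R ZZ = Γ₀.ι.ker := by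
    rw [fibre_eq_prod (X := ZZ) hΓ hZ.reg, Fin.prod_univ_one, hm, pow_one]
  let res := Spec.map (CommRingCat.ofHom (algebraMap R (ResidueField R)))
  haveI : IsClosedImmersion res := IsClosedImmersion.spec_of_surjective _ IsLocalRing.residue_surjective
  have hker : (pullback.fst p res).ker = Γ₀.ι.ker := (ker_fst_residue (X := ZZ)).trans hfib
  haveI : IsClosedImmersion (Y := Z) Γ₀.ι := Γ₀.isClosedImmersion
  let a : Models.specialFibre R Z p ⟶ Γ₀.curve.left := IsClosedImmersion.lift (Z := Z) Γ₀.ι (pullback.fst p res) hker.ge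
  have ha : a ≫ Γ₀.ι = pullback.fst p res := IsClosedImmersion.lift_fac _ _ _
  let c : Γ₀.curve.left ⟶ Models.specialFibre R Z p := IsClosedImmersion.lift (pullback.fst p res) (Γ₀.ι : _ ⟶ Z) hker.le
  have hc : c ≫ pullback.fst p res = Γ₀.ι := IsClosedImmersion.lift_fac _ _ _
  let ε : Models.specialFibre R Z p ≅ Γ₀.curve.left :=
    ⟨a, c, by rw [← cancel_mono (pullback.fst p res), Category.assoc, hc, ha, Category.id_comp],
      by rw [← cancel_mono (Γ₀.ι : _ ⟶ Z), Category.assoc, ha, hc, Category.id_comp]⟩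
  refine ⟨ε, ?_⟩
  rw [← cancel_mono res]
  show (a ≫ Γ₀.curve.hom) ≫ res = _
  rw [Category.assoc, ← pullback.condition, ← ha]
  erw [Category.assoc]
  exact congrArg (a ≫ ·) Γ₀.w.symm

/-- A morphism to a discrete valuation ring's spectrum with smooth generic and closed fibres is smooth. -/
theorem smooth_of_fibres (hZ : IsMData f Z p g) [Smooth f]
    (hk : Smooth (pullback.snd p (Spec.map (CommRingCat.ofHom (algebraMap R (ResidueField R)))))) : Smooth p := by
  haveI := hZ.proper
  haveI := hZ.flat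
  haveI : IsNoetherianRing R := inferInstance
  haveI : LocallyOfFinitePresentation p := inferInstance
  let sK := Spec.map (CommRingCat.ofHom (algebraMap R (FractionRing R)))
  let sk := Spec.map (CommRingCat.ofHom (algebraMap R (IsLocalRing.ResidueField R)))
  have hK : Smooth (pullback.snd p sK) := by
    have : pullback.snd p sK = hZ.pb.isoPullback.inv ≫ f := (hZ.pb.isoPullback_inv_snd).symm
    rw [this]
    infer_instance
  have key : ∀ {T : Scheme.{u}} (t : T ⟶ Spec (CommRingCat.of R)) (s : Scheme.{u}) (u' : T ⟶ s)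
      (v : s ⟶ Spec (CommRingCat.of R)), u' ≫ v = t → Smooth (pullback.snd p v) → Smooth (pullback.snd p t) :=
    fun {T} t s u' v h hv => by
      subst h
      rw [← pullbackLeftPullbackSndIso_inv_snd_snd (f := p) (g := v) (g' := u')]
      infer_instance
  refine Smooth.of_smooth_fiberToSpecResidueField p fun y => ?_
  show Smooth (pullback.snd p ((Spec (CommRingCat.of R)).fromSpecResidueField y))
  obtain ⟨φ, hφ⟩ : ∃ φ : CommRingCat.of R ⟶ (Spec (CommRingCat.of R)).residueField y, Spec.map φ = (Spec (CommRingCat.of R)).fromSpecResidueField y := ⟨_, Spec.map_preimage _⟩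
  rw [← hφ]
  by_cases hker : RingHom.ker φ.hom = ⊥
  · have hinj : Function.Injective φ.hom := (RingHom.injective_iff_ker_eq_bot _).2 hker
    refine key _ _ (Spec.map (CommRingCat.ofHom (IsFractionRing.lift (K := FractionRing R) hinj))) sK ?_ hK
    rw [← Spec.map_comp]
    congr 1
    ext r
    exact IsFractionRing.lift_algebraMap hinj r
  · haveI : (RingHom.ker φ.hom).IsPrime := RingHom.ker_isPrime _
    let ψ : R →+* (Spec (CommRingCat.of R)).residueField y := φ.hom
    haveI : (RingHom.ker ψ).IsPrime := RingHom.ker_isPrime _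
    have hm : RingHom.ker ψ = IsLocalRing.maximalIdeal R :=
      IsLocalRing.eq_maximalIdeal (Ring.DimensionLEOne.maximalOfPrime hker inferInstance)
    let l : IsLocalRing.ResidueField R →+* (Spec (CommRingCat.of R)).residueField y :=
      Ideal.Quotient.lift (IsLocalRing.maximalIdeal R) ψ fun r hr => RingHom.mem_ker.1 (hm.ge hr)
    refine key _ _ (Spec.map (CommRingCat.ofHom l)) sk ?_ hk
    rw [← Spec.map_comp]
    congr 1

/-- Components with the same generic point have the same covers. -/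
theorem hasCover_of_genPt_eq {Γ' : Scheme.{u}} [Γ'.Over (Spec (CommRingCat.of (ResidueField R)))]
    {X : Over (Spec (CommRingCat.of R))} (Γ₀ Γ₁ : ArSurf.VertComp R X)
    (h : Models.genPtOf R X Γ₁ = Models.genPtOf R X Γ₀) (hc : HasCover Γ' Γ₀) : HasCover Γ' Γ₁ := by
  haveI := Γ₀.isClosedImmersion
  haveI := Γ₁.isClosedImmersion
  haveI := Γ₁.isIntegral
  have hker : Γ₁.ι.ker = Γ₀.ι.ker := by rw [ker_eq_ptIdeal, ker_eq_ptIdeal, h]
  let a := IsClosedImmersion.lift Γ₁.ι Γ₀.ι hker.le
  let c := IsClosedImmersion.lift Γ₀.ι Γ₁.ι hker.ge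
  have ha : a ≫ Γ₁.ι = Γ₀.ι := IsClosedImmersion.lift_fac _ _ _
  have hc' : c ≫ Γ₀.ι = Γ₁.ι := IsClosedImmersion.lift_fac _ _ _
  let ε : Γ₀.curve.left ≅ Γ₁.curve.left :=
    ⟨a, c, by rw [← cancel_mono Γ₀.ι, Category.assoc, hc', ha, Category.id_comp],
      by rw [← cancel_mono Γ₁.ι, Category.assoc, ha, hc', Category.id_comp]⟩
  have hk : ε.hom ≫ Γ₁.curve.hom = Γ₀.curve.hom := by
    haveI : IsClosedImmersion (Spec.map (CommRingCat.ofHom (residue R))) :=
      IsClosedImmersion.spec_of_surjective _ residue_surjective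
    rw [← cancel_mono (Spec.map (CommRingCat.ofHom (residue R))), Category.assoc, ← Γ₁.w, ← Γ₀.w]
    show a ≫ Γ₁.ι ≫ X.hom = _
    rw [reassoc_of% ha]
  haveI : IsIso ε.hom := ε.isIso_hom
  haveI : IsFinite ε.hom := inferInstance
  exact hasCover_comp Γ₀ Γ₁ ε.hom hk ⊤ ⟨genericPoint Γ₁.curve.left, trivial⟩ hc

/-- A minimal model with a component dominated by a smooth curve of at least the genus of `C` is smooth. -/
theorem smooth_of_cover (hC : topologicalKrullDim C = 1) (hf : IsProper f) (hH0 : IsIso f.appTop) [Smooth f]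
    (hg : 2 ≤ Models.curveGenus (FractionRing R) C f) (Γ' : Scheme.{u})
    [Γ'.Over (Spec (CommRingCat.of (ResidueField R)))] [Smooth (Γ' ↘ Spec (CommRingCat.of (ResidueField R)))]
    (hgen : (Models.curveGenus (FractionRing R) C f : ℤ) ≤
      1 - Curv2.euler (ResidueField R) Γ' (Coh.structureModule Γ'))
    (hZ : IsMData f Z p g) (hmin : ∀ Γ : ArSurf.VertComp R (Over.mk p), ¬ Models.IsExcCurve Γ.ι)
    (Γ₀ : ArSurf.VertComp R (Over.mk p)) (hc : HasCover Γ' Γ₀) : Smooth p := by
  let ZZ : Over (Spec (CommRingCat.of R)) := Over.mk p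
  haveI := hZ.isNoetherian
  haveI : IsProper ZZ.hom := hZ.proper
  haveI : Flat ZZ.hom := hZ.flat
  haveI : IsLocallyNoetherian ZZ.left := inferInstanceAs (IsLocallyNoetherian Z)
  haveI : IsIntegral ZZ.left := hZ.isIntegral
  obtain ⟨n, Γ, hΓ⟩ := exists_componentList (X := ZZ) (hZ.dim_eq hC hf)
  obtain ⟨L, hL⟩ := exists_inverses (X := ZZ) hZ.reg hΓ
  obtain ⟨i, hi⟩ := exists_genPt_eq (X := ZZ) hΓ Γ₀
  obtain ⟨ν, U, hfin, hν, hU, hiso⟩ := hasCover_of_genPt_eq Γ₀ (Γ i) hi hc
  haveI := hfin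
  haveI := hiso
  haveI := (Γ i).isIntegral
  haveI : IsProper ((Γ i).curve.left ↘ Spec (CommRingCat.of (ResidueField R))) := isProper_curve (Γ i)
  have hle := euler_le_of_birational (ResidueField R) (Γ i).dim_eq.le ν hν U hU
  haveI := Cohom.isQuasicoherent_structureModule (Γ i).curve.left
  rw [Euler.euler_eq_sub (ResidueField R) (Γ i).dim_eq.le] at hle
  change (Models.wdeg R ZZ (Γ i) : ℤ) - (Models.h1 R ZZ (Γ i) : ℤ) ≤ _ ∧ _ at hle
  have hgen' := genus_formula (X := ZZ) hZ.reg hΓ hL hZ.pb hH0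
  have hmi : (1 : ℤ) ≤ Models.mult R ZZ (Γ i) := by exact_mod_cast mult_pos (isMaxComp hΓ i) hZ.reg
  have hn : n = 1 := by
    by_contra hn
    haveI : Nontrivial (Fin n) := Fin.nontrivial_iff_two_le.2 (by have := i.pos; omega)
    have hconn := isPreconnected_fibre (X := ZZ) hZ.pb hH0
    have hneg := inter_self_neg (X := ZZ) hZ.reg hΓ hL hconn i
    have hnn : ∀ j ∈ Finset.univ, 0 ≤ (Models.mult R ZZ (Γ j) : ℤ) *
        (2 * ((Models.h1 R ZZ (Γ j) : ℤ) - (Models.wdeg R ZZ (Γ j) : ℤ)) - ArSurf.inter R ZZ (L j) (Γ j)) :=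
      fun j _ => mul_nonneg (Int.natCast_nonneg _) (by
        have := canonical_deg_nonneg (X := ZZ) hZ.reg hΓ hL hconn hmin j
        linarith)
    have h1 := Finset.single_le_sum hnn (Finset.mem_univ i)
    nlinarith
  subst hn
  obtain rfl : i = 0 := Subsingleton.elim _ _
  have h2 := sum_mult_inter (X := ZZ) hZ.reg hΓ hL 0
  rw [Fin.sum_univ_one] at h2 hgen'
  have h0 : ArSurf.inter R ZZ (L 0) (Γ 0) = 0 := (mul_eq_zero.1 h2).resolve_left (by omega)
  rw [h0, sub_zero] at hgen'
  have hm : Models.mult R ZZ (Γ 0) = 1 := by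
    have : (Models.mult R ZZ (Γ 0) : ℤ) ≤ 1 := by nlinarith
    omega
  rw [hm] at hgen'
  push_cast at hgen'
  haveI := hle.2 (by
    change _ = (Models.wdeg R ZZ (Γ 0) : ℤ) - (Models.h1 R ZZ (Γ 0) : ℤ)
    omega)
  obtain ⟨ε, hε⟩ := exists_fibre_iso_single hZ hΓ hm
  refine smooth_of_fibres hZ ?_
  haveI : Smooth (Γ 0).curve.hom := by
    have e : (Γ 0).curve.hom = inv ν ≫ (Γ' ↘ Spec (CommRingCat.of (ResidueField R))) := by
      rw [IsIso.eq_inv_comp]
      exact hν
    rw [e]
    infer_instance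
  rw [← hε]
  infer_instance

end GrothLib.Contract29
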