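import Groth.Agent.Lib.Contract29.Generators
import Groth.Agent.Lib.IdealMul9.Basic

/-!
# The Koszul sequence of two generators of an invertible ideal
-/

universe u

set_option linter.all false
set_option backward.isDefEq.respectTransparency false

open CategoryTheory CategoryTheory.Limits AlgebraicGeometry Opposite TopologicalSpace
open GrothLib.IdealModSec (val val_injective val_smul exists_val_eq val_mem val_zero app_kernel)
open GrothLib.RatSing29 (gOn GenBy P phi mulMap val_mulMap val_phi epi_phi idealMod_qc qc_biproduct exists_koszul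
  ideal_pow_eq exists_section_of_biproduct app_biproduct_ext)

noncomputable section

namespace GrothLib.Contract29

variable {X : Scheme.{u}} {A : Type u} [CommRing A] [X.Over (Spec (CommRingCat.of A))]
  {I : X.IdealSheafData} {s : Fin 2 → A} (hI : GenBy I s) (hE : _root_.BlowUp.IsEffCartierIdeal I)

/-- The syzygy of the two generators. -/
def syz : P I 0 ⟶ ⨁ fun _ : Fin 2 => P I (0 + 1) :=
  biproduct.lift ![mulMap hI 0 1, -mulMap hI 0 0]

theorem val_neg_mulMap (i : Fin 2) (U : X.Opens) (z : Γ(P I 0, U)) :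
    val (I ^ (0 + 1)) U ((-mulMap hI 0 i).app U z) = -(gOn X (s i) U * val (I ^ 0) U z) := by
  rw [← val_mulMap hI 0 i U z]
  exact map_neg ((ClSub.idealModι (I ^ (0 + 1))).app U).hom _

theorem syz_phi : syz hI ≫ phi hI (0 + 1) = 0 := by
  apply Scheme.Modules.hom_ext
  intro U
  refine AddCommGrpCat.hom_ext (AddMonoidHom.ext fun z => val_injective _ _ ?_)
  show val _ U ((phi hI (0 + 1)).app U ((syz hI).app U z)) = val _ U 0
  rw [val_phi, Fin.sum_univ_two, val_zero]
  show gOn X (s 0) U * val _ U ((syz hI ≫ biproduct.π (fun _ : Fin 2 => P I (0 + 1)) 0).app U z) +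
    gOn X (s 1) U * val _ U ((syz hI ≫ biproduct.π (fun _ : Fin 2 => P I (0 + 1)) 1).app U z) = 0
  rw [syz, biproduct.lift_π, biproduct.lift_π]
  show gOn X (s 0) U * val (I ^ (0 + 1)) U ((mulMap hI 0 1).app U z) +
    gOn X (s 1) U * val (I ^ (0 + 1)) U ((-mulMap hI 0 0).app U z) = 0
  rw [val_mulMap, val_neg_mulMap]
  ring

include hI hE

theorem bijective_syz_local : IsIso (kernel.lift (phi hI (0 + 1)) (syz hI) (syz_phi hI)) := by
  haveI := idealMod_qc I 0
  haveI := idealMod_qc I (0 + 1 + 1)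
  haveI := qc_biproduct (F := fun _ : Fin 2 => P I (0 + 1)) fun _ => idealMod_qc I (0 + 1)
  haveI := QCoh.isQuasicoherent_kernel (phi hI (0 + 1))
  choose U hxU t ht hU using hE
  have hcomp : ∀ (V : X.Opens) (z : Γ(P I 0, V)) (c : Fin 2),
      val (I ^ (0 + 1)) V ((biproduct.π (fun _ : Fin 2 => P I (0 + 1)) c).app V ((syz hI).app V z)) =
        ![gOn X (s 1) V * val (I ^ 0) V z, -(gOn X (s 0) V * val (I ^ 0) V z)] c := fun V z c => by
    show val _ V ((syz hI ≫ biproduct.π (fun _ : Fin 2 => P I (0 + 1)) c).app V z) = _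
    rw [syz, biproduct.lift_π]
    fin_cases c
    · exact val_mulMap hI 0 1 V z
    · exact val_neg_mulMap hI 0 V z
  haveI : Epi (kernel.lift (phi hI (0 + 1)) (syz hI) (syz_phi hI)) := by
    refine FunMor20.epi_of_surjective_cover _ (fun x : X => (U x).1) (fun x => (U x).2) (fun x => ⟨x, hxU x⟩)
      fun x w => ?_
    let V := (U x).1
    let m := (kernel.ι (phi hI (0 + 1))).app V w
    obtain ⟨z, hz, hzx⟩ := (exists_koszul (fun i => gOn X (s i) V) (ht x) ((hI (U x)).symm.trans (hU x)) 0).2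
      (fun c => val (I ^ (0 + 1)) V ((biproduct.π (fun _ : Fin 2 => P I (0 + 1)) c).app V m))
      (fun c => by rw [← hU x, ← ideal_pow_eq]; exact val_mem _ (U x) _)
      (by
        rw [← val_phi hI (0 + 1) V m]
        show val _ V ((kernel.ι (phi hI (0 + 1)) ≫ phi hI (0 + 1)).app V w) = 0
        rw [kernel.condition]
        exact val_zero _ _)
    obtain ⟨p, hp⟩ := exists_val_eq (I ^ 0) (U x) (a := z 0 1 - z 1 0) (by simp [ideal_pow_eq])
    refine ⟨p, (app_kernel (phi hI (0 + 1)) V).1 ?_⟩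
    show (kernel.lift (phi hI (0 + 1)) (syz hI) (syz_phi hI) ≫ kernel.ι (phi hI (0 + 1))).app V p = m
    rw [kernel.lift_ι]
    refine app_biproduct_ext V fun c => val_injective _ _ ?_
    rw [hcomp, hp, ← hzx c, Fin.sum_univ_two, Fin.sum_univ_two]
    fin_cases c <;> simp <;> ring
  haveI : Mono (syz hI) := by
    refine IdealMul9.mono_of_injective_cover (idealMod_qc I 0)
      (qc_biproduct (F := fun _ : Fin 2 => P I (0 + 1)) fun _ => idealMod_qc I (0 + 1)) _ U (fun x => ⟨x, hxU x⟩)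
      fun x a b hab => val_injective _ _ ?_
    obtain ⟨e, he⟩ := Ideal.mem_span_range_iff_exists_fun.1
      (((hI (U x)).symm.trans (hU x)).ge (Ideal.mem_span_singleton_self (t x)))
    have h : ∀ c, ![gOn X (s 1) (U x).1 * val (I ^ 0) (U x).1 a, -(gOn X (s 0) (U x).1 * val (I ^ 0) (U x).1 a)] c =
        ![gOn X (s 1) (U x).1 * val (I ^ 0) (U x).1 b, -(gOn X (s 0) (U x).1 * val (I ^ 0) (U x).1 b)] c := fun c => by
      rw [← hcomp, ← hcomp, hab]
    have h1 := h 0
    have h2 := h 1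
    simp only [Matrix.cons_val_zero, Matrix.cons_val_one, neg_inj] at h1 h2
    refine (mul_cancel_left_mem_nonZeroDivisors (ht x)).1 ?_
    rw [← he, Fin.sum_univ_two, add_mul, add_mul, mul_assoc, mul_assoc, mul_assoc, mul_assoc, h1, h2]
  haveI : Mono (kernel.lift (phi hI (0 + 1)) (syz hI) (syz_phi hI)) := by
    haveI : Mono (kernel.lift (phi hI (0 + 1)) (syz hI) (syz_phi hI) ≫ kernel.ι (phi hI (0 + 1))) := by
      rw [kernel.lift_ι]; infer_instance
    exact mono_of_mono _ (kernel.ι (phi hI (0 + 1)))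
  exact isIso_of_mono_of_epi _

/-- A multiple of every section of the square is a combination of the generators. -/
theorem exists_combination_mul [IsNoetherianRing A] (a : A) (hk : ∀ x : Coh.HH X (P I 0) 1, a • x = 0)
    (q : Γ(P I (0 + 1 + 1), ⊤)) :
    ∃ v : Fin 2 → Γ(P I (0 + 1), ⊤),
      gOn X (s 0) ⊤ * val (I ^ (0 + 1)) ⊤ (v 0) + gOn X (s 1) ⊤ * val (I ^ (0 + 1)) ⊤ (v 1) =
        gOn X a ⊤ * val (I ^ (0 + 1 + 1)) ⊤ q := by
  haveI := epi_phi hI hE (0 + 1)
  haveI := bijective_syz_local hI hE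
  have hS : (ShortComplex.mk (kernel.ι (phi hI (0 + 1))) (phi hI (0 + 1)) (kernel.condition _)).ShortExact :=
    { exact := ShortComplex.exact_of_f_is_kernel _ (kernelIsKernel _) }
  have hk' : ∀ x : Coh.HH X (kernel (phi hI (0 + 1))) 1, a • x = 0 := fun x => by
    let κ := asIso (kernel.lift (phi hI (0 + 1)) (syz hI) (syz_phi hI))
    have e : x = Cohom.hhMap A κ.hom 1 (Cohom.hhMap A κ.inv 1 x) := by
      simp only [Cohom.hhMap_apply]
      rw [← Sheaf.H.map_comp_apply, ← Functor.map_comp, κ.inv_hom_id, CategoryTheory.Functor.map_id]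
      exact (Sheaf.H.map_id_apply x).symm
    rw [e, ← map_smul, hk, map_zero]
  let z' : Coh.HH X (P I (0 + 1 + 1)) 0 := (ProjCoh.H0top _).symm q
  obtain ⟨y, hy⟩ := (Cohom.exact₃ (A := A) hS 0 (a • z')).1 (by rw [map_smul]; exact hk' _)
  let v := ProjCoh.H0top _ y
  refine ⟨fun i => (biproduct.π (fun _ : Fin 2 => P I (0 + 1)) i).app ⊤ v, ?_⟩
  have h3 : (phi hI (0 + 1)).app ⊤ v = gOn X a ⊤ • q := by
    refine ((ProjCoh.H0top_map ((QCoh.toAbFun X).map (phi hI (0 + 1))) y).symm.trans (congrArg _ hy)).trans ?_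
    rw [ProjCoh.H0top_smul, AddEquiv.apply_symm_apply, gOn_top]
  rw [← val_smul (I ^ (0 + 1 + 1)), ← h3, val_phi, Fin.sum_univ_two]

end GrothLib.Contract29
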