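import Groth.Agent.Lib.GrTilde.Amp
import Groth.Agent.Lib.Hyperplane.GlobalSections
import Groth.Agent.Lib.ProjCohom.Results
import Groth.Agent.Lib.ProjCohom.Laurent
import Groth.Agent.Lib.CMReg.StructureMain
import Groth.Agent.Lib.Cube.Pic
import Groth.Agent.Lib.ArSurf29.SmoothFibre
import Groth.Agent.Lib.SemiTriv10.Main

/-!
# The twist `O(1)` on the projective line over a field
-/

universe u

set_option linter.all false
set_option backward.isDefEq.respectTransparency false

open CategoryTheory CategoryTheory.Limits AlgebraicGeometry Opposite TopologicalSpace MvPolynomial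
open GrothLib.InvExt (mres IsGen)
open GrothLib.Ample.ProjTwist (ev evT gsec)
open GrothLib.Cube (clsMod)

noncomputable section

namespace GrothLib.Contract29

variable (k : Type u) [Field k]

/-- A power of the class of `O(1)` is the class of `O(n)`. -/
theorem cls_twist_pow : ∀ n : ℕ, clsMod (CMReg.isInvertible_twist (n := 1) (k := k) (n : ℤ)) =
    clsMod (CMReg.isInvertible_twist (n := 1) (k := k) 1) ^ n
  | 0 => by
    rw [pow_zero]
    exact (Cube.clsMod_eq_one_iff _).2 (by simpa using CMReg.nonempty_twist_zero (n := 1) (k := k))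
  | n + 1 => by
    rw [pow_succ, ← cls_twist_pow n, ← Cube.clsMod_tensorMod]
    exact ((Cube.clsMod_eq_iff _ _).2 (CMReg.nonempty_twist_add (n := 1) (k := k) (by push_cast; ring))).symm

/-- Powers of `O(1)` have no first cohomology. -/
theorem subsingleton_H1_of_cls {L : (CohB1.ProjSpace 1 k).Modules} (hL : PicF.IsInvertible L) (n : ℕ)
    (h : clsMod hL = clsMod (CMReg.isInvertible_twist (n := 1) (k := k) 1) ^ n) :
    Subsingleton (Coh.HH (CohB1.ProjSpace 1 k) L 1) := by
  rw [← cls_twist_pow k n] at h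
  obtain ⟨e⟩ := (Cube.clsMod_eq_iff hL _).1 h
  exact CMReg.subsingleton_of_iso e.symm (ProjCohom.subsingleton_HH (by omega) (by omega))

theorem X_mem (i : Fin (1 + 1)) : (X i : MvPolynomial (Fin (1 + 1)) k) ∈ CohB1.polyGrading 1 k 1 :=
  isHomogeneous_X k i

/-- The coordinate sections of `O(1)`. -/
def coord (i : Fin (1 + 1)) : Γ(Twist.twistProjSpace 1 k 1, ⊤) :=
  gsec (CohB1.polyGrading 1 k) (X i) (X_mem k i)

theorem exists_gen_coord (p : CohB1.ProjSpace 1 k) :
    ∃ (i : Fin (1 + 1)) (W : (CohB1.ProjSpace 1 k).Opens), p ∈ W ∧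
      IsGen (Twist.twistProjSpace 1 k 1) W (mres (Twist.twistProjSpace 1 k 1) le_top (coord k i)) := by
  obtain ⟨i, hi⟩ := Opens.mem_iSup.1 ((Ample.ProjMap.iSup_basicOpen_X 1 k).ge (trivial : p ∈ (⊤ : (CohB1.ProjSpace 1 k).Opens)))
  exact ⟨i, _, hi, GrTilde.isGen_gsec (𝒜 := CohB1.polyGrading 1 k) (N := 1) (X_mem k i)⟩

theorem exists_eq_coord (m : Γ(Twist.twistProjSpace 1 k 1, ⊤)) :
    ∃ c : Fin (1 + 1) → Γ(CohB1.ProjSpace 1 k, ⊤), m = c 0 • coord k 0 + c 1 • coord k 1 := by
  obtain ⟨a, ha, rfl⟩ := Hyperplane.exists_eq_gsec (N := 0) (R := k) (d := 1) m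
  have ha' : a ∈ Submodule.span k (Set.range (X : Fin (1 + 1) → MvPolynomial (Fin (1 + 1)) k)) := by
    rw [← homogeneousSubmodule_one_eq_span_X]; exact ha
  obtain ⟨c, hc⟩ := (Submodule.mem_span_range_iff_exists_fun k).1 ha'
  refine ⟨fun i => ProjCohom.cst (n := 1) ⊤ (c i), Ample.ProjTwist.evT_ext fun y => ?_⟩
  show _ = evT y (ProjCohom.cst (n := 1) ⊤ (c 0) • coord k 0) + evT y (ProjCohom.cst (n := 1) ⊤ (c 1) • coord k 1)
  rw [Ample.ProjTwist.evT_smul, Ample.ProjTwist.evT_smul, ProjCohom.ev_cst, ProjCohom.ev_cst,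
    Ample.ProjTwist.evT_gsec, coord, coord, Ample.ProjTwist.evT_gsec, Ample.ProjTwist.evT_gsec,
    Localization.mk_one_eq_algebraMap, Localization.mk_one_eq_algebraMap, ← map_mul, ← map_mul, ← map_add,
    ← hc, Fin.sum_univ_two, smul_eq_C_mul, smul_eq_C_mul]

/-- No section of `O(1)` generates everywhere. -/
theorem not_isGen_twist (m : Γ(Twist.twistProjSpace 1 k 1, ⊤))
    (h : IsGen (Twist.twistProjSpace 1 k 1) ⊤ m) : False :=
  ArSurf29.not_twist_one_iso_structure k (SemiTriv10.nonempty_iso_of_isGen_top m h)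

end GrothLib.Contract29
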