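import Groth.Agent.Lib.Contract29.ToMinimal
import Groth.Agent.Lib.ArSurf29.DesingEngine

/-!
# A desingularization without contracted exceptional curves
-/

universe u

set_option autoImplicit false
set_option linter.all false
set_option backward.isDefEq.respectTransparency false

open CategoryTheory CategoryTheory.Limits AlgebraicGeometry TopologicalSpace IsLocalRing

noncomputable section

namespace GrothLib.Contract29

variable {R : Type u} [CommRing R] [IsDomain R] [IsDiscreteValuationRing R]
  {Y : Over (Spec (CommRingCat.of R))} [IsProper Y.hom]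

/-- Contract the exceptional curves lying over points of `Y`. -/
theorem exists_no_contracted (V : Y.left.Opens) (hV : (V : Set Y.left).Nonempty)
    (hVη : ∀ y ∈ V, Y.hom y ≠ closedPoint R) :
    ∀ (N : ℕ) {X : Over (Spec (CommRingCat.of R))}, ArSurf.IsArithSurface R X → ∀ (g : X ⟶ Y),
      IsIso (g.left ∣_ V) → (vertPts X.hom).ncard ≤ N →
      ∃ (Z : Over (Spec (CommRingCat.of R))) (g' : Z ⟶ Y), ArSurf.IsArithSurface R Z ∧ IsIso (g'.left ∣_ V) ∧
        ∀ (E : Scheme.{u}) (ι : E ⟶ Z.left) [IsClosedImmersion ι], Models.IsExcCurve ι →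
          ¬ ∃ y : Y.left, Set.range ((ι ≫ g'.left).base : E → Y.left) = {y} := by
  intro N
  induction N using Nat.strong_induction_on with
  | _ N ih =>
    intro X hX g hiso hN
    by_cases hmin : ∀ (E : Scheme.{u}) (ι : E ⟶ X.left) [IsClosedImmersion ι], Models.IsExcCurve ι →
          ¬ ∃ y : Y.left, Set.range ((ι ≫ g.left).base : E → Y.left) = {y}
    · exact ⟨X, g, hX, hiso, hmin⟩
    push Not at hmin
    obtain ⟨E, ι, _, hE, y₀, hy₀⟩ := hmin
    have SX := ArSurf29.isSData_of_isArithSurface hX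
    haveI := SX.integral; haveI := SX.proper; haveI := SX.isNoetherian; haveI := SX.flat
    haveI : IsProper g.left := by
      haveI : IsProper (g.left ≫ Y.hom) := by rw [Over.w g]; infer_instance
      exact IsProper.of_comp g.left Y.hom
    have hycl : IsClosed ({y₀} : Set Y.left) := by
      rw [← hy₀]
      exact (ι ≫ g.left).isClosedMap.isClosed_range
    have hys : Y.hom y₀ = closedPoint R := by
      have h := Y.hom.isClosedMap _ hycl
      rw [Set.image_singleton] at h
      exact (IsLocalRing.specializes_closedPoint (Y.hom y₀)).mem_closed h rfl |>.symm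
    have hfibE : ∀ a, X.hom (ι a) = closedPoint R := fun a => by
      rw [← Over.w g, Scheme.Hom.comp_apply, show g.left (ι a) = y₀ from hy₀.le ⟨a, rfl⟩]
      exact hys
    obtain ⟨F, hF, hFr⟩ := ArSurf29.exists_vertComp_of_excCurve (X := X) ι hE hfibE
    obtain ⟨X', b, y, hy, hX', hc, hgen, hr, hfib, hisob⟩ := exists_arith_contraction hX F hF
    have SX' := ArSurf29.isSData_of_isArithSurface hX'
    haveI := SX'.proper; haveI := SX'.isNoetherian; haveI := SX'.integral
    obtain ⟨-, hbp, y', hy', hrange', hyreg, hd, hblow⟩ := id hc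
    have hyy : y' = y := Set.singleton_injective (hrange'.symm.trans hr)
    subst hyy
    haveI := hbp; haveI := hyreg; haveI := hisob
    haveI := F.isClosedImmersion
    haveI := F.isIntegral
    have hφ : ∀ a, b.left a = y' → g.left a = y₀ := fun a ha => by
      obtain ⟨w, hw⟩ := hFr.le (hfib.le ha)
      rw [← hw]
      exact hy₀.le ⟨w, rfl⟩
    obtain ⟨e₀, he₀⟩ : ∃ a, (F.ι ≫ b.left) a = y' := hr.ge rfl
    obtain ⟨ψ, hψ, -⟩ := GrothLib.ExcP1.existsUnique_factor hy' hd hblow g.left y₀ ⟨F.ι e₀, he₀⟩ hφ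
    have huniq := GrothLib.ExcP1.existsUnique_factor hy' hd hblow (g.left ≫ Y.hom) (closedPoint R) ⟨F.ι e₀, he₀⟩
      fun a ha => by rw [Scheme.Hom.comp_apply, hφ a ha]; exact hys
    have hψY : ψ ≫ Y.hom = X'.hom := huniq.unique (by show b.left ≫ ψ ≫ Y.hom = _; rw [reassoc_of% hψ])
      (by show b.left ≫ X'.hom = _; rw [Over.w b, Over.w g])
    have hψy : ψ y' = y₀ := by
      rw [← he₀, ← Scheme.Hom.comp_apply, Category.assoc, hψ]
      exact hφ _ he₀
    let O : X'.left.Opens := ⟨{y'}ᶜ, hy.isOpen_compl⟩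
    have hle : ψ ⁻¹ᵁ V ≤ O := fun z hz hzy => hVη _ hz (by
      rw [show z = y' from hzy, hψy]
      exact hys)
    haveI : IsIso (b.left ∣_ (ψ ⁻¹ᵁ V)) := GrothLib.Nagata6.isIso_restrict_of_le b.left O _ hle
    have hiso' : IsIso (ψ ∣_ V) := by
      have h := hiso
      rw [show g.left = b.left ≫ ψ from hψ.symm, morphismRestrict_comp] at h
      haveI := h
      exact IsIso.of_isIso_comp_left (b.left ∣_ (ψ ⁻¹ᵁ V)) (ψ ∣_ V)
    let g' : X' ⟶ Y := Over.homMk ψ hψY
    have hw : ∀ a, X'.hom (b.left a) = X.hom a := fun a => by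
      rw [← Scheme.Hom.comp_apply, Over.w b]
    have hlift : ∀ z ∈ vertPts X'.hom, ∃ w ∈ vertPts X.hom \ {F.ι (genericPoint F.curve.left)}, b.left w = z := by
      rintro z ⟨hz, hzc⟩
      have hzy : z ≠ y' := fun h => hzc (h ▸ hy)
      obtain ⟨w, hw'⟩ := (b.left ∣_ O).homeomorph.surjective ⟨z, hzy⟩
      have hbw : b.left w.1 = z := (morphismRestrict_base_coe b.left _ w).symm.trans (congrArg Subtype.val hw')
      refine ⟨w.1, ⟨⟨by rw [← hw, hbw]; exact hz, fun h => hzc ?_⟩, fun h => hzy ?_⟩, hbw⟩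
      · rw [← hbw, ← Set.image_singleton]
        exact b.left.isClosedMap _ h
      · rw [← hbw]
        exact hfib.ge ⟨_, (Set.mem_singleton_iff.1 h).symm⟩
    have hfin : (vertPts X.hom).Finite :=
      ArSurf29.finite_nonclosed_fibre X.hom SX.dim.le (ArSurf29.hom_genericPoint X.hom) (closedPoint R)
        (IsDiscreteValuationRing.not_a_field R)
    have hEmem : F.ι (genericPoint F.curve.left) ∈ vertPts X.hom :=
      ⟨ArSurf29.genPt_mem_fibre F, fun h => CurvePoints.genericPoint_not_isClosed (X := F.curve.left) F.dim_eq (by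
        rw [(F.ι).isClosedEmbedding.isClosed_iff_image_isClosed, Set.image_singleton]
        exact h)⟩
    have hlt : (vertPts X'.hom).ncard < N := by
      choose! φ hφ' hbφ using hlift
      refine lt_of_lt_of_le (lt_of_le_of_lt ?_ (Set.ncard_diff_singleton_lt_of_mem hEmem hfin)) hN
      exact Set.ncard_le_ncard_of_injOn φ hφ' (fun a ha a' ha' h => by rw [← hbφ a ha, ← hbφ a' ha', h])
        (hfin.diff)
    exact ih _ hlt hX' g' hiso' le_rfl

end GrothLib.Contract29
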