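import Groth.Agent.Lib.Contract29.Restrict
import Groth.Agent.Lib.Contract29.Koszul
import Groth.Agent.Lib.ProjDim.Const

/-!
# The maximal ideal of the image point of an exceptional line has two generators
-/

universe u

set_option linter.all false
set_option backward.isDefEq.respectTransparency false

open CategoryTheory CategoryTheory.Limits AlgebraicGeometry Opposite TopologicalSpace
open GrothLib.InvExt (fres)
open GrothLib.IdealModSec (val val_mres val_mem)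
open GrothLib.RatSing29 (gOn GenBy P)
open GrothLib.CartierDescent (stalkIdeal stalkIdeal_eq stalkIdeal_eq_top_iff stalkIdeal_comap)

noncomputable section

namespace GrothLib.Contract29

variable {A : Type u} [CommRing A] {X : Scheme.{u}}

theorem toGlobal_bijective_of_isIso (f : X ⟶ Spec (CommRingCat.of A)) (h : IsIso (f.app ⊤)) :
    Function.Bijective (Coh.toGlobal f) :=
  (ConcreteCategory.bijective_of_isIso ((Scheme.ΓSpecIso (CommRingCat.of A)).inv ≫ f.app ⊤) :)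

theorem ext_le_of_mem [X.Over (Spec (CommRingCat.of A))] {L : Ideal A} {I : X.IdealSheafData}
    (h : ∀ r ∈ L, ∀ U : X.affineOpens, gOn X r U.1 ∈ I.ideal U) : ext X L ≤ I := fun U => by
  show (ext X L).ideal U ≤ I.ideal U
  rw [ideal_ext, Ideal.span_le]
  rintro _ ⟨r, hr, rfl⟩
  exact h r hr U

theorem mem_of_ext_le [X.Over (Spec (CommRingCat.of A))] {L : Ideal A} {I : X.IdealSheafData}
    (h : ext X L ≤ I) {r : A} (hr : r ∈ L) (U : X.affineOpens) : gOn X r U.1 ∈ I.ideal U := by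
  refine h U ?_
  rw [ideal_ext]
  exact Ideal.subset_span ⟨r, hr, rfl⟩

theorem exists_shrink [X.Over (Spec (CommRingCat.of A))] [IsProper (X ↘ Spec (CommRingCat.of A))]
    {E : Scheme.{u}} (j : E ⟶ X) [IsClosedImmersion j] (J : Ideal A) [J.IsMaximal]
    (hfib : Set.range j = {x | J ≤ ((X ↘ Spec (CommRingCat.of A)) x).asIdeal})
    (s : Fin (1 + 1) → A) (hsJ : ∀ i, s i ∈ J) (hgen : ∀ p, ∃ i, GenAt j (s i) p) (hker : ext X J = j.ker) :
    ∃ g ∉ J, ∀ x : X, g ∉ ((X ↘ Spec (CommRingCat.of A)) x).asIdeal →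
      stalkIdeal (ext X (Ideal.span (Set.range s))) x = stalkIdeal j.ker x := by
  let Wgen : X.Opens := ⨆ U : {U : X.affineOpens // ∃ i, j.ker.ideal U = Ideal.span {gOn X (s i) U.1}}, U.1.1
  have hle : ext X (Ideal.span (Set.range s)) ≤ j.ker :=
    (ext_mono (Ideal.span_le.2 (Set.range_subset_iff.2 hsJ))).trans hker.le
  have hS : ∀ x ∈ Wgen, stalkIdeal (ext X (Ideal.span (Set.range s))) x = stalkIdeal j.ker x := by
    intro x hx
    obtain ⟨⟨U, i, hU⟩, hxU⟩ := Opens.mem_iSup.1 hx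
    rw [stalkIdeal_eq _ U hxU, stalkIdeal_eq _ U hxU]
    refine le_antisymm (Ideal.map_mono (hle U)) (Ideal.map_mono ?_)
    rw [hU, Ideal.span_singleton_le_iff_mem]
    exact mem_of_ext_le le_rfl (Ideal.subset_span (show s i ∈ Set.range s from ⟨i, rfl⟩)) U
  let pJ : PrimeSpectrum A := ⟨J, inferInstance⟩
  have hJZ : pJ ∈ ((X ↘ Spec (CommRingCat.of A)) '' (Wgen : Set X)ᶜ)ᶜ := by
    rintro ⟨x, hx, hfx⟩
    obtain ⟨p, rfl⟩ : x ∈ Set.range j := hfib.ge (le_of_eq (congrArg PrimeSpectrum.asIdeal hfx).symm)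
    obtain ⟨i, U, hpU, hU⟩ := hgen p
    exact hx (Opens.mem_iSup.2 ⟨⟨U, i, hU⟩, hpU⟩)
  obtain ⟨_, ⟨g, rfl⟩, hgJ, hgle⟩ := PrimeSpectrum.isTopologicalBasis_basic_opens.exists_subset_of_mem_open hJZ
    ((X ↘ Spec (CommRingCat.of A)).isClosedMap _ Wgen.2.isClosed_compl).isOpen_compl
  exact ⟨g, hgJ, fun x hx => hS x (by_contra fun hW => hgle hx ⟨x, hW, rfl⟩)⟩

section Away

variable {A₁ : Type u} [CommRing A₁] [IsNoetherianRing A₁] (φ : A →+* A₁) {X₁ : Scheme.{u}}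
  [X.Over (Spec (CommRingCat.of A))] [X₁.Over (Spec (CommRingCat.of A₁))] (κ : X₁ ⟶ X) [IsOpenImmersion κ]
  (hκ : (X₁ ↘ Spec (CommRingCat.of A₁)) ≫ Spec.map (CommRingCat.ofHom φ) = κ ≫ (X ↘ Spec (CommRingCat.of A)))
  {E : Scheme.{u}} (j : E ⟶ X) [IsClosedImmersion j] (j₁ : E ⟶ X₁) [IsClosedImmersion j₁] (hj₁ : j₁ ≫ κ = j)
include hκ hj₁

theorem genBy_restrict (s : Fin (1 + 1) → A)
    (hs : ∀ y, stalkIdeal (ext X (Ideal.span (Set.range s))) (κ y) = stalkIdeal j.ker (κ y)) :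
    GenBy j₁.ker (fun i => φ (s i)) := by
  have key : ∀ y, stalkIdeal (ext X₁ ((Ideal.span (Set.range s)).map φ)) y = stalkIdeal j₁.ker y := fun y => by
    rw [stalkIdeal_ext_map φ κ hκ, ← ker_comap_openImmersion κ j j₁ hj₁]
    exact (congrArg _ (hs y)).trans (stalkIdeal_comap j.ker κ y).symm
  intro U
  rw [← le_antisymm (DivPart.le_of_stalkIdeal fun y => (key y).le) (DivPart.le_of_stalkIdeal fun y => (key y).ge),
    Ideal.map_span, ← Set.range_comp, ext_span, ← Set.range_comp]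
  rfl

theorem ext_map_le_pow {rq : A} {q : Γ(ClSub.idealMod (j.ker ^ (1 + 1)), ⊤)}
    (hq : val (j.ker ^ (1 + 1)) ⊤ q = gOn X rq ⊤) :
    ext X₁ ((Ideal.span {rq}).map φ) ≤ j₁.ker ^ (1 + 1) := by
  have h1 : ext X (Ideal.span {rq}) ≤ j.ker ^ (1 + 1) := ext_le_of_mem fun r hr U => by
    obtain ⟨c, rfl⟩ := Ideal.mem_span_singleton'.1 hr
    rw [← gHom_apply, map_mul, gHom_apply U.1 rq, ← val_top_restrict hq U.1]
    exact Ideal.mul_mem_left _ _ (val_mem _ U _)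
  refine DivPart.le_of_stalkIdeal fun y => ?_
  rw [← ker_comap_openImmersion κ j j₁ hj₁, ← GrothLib.BlowUp.comap_pow]
  rw [stalkIdeal_ext_map φ κ hκ, stalkIdeal_comap (j.ker ^ (1 + 1)) κ y]
  refine Ideal.map_mono ?_
  obtain ⟨U, hU, -⟩ := GrothLib.BlowUp.exists_affine_mem_le (W := (⊤ : X.Opens)) (x := κ y) trivial
  rw [stalkIdeal_eq _ U hU, stalkIdeal_eq _ U hU]
  exact Ideal.map_mono (h1 U)

theorem mul_mem_map_span (hcart : _root_.BlowUp.IsEffCartierIdeal j₁.ker)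
    (hbij : Function.Bijective (Coh.toGlobal (X₁ ↘ Spec (CommRingCat.of A₁)))) (a₁ : A₁)
    (hk : ∀ x : Coh.HH X₁ (ClSub.idealMod (j₁.ker ^ 0)) 1, a₁ • x = 0) (s : Fin (1 + 1) → A)
    (hI : GenBy j₁.ker (fun i => φ (s i))) {rq : A} {q : Γ(ClSub.idealMod (j.ker ^ (1 + 1)), ⊤)}
    (hq : val (j.ker ^ (1 + 1)) ⊤ q = gOn X rq ⊤) :
    a₁ * φ rq ∈ (Ideal.span (Set.range s)).map φ := by
  have hle := ext_map_le_pow φ κ hκ j j₁ hj₁ hq
  obtain ⟨q₁, hq₁⟩ := exists_val_pow (j₁.ker ^ (0 + 1 + 1)) (gOn X₁ (φ rq) ⊤) fun U => by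
    rw [fres_gOn]
    exact mem_of_ext_le hle (Ideal.mem_map_of_mem _ (Ideal.mem_span_singleton_self rq)) U
  obtain ⟨v, hv⟩ := exists_combination_mul hI hcart a₁ hk q₁
  obtain ⟨u₀, hu₀⟩ := hbij.2 (val (j₁.ker ^ (0 + 1)) ⊤ (v 0))
  obtain ⟨u₁, hu₁⟩ := hbij.2 (val (j₁.ker ^ (0 + 1)) ⊤ (v 1))
  have hu : φ (s 0) * u₀ + φ (s 1) * u₁ = a₁ * φ rq := by
    refine hbij.1 ?_
    rw [hq₁, ← hu₀, ← hu₁, gOn_top, gOn_top, gOn_top, gOn_top] at hv
    rw [map_add, map_mul, map_mul, map_mul]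
    exact hv
  rw [← hu]
  exact add_mem (Ideal.mul_mem_right _ _ (Ideal.mem_map_of_mem φ (Ideal.subset_span ⟨0, rfl⟩)))
    (Ideal.mul_mem_right _ _ (Ideal.mem_map_of_mem φ (Ideal.subset_span ⟨1, rfl⟩)))

end Away

theorem isMaximal_map {A₁ : Type u} [CommRing A₁] [Algebra A A₁] (g : A) [IsLocalization.Away g A₁] (J : Ideal A)
    [hJ : J.IsMaximal] (q : PrimeSpectrum A₁) (hq : J.map (algebraMap A A₁) ≤ q.asIdeal) :
    (J.map (algebraMap A A₁)).IsMaximal := by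
  obtain ⟨M, hM, hJM⟩ := Ideal.exists_le_maximal (J.map (algebraMap A A₁)) (ne_top_of_le_ne_top q.isPrime.ne_top hq)
  have hc : J = M.comap (algebraMap A A₁) :=
    hJ.eq_of_le (Ideal.comap_ne_top _ hM.ne_top) (Ideal.map_le_iff_le_comap.1 hJM)
  have : J.map (algebraMap A A₁) = M := by rw [hc, IsLocalization.map_comap (Submonoid.powers g)]
  rwa [this]

variable [IsNoetherianRing A] (f : X ⟶ Spec (CommRingCat.of A)) [IsProper f] (happ : ∀ V, IsIso (f.app V))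
  {k : Type u} [Field k] (j : CohB1.ProjSpace 1 k ⟶ X) [IsClosedImmersion j]
  (hj : _root_.BlowUp.IsEffCartierIdeal j.ker) (t : Gr j 1 ≅ Twist.twistProjSpace 1 k 1) (J : Ideal A) [J.IsMaximal]
  (hfib : Set.range j = {x | J ≤ (f x).asIdeal})
include happ hj t hfib

/-- The ideal of the image point is generated by two elements nearby, and pulls back to the ideal of the line. -/
theorem exists_point_generators :
    letI : X.Over (Spec (CommRingCat.of A)) := ⟨f⟩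
    ∃ s : Fin (1 + 1) → A, (∀ i, s i ∈ J) ∧ (∀ r ∈ J, ¬ ∀ p, GenAt j r p) ∧ ext X J = j.ker ∧
      ∃ a ∉ J, ∀ r ∈ J, a * r ∈ Ideal.span (Set.range s) := by
  letI : X.Over (Spec (CommRingCat.of A)) := ⟨f⟩
  haveI : IsProper (X ↘ Spec (CommRingCat.of A)) := ‹IsProper f›
  haveI : IsIntegral (CohB1.ProjSpace 1 k) := ProjDim.isIntegral_proj _ 1
  obtain ⟨N, hN⟩ := exists_pow_le j J hfib
  obtain ⟨s, hsJ, hgen, hsingle, hdec⟩ := exists_generators j hj t J hN (mem_iff j J hfib)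
    (toGlobal_bijective_of_isIso f (happ ⊤)).2
  have hker := ext_eq_ker j J hfib s hsJ hgen
  refine ⟨s, hsJ, hsingle, hker, ?_⟩
  obtain ⟨g, hgJ, hgS⟩ := exists_shrink j J hfib s hsJ hgen hker
  let V0 : (Spec (CommRingCat.of A)).Opens := PrimeSpectrum.basicOpen g
  let A₁ := Localization.Away g
  let e := basicOpenIsoSpecAway (R := CommRingCat.of A) g
  let X₁ : Scheme.{u} := (f ⁻¹ᵁ V0).toScheme
  let f₁ : X₁ ⟶ Spec (CommRingCat.of A₁) := (f ∣_ V0) ≫ e.hom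
  letI : X₁.Over (Spec (CommRingCat.of A₁)) := ⟨f₁⟩
  haveI : IsProper (f ∣_ V0) := IsZariskiLocalAtTarget.restrict ‹IsProper f› V0
  haveI : IsProper (X₁ ↘ Spec (CommRingCat.of A₁)) := inferInstanceAs (IsProper ((f ∣_ V0) ≫ e.hom))
  let κ : X₁ ⟶ X := (f ⁻¹ᵁ V0).ι
  have hκ : (X₁ ↘ Spec (CommRingCat.of A₁)) ≫ Spec.map (CommRingCat.ofHom (algebraMap A A₁)) =
      κ ≫ (X ↘ Spec (CommRingCat.of A)) := by
    show ((f ∣_ V0) ≫ e.hom) ≫ _ = _
    rw [Category.assoc]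
    erw [basicOpenIsoSpecAway_hom_SpecMap]
    exact morphismRestrict_ι f V0
  have hbij : Function.Bijective (Coh.toGlobal f₁) := by
    refine toGlobal_bijective_of_isIso f₁ ?_
    haveI : IsIso (f ∣_ V0).appTop := by
      rw [morphismRestrict_appTop]
      haveI := happ (V0.ι ''ᵁ ⊤)
      infer_instance
    show IsIso ((f ∣_ V0) ≫ e.hom).appTop
    rw [Scheme.Hom.comp_appTop]
    infer_instance
  have hr : Set.range j ⊆ Set.range κ := by
    rw [Scheme.Opens.range_ι]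
    rintro x hx
    show g ∉ (f x).asIdeal
    rw [← ‹J.IsMaximal›.eq_of_le (f x).isPrime.ne_top (hfib.le hx)]
    exact hgJ
  let j₁ := IsOpenImmersion.lift κ j hr
  have hj₁ : j₁ ≫ κ = j := IsOpenImmersion.lift_fac _ _ _
  haveI : IsClosedImmersion (j₁ ≫ κ) := by rw [hj₁]; infer_instance
  haveI : IsClosedImmersion j₁ := IsClosedImmersion.of_comp j₁ κ
  have hcart := isEffCartier_restrict κ j j₁ hj₁ hj
  obtain ⟨t₁⟩ := nonempty_gr_one_restrict κ j j₁ hj₁ hj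
  have hκy : ∀ y, PrimeSpectrum.comap (algebraMap A A₁) (f₁ y) = f (κ y) := fun y =>
    congrArg (fun φ => φ y) hκ
  have hfib₁ : Set.range j₁ = {y | J.map (algebraMap A A₁) ≤ ((X₁ ↘ Spec (CommRingCat.of A₁)) y).asIdeal} := by
    ext y
    rw [Set.mem_setOf_eq, Ideal.map_le_iff_le_comap]
    show _ ↔ J ≤ (PrimeSpectrum.comap (algebraMap A A₁) (f₁ y)).asIdeal
    rw [hκy]
    refine Iff.trans ⟨fun hp => ?_, fun hp => ?_⟩ (Set.ext_iff.1 hfib (κ y))
    · obtain ⟨p, rfl⟩ := hp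
      exact ⟨p, (congrArg (fun φ => φ p) hj₁).symm⟩
    · obtain ⟨p, hp⟩ := hp
      exact ⟨p, κ.isOpenEmbedding.injective ((congrArg (fun φ => φ p) hj₁).trans hp)⟩
  haveI : (J.map (algebraMap A A₁)).IsMaximal :=
    isMaximal_map g J (f₁ (j₁ (genericPoint (CohB1.ProjSpace 1 k)))) (hfib₁.le (Set.mem_range_self _))
  obtain ⟨N₁, hN₁⟩ := exists_pow_le j₁ _ hfib₁
  obtain ⟨a₁, ha₁, hk⟩ := exists_annihilator j₁ hcart (J.map (algebraMap A A₁)) hN₁
    (subsingleton_H1_gr j₁ hcart (t₁ ≪≫ t)) 0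
  have hI := genBy_restrict (algebraMap A A₁) κ hκ j j₁ hj₁ s fun y => hgS (κ y) y.2
  refine exists_notMem_mul_mem J _ g hgJ A₁ a₁ ha₁ fun r hrJ => ?_
  obtain ⟨c, q, hq⟩ := hdec r hrJ
  have hmem := mul_mem_map_span (algebraMap A A₁) κ hκ j j₁ hj₁ hcart hbij a₁ hk s hI hq
  rw [show a₁ * algebraMap A A₁ r = a₁ * algebraMap A A₁ (r - c 0 * s 0 - c 1 * s 1) +
      a₁ * algebraMap A A₁ (c 0 * s 0 + c 1 * s 1) by rw [← mul_add, ← map_add]; congr 2; ring]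
  exact add_mem hmem (Ideal.mul_mem_left _ _ (Ideal.mem_map_of_mem _
    (add_mem (Ideal.mul_mem_left _ _ (Ideal.subset_span ⟨0, rfl⟩))
      (Ideal.mul_mem_left _ _ (Ideal.subset_span ⟨1, rfl⟩)))))

end GrothLib.Contract29
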