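import Groth.Agent.Lib.Contract29.Base
import Groth.Agent.Lib.ArSurf29.Horizontal
import Groth.Agent.Lib.HodgeIndex.Pullback

/-!
# Restricting an exceptional line to an open subscheme; algebra of the base change
-/

universe u

set_option linter.all false
set_option backward.isDefEq.respectTransparency false

open CategoryTheory CategoryTheory.Limits AlgebraicGeometry Opposite TopologicalSpace
open GrothLib.CartierDescent (stalkIdeal stalkIdeal_eq stalkIdeal_eq_top_iff stalkIdeal_comap)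
open GrothLib.RatSing29 (gOn)

noncomputable section

namespace GrothLib.Contract29

section Restrict

variable {X X₁ E : Scheme.{u}} (κ : X₁ ⟶ X) [IsOpenImmersion κ] (j : E ⟶ X) [IsClosedImmersion j]
  (j₁ : E ⟶ X₁) [IsClosedImmersion j₁] (hj₁ : j₁ ≫ κ = j)
include hj₁

theorem ker_comap_openImmersion : j.ker.comap κ = j₁.ker := by
  subst hj₁
  have key : ∀ x, stalkIdeal ((j₁ ≫ κ).ker.comap κ) x = stalkIdeal j₁.ker x := by
    intro x
    rw [stalkIdeal_comap]
    by_cases hx : x ∈ Set.range j₁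
    · obtain ⟨e, rfl⟩ := hx
      have hbij := ConcreteCategory.bijective_of_isIso (κ.stalkMap (j₁ e))
      rw [← ArSurf29.ker_stalkMap_eq_stalkIdeal j₁ e]
      refine (congrArg (Ideal.map (κ.stalkMap (j₁ e)).hom) (show stalkIdeal (j₁ ≫ κ).ker (κ (j₁ e)) =
        RingHom.ker ((j₁.stalkMap e).hom.comp (κ.stalkMap (j₁ e)).hom) from ?_)).trans ?_
      · refine (ArSurf29.ker_stalkMap_eq_stalkIdeal (j₁ ≫ κ) e).symm.trans ?_
        rw [Scheme.Hom.stalkMap_comp, CommRingCat.hom_comp]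
      rw [← RingHom.comap_ker]
      exact Ideal.map_comap_of_surjective _ hbij.2 _
    · have hκx : κ x ∉ (j₁ ≫ κ).ker.support := by
        intro h
        have h' : κ x ∈ closure (Set.range (j₁ ≫ κ)) := (Scheme.Hom.support_ker (j₁ ≫ κ)).le h
        rw [(j₁ ≫ κ).isClosedEmbedding.isClosed_range.closure_eq] at h'
        obtain ⟨e, he⟩ := h'
        exact hx ⟨e, κ.isOpenEmbedding.injective he⟩
      rw [(stalkIdeal_eq_top_iff _ _).2 hκx, Ideal.map_top, eq_comm, stalkIdeal_eq_top_iff]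
      intro h
      have h' : x ∈ closure (Set.range j₁) := (Scheme.Hom.support_ker j₁).le h
      rw [j₁.isClosedEmbedding.isClosed_range.closure_eq] at h'
      exact hx h'
  exact le_antisymm (DivPart.le_of_stalkIdeal fun x => (key x).le) (DivPart.le_of_stalkIdeal fun x => (key x).ge)

variable (hj : _root_.BlowUp.IsEffCartierIdeal j.ker)
include hj

theorem isEffCartier_restrict : _root_.BlowUp.IsEffCartierIdeal j₁.ker := by
  rw [← ker_comap_openImmersion κ j j₁ hj₁]
  exact GrothLib.BlowUp.isEffCartierIdeal_comap_of_flat κ hj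

theorem nonempty_gr_one_restrict : Nonempty (Gr j₁ 1 ≅ Gr j 1) := by
  obtain ⟨φ⟩ := HodgeIndex.nonempty_pullback_idealMod j j₁ (𝟙 E) κ (by rw [Category.id_comp]; exact hj₁)
    (ker_comap_openImmersion κ j j₁ hj₁).symm
    (IdealModSec.isInvertible_of_isEffCartier hj)
    (IdealModSec.isInvertible_of_isEffCartier (isEffCartier_restrict κ j j₁ hj₁ hj))
  exact ⟨eqToIso (by rw [Gr, pow_one]) ≪≫ (Scheme.Modules.pullback j₁).mapIso φ.symm ≪≫
    (Scheme.Modules.pullbackComp j₁ κ).app _ ≪≫ (Scheme.Modules.pullbackCongr hj₁).app _ ≪≫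
    eqToIso (by rw [Gr, pow_one])⟩

end Restrict

section Transfer

variable {A A₁ : Type u} [CommRing A] [CommRing A₁] (φ : A →+* A₁) {X X₁ : Scheme.{u}}
  [X.Over (Spec (CommRingCat.of A))] [X₁.Over (Spec (CommRingCat.of A₁))] (κ : X₁ ⟶ X)
  (hκ : (X₁ ↘ Spec (CommRingCat.of A₁)) ≫ Spec.map (CommRingCat.ofHom φ) = κ ≫ (X ↘ Spec (CommRingCat.of A)))
include hκ

theorem ext_map (L : Ideal A) : ext X₁ (L.map φ) = (ext X L).comap κ := by
  rw [ext, ext, ← GrothLib.BlowUp.comap_idealSheaf φ, ← Scheme.IdealSheafData.comap_comp, hκ,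
    Scheme.IdealSheafData.comap_comp]

theorem stalkIdeal_ext_map (L : Ideal A) (x : X₁) :
    stalkIdeal (ext X₁ (L.map φ)) x = (stalkIdeal (ext X L) (κ x)).map (κ.stalkMap x).hom := by
  rw [ext_map φ κ hκ, stalkIdeal_comap]

end Transfer

/-- Global sections of a power of the ideal from local membership. -/
theorem exists_val_pow {X : Scheme.{u}} (I : X.IdealSheafData) (z : Γ(X, ⊤))
    (hz : ∀ U : X.affineOpens, InvExt.fres X (le_top : U.1 ≤ ⊤) z ∈ I.ideal U) :
    ∃ q : Γ(ClSub.idealMod I, ⊤), IdealModSec.val I ⊤ q = z := by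
  refine (IdealModSec.app_kernel (ClSub.toSubscheme I) ⊤).2 z ?_
  show I.subschemeι.app ⊤ z = 0
  refine I.subscheme.sheaf.eq_of_locally_eq' (fun U : X.affineOpens => I.subschemeι ⁻¹ᵁ U.1) _
    (fun U => homOfLE (I.subschemeι.preimage_mono le_top)) (fun p _ => by
      obtain ⟨U, hx, -⟩ := GrothLib.BlowUp.exists_affine_mem_le (W := (⊤ : X.Opens)) (x := I.subschemeι p) trivial
      exact Opens.mem_iSup.2 ⟨U, hx⟩) _ _ fun U => ?_
  have e := congr($(I.subschemeι.naturality (homOfLE (le_top : U.1 ≤ ⊤)).op) z)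
  simp only [CommRingCat.comp_apply] at e
  refine Eq.trans e.symm ?_
  have h := hz U
  rw [← I.ker_subschemeι_app U, RingHom.mem_ker] at h
  exact h.trans (map_zero _).symm

/-- Clearing denominators. -/
theorem exists_notMem_mul_mem {A : Type u} [CommRing A] [IsNoetherianRing A] (J K : Ideal A) [J.IsMaximal] (g : A)
    (hg : g ∉ J) (A₁ : Type u) [CommRing A₁] [Algebra A A₁] [IsLocalization.Away g A₁] (a₁ : A₁)
    (ha₁ : a₁ - 1 ∈ J.map (algebraMap A A₁))
    (h : ∀ r ∈ J, a₁ * algebraMap A A₁ r ∈ K.map (algebraMap A A₁)) :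
    ∃ a ∉ J, ∀ r ∈ J, a * r ∈ K := by
  obtain ⟨⟨a, ⟨gm, hgm⟩⟩, hsurj⟩ := IsLocalization.surj (Submonoid.powers g) a₁
  change a₁ * algebraMap A A₁ gm = algebraMap A A₁ a at hsurj
  have hgmJ : gm ∉ J := fun hm => by
    obtain ⟨n, rfl⟩ := (Submonoid.mem_powers_iff _ _).1 hgm
    exact hg (‹J.IsMaximal›.isPrime.mem_of_pow_mem n hm)
  have haJ : a ∉ J := by
    intro ha
    have h1 : algebraMap A A₁ gm ∈ J.map (algebraMap A A₁) := by
      have : algebraMap A A₁ a - (a₁ - 1) * algebraMap A A₁ gm = algebraMap A A₁ gm := by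
        rw [sub_mul, one_mul, hsurj]; ring
      rw [← this]
      exact sub_mem (Ideal.mem_map_of_mem _ ha) (Ideal.mul_mem_right _ _ ha₁)
    rw [IsLocalization.algebraMap_mem_map_algebraMap_iff (Submonoid.powers g)] at h1
    obtain ⟨m, hm, hmg⟩ := h1
    obtain ⟨n, rfl⟩ := (Submonoid.mem_powers_iff _ _).1 hm
    rcases ‹J.IsMaximal›.isPrime.mem_or_mem hmg with h' | h'
    · exact hg (‹J.IsMaximal›.isPrime.mem_of_pow_mem n h')
    · exact hgmJ h'
  have h2 : ∀ r ∈ J, ∃ n : ℕ, g ^ n * (a * r) ∈ K := fun r hr => by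
    have : algebraMap A A₁ (a * r) ∈ K.map (algebraMap A A₁) := by
      rw [map_mul, ← hsurj, mul_right_comm]
      exact Ideal.mul_mem_right _ _ (h r hr)
    rw [IsLocalization.algebraMap_mem_map_algebraMap_iff (Submonoid.powers g)] at this
    obtain ⟨m, hm, hmr⟩ := this
    obtain ⟨n, rfl⟩ := (Submonoid.mem_powers_iff _ _).1 hm
    exact ⟨n, hmr⟩
  obtain ⟨T, hT⟩ := IsNoetherian.noetherian J
  choose n hn using fun r : T => h2 r (hT.le (Ideal.subset_span r.2))
  refine ⟨g ^ (Finset.univ.sup n) * a, fun hm => ?_, fun r hr => ?_⟩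
  · rcases ‹J.IsMaximal›.isPrime.mem_or_mem hm with h' | h'
    · exact hg (‹J.IsMaximal›.isPrime.mem_of_pow_mem _ h')
    · exact haJ h'
  · rw [← hT] at hr
    refine Submodule.span_induction (p := fun r _ => g ^ (Finset.univ.sup n) * a * r ∈ K) (fun r hr => ?_)
      (by simp) (fun x y _ _ hx hy => by rw [mul_add]; exact add_mem hx hy)
      (fun c x _ hx => by rw [smul_eq_mul, mul_left_comm]; exact Ideal.mul_mem_left _ c hx) hr
    obtain ⟨d, hd⟩ := Nat.exists_eq_add_of_le (Finset.le_sup (f := n) (Finset.mem_univ ⟨r, hr⟩))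
    rw [hd, pow_add, show g ^ n ⟨r, hr⟩ * g ^ d * a * r = g ^ d * (g ^ n ⟨r, hr⟩ * (a * r)) by ring]
    exact Ideal.mul_mem_left _ _ (hn ⟨r, hr⟩)

end GrothLib.Contract29
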