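import Groth.Agent.Lib.ArSurf29.DivSum
import Groth.Agent.Lib.ArSurf29.Inter
import Groth.Agent.Lib.CMReg.StructureMain

/-!
# The filtration of an effective Cartier divisor by powers of its ideal
-/

universe u

set_option linter.all false
set_option backward.isDefEq.respectTransparency false

open CategoryTheory CategoryTheory.Limits AlgebraicGeometry Opposite TopologicalSpace
open GrothLib.Cube (clsMod)

noncomputable section

namespace GrothLib.Contract29

variable {X : Scheme.{u}}

theorem exists_seq_mul (D K : X.IdealSheafData) (hD : PicF.IsInvertible (ClSub.idealMod D))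
    (hK : PicF.IsInvertible (ClSub.idealMod K)) {E : Scheme.{u}} (j : E ⟶ X) [IsClosedImmersion j] (hj : j.ker = K)
    (D' : X.IdealSheafData) (hD' : D' = D * K) (h : D' ≤ D) :
    ∃ (θ : ClSub.idealMod D ⟶ (Scheme.Modules.pushforward j).obj ((Scheme.Modules.pullback j).obj (ClSub.idealMod D)))
      (w : HodgeIndex.idealIncl h ≫ θ = 0), (ShortComplex.mk (HodgeIndex.idealIncl h) θ w).ShortExact := by
  subst hD' hj
  let F := (DCoh.tensorBi (X := X)).obj (ClSub.idealMod D)
  let Φ := (DCoh.tensorBi (X := X)).flip.obj (ClSub.idealMod D)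
  have hfl := Euler.isFinLocFree_of_isInvertible hD
  let ν : Φ ≅ F := (OX.tensorBraiding (X := X)).app (ClSub.idealMod D)
  haveI : Φ.PreservesZeroMorphisms := inferInstance
  haveI : F.PreservesZeroMorphisms := inferInstance
  let SK := ShortComplex.mk (ClSub.idealModι j.ker) (ClSub.toSubscheme j.ker) (kernel.condition _)
  have hT : (SK.map F).ShortExact :=
    ShortComplex.shortExact_of_iso (SK.mapNatIso ν)
      (OX.tensor_map_shortExact (OX.flat_of_isFinLocFree hfl) (ArSurf29.shortExact_ideal j.ker))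
  obtain ⟨e, he⟩ := ArSurf29.exists_iso_mul D j.ker hD hK
  let e₂ : F.obj (Coh.structureModule X) ≅ ClSub.idealMod D := Euler.tFUnitIso (ClSub.idealMod D)
  obtain ⟨q⟩ := CMReg.nonempty_tensorMod_push j (ClSub.idealMod D) hfl
  let e₃ : F.obj (ClSub.quotMod j.ker) ≅
      (Scheme.Modules.pushforward j).obj ((Scheme.Modules.pullback j).obj (ClSub.idealMod D)) :=
    F.mapIso (ArSurf29.pushUnitIsoQuot j).symm ≪≫ GrTilde.tensorModComm _ _ ≪≫ q
  have h1 : e.hom ≫ HodgeIndex.idealIncl h = F.map (ClSub.idealModι j.ker) ≫ e₂.hom := by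
    haveI : Mono (ClSub.idealModι D) := inferInstanceAs (Mono (kernel.ι (ClSub.toSubscheme D)))
    rw [← cancel_mono (ClSub.idealModι D), Category.assoc]
    refine Eq.trans ?_ he
    exact congrArg (e.hom ≫ ·) (kernel.lift_ι _ _ _)
  have w : HodgeIndex.idealIncl h ≫ (e₂.inv ≫ F.map (ClSub.toSubscheme j.ker) ≫ e₃.hom) = 0 := by
    rw [← cancel_epi e.hom, ← Category.assoc, h1, Category.assoc, Iso.hom_inv_id_assoc, ← Category.assoc,
      ← F.map_comp, show ClSub.idealModι j.ker ≫ ClSub.toSubscheme j.ker = 0 from kernel.condition _]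
    simp
  refine ⟨_, w, ShortComplex.shortExact_of_iso (ShortComplex.isoMk e e₂ e₃ ?_ ?_) hT⟩
  · exact h1
  · show e₂.hom ≫ e₂.inv ≫ F.map (ClSub.toSubscheme j.ker) ≫ e₃.hom = F.map (ClSub.toSubscheme j.ker) ≫ e₃.hom
    rw [Iso.hom_inv_id_assoc]

variable {E : Scheme.{u}} (j : E ⟶ X) [IsClosedImmersion j]

/-- The graded pieces. -/
abbrev Gr (n : ℕ) : E.Modules := (Scheme.Modules.pullback j).obj (ClSub.idealMod (j.ker ^ n))

theorem pow_succ_le (I : X.IdealSheafData) (n : ℕ) : I ^ (n + 1) ≤ I ^ n := by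
  rw [pow_succ]; exact ArSurf29.mul_le_left' _ _

variable (hj : _root_.BlowUp.IsEffCartierIdeal j.ker)
include hj

theorem isInvertible_pow (n : ℕ) : PicF.IsInvertible (ClSub.idealMod (j.ker ^ n)) :=
  (ArSurf29.cls_idealMod_pow hj n).choose

theorem exists_seq (n : ℕ) :
    ∃ (θ : ClSub.idealMod (j.ker ^ n) ⟶ (Scheme.Modules.pushforward j).obj (Gr j n))
      (w : HodgeIndex.idealIncl (pow_succ_le j.ker n) ≫ θ = 0),
      (ShortComplex.mk (HodgeIndex.idealIncl (pow_succ_le j.ker n)) θ w).ShortExact :=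
  exists_seq_mul (j.ker ^ n) j.ker (isInvertible_pow j hj n) (IdealModSec.isInvertible_of_isEffCartier hj) j rfl _
    (pow_succ _ _) _

theorem cls_gr (n : ℕ) : clsMod (Ample.isInvertible_pullback j (isInvertible_pow j hj n)) =
    clsMod (Ample.isInvertible_pullback j (isInvertible_pow j hj 1)) ^ n := by
  rw [Cube.clsMod_pullback j (isInvertible_pow j hj n), Cube.clsMod_pullback j (isInvertible_pow j hj 1), ← map_pow]
  refine congrArg (Cube.pull j) ?_
  rw [(ArSurf29.cls_idealMod_pow hj n).choose_spec, (ArSurf29.cls_idealMod_pow hj 1).choose_spec, pow_one]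

end GrothLib.Contract29
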