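import Groth.Agent.Lib.Contract29.ProperAmple
import Groth.Agent.Lib.Contract29.ArSurf
import Groth.Agent.Lib.ArSurf29.MinimalEngine

/-!
# Every regular proper model maps to a minimal one
-/

universe u

set_option autoImplicit false
set_option linter.all false
set_option backward.isDefEq.respectTransparency false

open CategoryTheory CategoryTheory.Limits AlgebraicGeometry TopologicalSpace IsLocalRing

noncomputable section

namespace GrothLib.Contract29

variable {R : Type u} [CommRing R] [IsDomain R] [IsDiscreteValuationRing R]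
  {C : Scheme.{u}} {f : C ⟶ Spec (CommRingCat.of (FractionRing R))} [IsIntegral C]

/-- The points of the closed fibre which are not closed. -/
def vertPts {Y : Scheme.{u}} (q : Y ⟶ Spec (CommRingCat.of R)) : Set Y :=
  {z | q z = closedPoint R ∧ ¬ IsClosed ({z} : Set Y)}

omit [IsIntegral C] in
theorem arith_of_mdata {Y : Scheme.{u}} {q : Y ⟶ Spec (CommRingCat.of R)} {g : C ⟶ Y}
    (hY : ArSurf29.IsMData f Y q g) [IsIntegral Y] (hdim : topologicalKrullDim Y = 2) :
    ArSurf.IsArithSurface R (Over.mk q) := by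
  haveI : IsProper (Over.mk q).hom := hY.proper
  haveI : Flat (Over.mk q).hom := hY.flat
  haveI : IsIntegral (Over.mk q).left := ‹IsIntegral Y›
  obtain ⟨L, hL⟩ := exists_isAmple_of_proper (X := Over.mk q) hY.reg hdim
  exact ⟨hY.reg, ‹IsIntegral Y›, hdim, hY.flat, isProjectiveOver_of_isAmple (Over.mk q) hL⟩

omit [IsIntegral C] in
theorem mdata_of_genericFibre_iso {Y : Over (Spec (CommRingCat.of R))} {X : Over (Spec (CommRingCat.of R))}
    {g : C ⟶ Y.left} (hY : ArSurf29.IsMData f Y.left Y.hom g) (hX : ArSurf.IsArithSurface R X) (b : Y ⟶ X)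
    [IsIso ((Neron.genericFibre R).map b)] : ArSurf29.IsMData f X.left X.hom (g ≫ b.left) := by
  haveI : IsIso ((Neron.genericFibre R).map b).left := (Over.forget _).map_isIso ((Neron.genericFibre R).map b)
  refine ⟨ArSurf29.isProper_of_isArithSurface hX, hX.2.2.2.1, hX.1, ?_⟩
  refine IsPullback.of_iso (IsPullback.of_hasPullback X.hom (Neron.genPt R))
    ((asIso ((Neron.genericFibre R).map b).left).symm ≪≫ hY.pb.isoPullback.symm) (Iso.refl _) (Iso.refl _) (Iso.refl _)
    ?_ ?_ ?_ ?_
  · simp only [Iso.refl_hom, Category.comp_id, Iso.trans_hom, Iso.symm_hom, asIso_inv, Category.assoc]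
    rw [reassoc_of% hY.pb.isoPullback_inv_fst, IsIso.eq_inv_comp]
    exact ArSurf29.genericFibre_map_fst b
  · simp only [Iso.refl_hom, Category.comp_id, Iso.trans_hom, Iso.symm_hom, asIso_inv, Category.assoc]
    rw [hY.pb.isoPullback_inv_snd, IsIso.eq_inv_comp]
    exact Over.w ((Neron.genericFibre R).map b)
  · simp
  · simp only [Iso.refl_hom, Category.comp_id]
    exact (Category.id_comp _).symm

theorem exists_minimal (hC : topologicalKrullDim C = 1) (hf : IsProper f) :
    ∀ (N : ℕ) {Y : Scheme.{u}} {q : Y ⟶ Spec (CommRingCat.of R)} {g : C ⟶ Y}, ArSurf29.IsMData f Y q g →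
      (vertPts q).ncard ≤ N →
      ∃ (X : Scheme.{u}) (p : X ⟶ Spec (CommRingCat.of R)) (gX : C ⟶ X) (b : Y ⟶ X),
        ArSurf29.IsMData f X p gX ∧ (∀ Γ : ArSurf.VertComp R (Over.mk p), ¬ Models.IsExcCurve Γ.ι) ∧
        b ≫ p = q ∧ g ≫ b = gX ∧ Models.IsContractionSeq b := by
  intro N
  induction N using Nat.strong_induction_on with
  | _ N ih =>
    intro Y q g hY hN
    by_cases hmin : ∀ Γ : ArSurf.VertComp R (Over.mk q), ¬ Models.IsExcCurve Γ.ι
    · exact ⟨Y, q, g, 𝟙 Y, hY, hmin, Category.id_comp _, Category.comp_id _,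
        Models.IsContractionSeq.iso (Iso.refl Y)⟩
    push Not at hmin
    obtain ⟨E, hE⟩ := hmin
    haveI := hY.isIntegral
    haveI := hY.proper
    haveI := hY.flat
    haveI := hY.isNoetherian
    obtain ⟨X, b, y, hy, hX, hc, hgen, hr, hfib, hiso⟩ :=
      exists_arith_contraction (arith_of_mdata hY (hY.dim_eq hC hf)) E hE
    haveI := hgen
    haveI := E.isClosedImmersion
    haveI := E.isIntegral
    haveI : IsClosedImmersion (Y := Y) E.ι := E.isClosedImmersion
    haveI := hiso
    have hX' := mdata_of_genericFibre_iso (Y := Over.mk q) hY hX b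
    have hw : ∀ a, X.hom (b.left a) = q a := fun a => by
      rw [← Scheme.Hom.comp_apply, Over.w b]; rfl
    haveI : IsProper (b.left ≫ X.hom) := by rw [Over.w b]; exact hY.proper
    haveI : IsProper X.hom := hX'.proper
    haveI : IsProper b.left := IsProper.of_comp b.left X.hom
    have hlift : ∀ z ∈ vertPts X.hom, ∃ w ∈ vertPts q \ {E.ι (genericPoint E.curve.left)}, b.left w = z := by
      rintro z ⟨hz, hzc⟩
      have hzy : z ≠ y := fun h => hzc (h ▸ hy)
      obtain ⟨w, hw'⟩ := (b.left ∣_ (⟨{y}ᶜ, hy.isOpen_compl⟩ : X.left.Opens)).homeomorph.surjective ⟨z, hzy⟩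
      have hbw : b.left w.1 = z := (morphismRestrict_base_coe b.left _ w).symm.trans (congrArg Subtype.val hw')
      refine ⟨w.1, ⟨⟨by rw [← hw, hbw]; exact hz, fun h => hzc ?_⟩, fun h => hzy ?_⟩, hbw⟩
      · rw [← hbw, ← Set.image_singleton]
        exact b.left.isClosedMap _ h
      · rw [← hbw]
        exact hfib.ge ⟨_, (Set.mem_singleton_iff.1 h).symm⟩
    have hfin : (vertPts q).Finite :=
      ArSurf29.finite_nonclosed_fibre q (hY.dim_eq hC hf).le (ArSurf29.hom_genericPoint q) (closedPoint R)
        (IsDiscreteValuationRing.not_a_field R)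
    have hEmem : E.ι (genericPoint E.curve.left) ∈ vertPts q :=
      ⟨ArSurf29.genPt_mem_fibre E, fun h => CurvePoints.genericPoint_not_isClosed (X := E.curve.left) E.dim_eq (by
        rw [(E.ι).isClosedEmbedding.isClosed_iff_image_isClosed, Set.image_singleton]
        exact h)⟩
    have hlt : (vertPts X.hom).ncard < N := by
      choose! φ hφ hbφ using hlift
      refine lt_of_lt_of_le (lt_of_le_of_lt ?_ (Set.ncard_diff_singleton_lt_of_mem hEmem hfin)) hN
      exact Set.ncard_le_ncard_of_injOn φ hφ (fun a ha a' ha' h => by rw [← hbφ a ha, ← hbφ a' ha', h])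
        (hfin.diff)
    obtain ⟨X', p, gX, r, hX'', hmin', hrp, hgr, hseq⟩ := ih _ hlt hX' le_rfl
    exact ⟨X', p, gX, b.left ≫ r, hX'', hmin', by rw [Category.assoc, hrp]; exact Over.w b,
      by rw [← Category.assoc, hgr], Models.IsContractionSeq.step E.ι b.left r E.isClosedImmersion hE hc hseq⟩

end GrothLib.Contract29
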